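import Cfsg.Prelude.Def_LocalEven
import Cfsg.Prelude.Def_PLocal
import Cfsg.Agent.Lib.Cores.Basic
import Mathlib.GroupTheory.IsSubnormal

/-!
Chief factors below a normal `p`-subgroup: abelian, centralized by normal `p`-subgroups; the kernel of
the action on all chief factors below `M`; iterated commutators with one element as iterates of a map;
complements in a chief factor for subgroups subnormal in `G`.
-/

namespace CfsgLib.Techniques.Chief

open Subgroup Cfsg
open scoped commutatorElement

variable {G : Type*} [Group G]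

theorem elt_mul_left (x y z : G) : ⁅x * y, z⁆ = x * ⁅y, z⁆ * x⁻¹ * ⁅x, z⁆ := by
  simp only [commutatorElement_def]; group

theorem elt_mul_right (x y z : G) : ⁅x, y * z⁆ = ⁅x, y⁆ * (y * ⁅x, z⁆ * y⁻¹) := by
  simp only [commutatorElement_def]; group

theorem elt_conj (g x y : G) : g * ⁅x, y⁆ * g⁻¹ = ⁅g * x * g⁻¹, g * y * g⁻¹⁆ := by
  simp only [commutatorElement_def]; group

theorem le_normalizer_of_normal (V : Subgroup G) [V.Normal] (H : Subgroup G) :
    H ≤ normalizer (V : Set G) := by
  rw [normalizer_eq_top]; exact le_top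

theorem mem_normalizer_of_normal (V : Subgroup G) [V.Normal] (g : G) :
    g ∈ normalizer (V : Set G) := le_normalizer_of_normal V ⊤ (mem_top g)

/-- Commutators with a cyclic subgroup are controlled by the generator. -/
theorem commutator_zpowers_le {H K : Subgroup G} {g : G} (hK : g ∈ normalizer (K : Set G))
    (h : ∀ u ∈ H, ⁅u, g⁆ ∈ K) : ⁅H, zpowers g⁆ ≤ K := by
  let T : Subgroup G :=
    { carrier := {x | x ∈ normalizer (K : Set G) ∧ ∀ u ∈ H, ⁅u, x⁆ ∈ K}
      one_mem' := ⟨one_mem _, fun u _ => by simp⟩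
      mul_mem' := fun {x y} hx hy => ⟨mul_mem hx.1 hy.1, fun u hu => by
        rw [elt_mul_right]
        exact mul_mem (hx.2 u hu) ((mem_normalizer_iff.1 hx.1 _).1 (hy.2 u hu))⟩
      inv_mem' := fun {x} hx => ⟨inv_mem hx.1, fun u hu => by
        have := (mem_normalizer_iff.1 (inv_mem hx.1) _).1 (inv_mem (hx.2 u hu))
        rwa [show x⁻¹ * ⁅u, x⁆⁻¹ * x⁻¹⁻¹ = ⁅u, x⁻¹⁆ by
          simp only [commutatorElement_def]; group] at this⟩ }
  have hle : zpowers g ≤ T := zpowers_le.2 ⟨hK, h⟩
  rw [commutator_le]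
  exact fun u hu x hx => (hle hx).2 u hu

/-- `iterCommutator U ⟨g⟩ n ≤ V` elementwise. -/
theorem iter_le_iff {U V : Subgroup G} {g : G} (hU : g ∈ normalizer (U : Set G))
    (hV : g ∈ normalizer (V : Set G)) (hVU : V ≤ U) (hUU : ⁅U, U⁆ ≤ V) (n : ℕ) :
    iterCommutator U (zpowers g) n ≤ V ↔ ∀ u ∈ U, (fun x => ⁅x, g⁆)^[n] u ∈ V := by
  constructor
  · intro h u hu
    refine h ?_
    have : ∀ k, (fun x => ⁅x, g⁆)^[k] u ∈ iterCommutator U (zpowers g) k := by
      intro k
      induction k with
      | zero => exact hu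
      | succ k ih =>
        rw [Function.iterate_succ_apply']
        exact commutator_mem_commutator ih (mem_zpowers g)
    exact this n
  · induction n generalizing V with
    | zero => exact fun h u hu => h u hu
    | succ n ih =>
      intro h
      have hUV : U ≤ normalizer (V : Set G) := by
        intro u hu
        refine mem_normalizer_iff.2 fun v => ⟨fun hv => ?_, fun hv => ?_⟩
        · have := mul_mem (hUU (commutator_mem_commutator hu (hVU hv))) hv
          rwa [show ⁅u, v⁆ * v = u * v * u⁻¹ by simp only [commutatorElement_def]; group] at this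
        · have hvU : v ∈ U := by
            have := mul_mem (mul_mem (inv_mem hu) (hVU hv)) hu
            rwa [show u⁻¹ * (u * v * u⁻¹) * u = v by group] at this
          have := mul_mem (hUU (commutator_mem_commutator (inv_mem hu) (hVU hv))) hv
          rwa [show ⁅u⁻¹, u * v * u⁻¹⁆ * (u * v * u⁻¹) = v by
            simp only [commutatorElement_def]; group] at this
      let K : Subgroup G :=
        { carrier := {x | x ∈ U ∧ ⁅x, g⁆ ∈ V}
          one_mem' := ⟨one_mem _, by simp⟩
          mul_mem' := fun {x y} hx hy => ⟨mul_mem hx.1 hy.1, by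
            rw [elt_mul_left]
            exact mul_mem ((mem_normalizer_iff.1 (hUV hx.1) _).1 hy.2) hx.2⟩
          inv_mem' := fun {x} hx => ⟨inv_mem hx.1, by
            have := (mem_normalizer_iff.1 (hUV (inv_mem hx.1)) _).1 (inv_mem hx.2)
            rwa [show x⁻¹ * ⁅x, g⁆⁻¹ * x⁻¹⁻¹ = ⁅x⁻¹, g⁆ by
              simp only [commutatorElement_def]; group] at this⟩ }
      have hgK : g ∈ normalizer (K : Set G) := by
        refine mem_normalizer_iff.2 fun x => ?_
        show x ∈ U ∧ ⁅x, g⁆ ∈ V ↔ g * x * g⁻¹ ∈ U ∧ ⁅g * x * g⁻¹, g⁆ ∈ V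
        rw [← mem_normalizer_iff.1 hU x,
          show ⁅g * x * g⁻¹, g⁆ = g * ⁅x, g⁆ * g⁻¹ by simp only [commutatorElement_def]; group,
          ← mem_normalizer_iff.1 hV]
      have hVK : V ≤ K := fun v hv => ⟨hVU hv, by
        have h2 := mul_mem hv ((mem_normalizer_iff.1 hV _).1 (inv_mem hv))
        rwa [show v * (g * v⁻¹ * g⁻¹) = ⁅v, g⁆ by simp only [commutatorElement_def]; group] at h2⟩
      have hiter : ∀ k, ∀ u ∈ U, (fun x => ⁅x, g⁆)^[k] u ∈ U := by
        intro k
        induction k with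
        | zero => exact fun u hu => hu
        | succ k ihk =>
          intro u hu
          rw [Function.iterate_succ_apply']
          have h2 := mul_mem (ihk u hu) ((mem_normalizer_iff.1 hU _).1 (inv_mem (ihk u hu)))
          rwa [show ∀ w : G, w * (g * w⁻¹ * g⁻¹) = ⁅w, g⁆ from fun w => by
            simp only [commutatorElement_def]; group] at h2
      have hK : iterCommutator U (zpowers g) n ≤ K :=
        ih hgK (fun x hx => hx.1) (hUU.trans hVK) fun u hu => ⟨hiter n u hu, by
          have := h u hu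
          rwa [Function.iterate_succ_apply'] at this⟩
      exact commutator_zpowers_le hV fun u hu => (hK hu).2

theorem iter_le_iff_normal {U V : Subgroup G} [U.Normal] [V.Normal] (hVU : V ≤ U)
    (hUU : ⁅U, U⁆ ≤ V) (g : G) (n : ℕ) :
    iterCommutator U (zpowers g) n ≤ V ↔ ∀ u ∈ U, (fun x => ⁅x, g⁆)^[n] u ∈ V :=
  iter_le_iff (mem_normalizer_of_normal U g) (mem_normalizer_of_normal V g) hVU hUU n

/-! ### Chief factors below a normal `p`-subgroup -/

theorem commutator_sup_sup_le {A B M X : Subgroup G} [X.Normal] (hA : ⁅A, M⁆ ≤ X)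
    (hB : ⁅B, M⁆ ≤ X) : ⁅A ⊔ B, M⁆ ≤ X := by
  have h : ∀ {A : Subgroup G}, ⁅A, M⁆ ≤ X →
      A ≤ (centralizer ((M.map (QuotientGroup.mk' X) : Subgroup (G ⧸ X)) : Set (G ⧸ X))).comap
        (QuotientGroup.mk' X) := by
    intro A hA
    rw [← map_le_iff_le_comap, ← commutator_eq_bot_iff_le_centralizer, ← map_commutator,
      Subgroup.map_eq_bot_iff, QuotientGroup.ker_mk']
    exact hA
  have h2 := sup_le (h hA) (h hB)
  rwa [← map_le_iff_le_comap, ← commutator_eq_bot_iff_le_centralizer, ← map_commutator,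
    Subgroup.map_eq_bot_iff, QuotientGroup.ker_mk'] at h2

theorem commutator_le_of_chief [Finite G] {p : ℕ} [Fact p.Prime] {U V : Subgroup G}
    (h : IsChiefFactor U V) (hU : IsPGroup p U) {N : Subgroup G} [N.Normal] (hN : IsPGroup p N) :
    ⁅U, N⁆ ≤ V := by
  obtain ⟨hlt, hUn, hVn, hch⟩ := h
  rcases hch (⁅U, N⁆ ⊔ V) inferInstance le_sup_right
    (sup_le (commutator_le_left U N) hlt.le) with h | h
  · exact le_sup_left.trans h.le
  · exfalso
    let M := U ⊔ N
    have hM : IsPGroup p M := hU.to_sup_of_normal_right hN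
    have hMn : M.Normal := inferInstance
    have : Group.IsNilpotent M := hM.isNilpotent
    obtain ⟨m, hm⟩ := (isNilpotent_iff_lowerCentralSeries (S := M)).1 this
    have hLn : ∀ n, (M.lowerCentralSeries n).Normal := fun n => by
      induction n with
      | zero => exact hMn
      | succ n ih =>
        show (⁅M.lowerCentralSeries n, M⁆).Normal
        infer_instance
    have key : ∀ n, U ≤ M.lowerCentralSeries n ⊔ V := by
      intro n
      induction n with
      | zero => exact le_sup_left.trans le_sup_left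
      | succ n ih =>
        have := hLn (n + 1)
        have := hLn n
        calc U ≤ ⁅U, N⁆ ⊔ V := h.ge
          _ ≤ M.lowerCentralSeries (n + 1) ⊔ V := by
            refine sup_le ((commutator_mono ih (le_sup_right (a := U))).trans ?_) le_sup_right
            exact commutator_sup_sup_le (le_sup_left)
              ((commutator_le_left V M).trans le_sup_right)
    have := key m
    rw [hm, bot_sup_eq] at this
    exact hlt.not_ge this

theorem chief_comm [Finite G] {p : ℕ} [Fact p.Prime] {U V : Subgroup G} (h : IsChiefFactor U V)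
    (hU : IsPGroup p U) : ⁅U, U⁆ ≤ V :=
  haveI := h.2.1
  commutator_le_of_chief h hU hU

theorem exists_chief_top [Finite G] {N M : Subgroup G} (hN : N.Normal) (hM : M.Normal)
    (h : N < M) : ∃ V, N ≤ V ∧ IsChiefFactor M V := by
  obtain ⟨V, hNV, hV⟩ := Finite.exists_le_maximal
    (p := fun V : Subgroup G => V.Normal ∧ N ≤ V ∧ V < M) ⟨hN, le_rfl, h⟩
  refine ⟨V, hNV, hV.prop.2.2, hM, hV.prop.1, fun K hK hVK hKM => ?_⟩
  rcases eq_or_lt_of_le hKM with h' | h'
  · exact Or.inr h'
  · exact Or.inl (hV.eq_of_le ⟨hK, hV.prop.2.1.trans hVK, h'⟩ hVK).symm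

theorem exists_chief_bot [Finite G] {N M : Subgroup G} (hN : N.Normal) (hM : M.Normal)
    (h : N < M) : ∃ U, U ≤ M ∧ IsChiefFactor U N := by
  obtain ⟨U, hUM, hU⟩ := Finite.exists_le_minimal
    (p := fun U : Subgroup G => U.Normal ∧ N < U ∧ U ≤ M) ⟨hM, h, le_rfl⟩
  refine ⟨U, hUM, hU.prop.2.1, hU.prop.1, hN, fun K hK hNK hKU => ?_⟩
  rcases eq_or_lt_of_le hNK with h' | h'
  · exact Or.inl h'.symm
  · exact Or.inr (hU.eq_of_le ⟨hK, h', hKU.trans hU.prop.2.2⟩ hKU)

/-- The kernel of the action of `G` on all chief factors of `G` below `M`. -/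
def chiefKer (M : Subgroup G) : Subgroup G where
  carrier := {g | ∀ U V : Subgroup G, IsChiefFactor U V → U ≤ M → ∀ u ∈ U, ⁅u, g⁆ ∈ V}
  one_mem' := fun U V _ _ u _ => by simp
  mul_mem' := fun {x y} hx hy U V h hM u hu => by
    rw [elt_mul_right]
    exact mul_mem (hx U V h hM u hu) (h.2.2.1.conj_mem _ (hy U V h hM u hu) x)
  inv_mem' := fun {x} hx U V h hM u hu => by
    have := h.2.2.1.conj_mem _ (inv_mem (hx U V h hM u hu)) x⁻¹
    rwa [show x⁻¹ * ⁅u, x⁆⁻¹ * x⁻¹⁻¹ = ⁅u, x⁻¹⁆ by
      simp only [commutatorElement_def]; group] at this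

instance (M : Subgroup G) : (chiefKer M).Normal :=
  ⟨fun n hn g U V h hM u hu => by
    have h1 := hn U V h hM (g⁻¹ * u * g) (by simpa using h.2.1.conj_mem u hu g⁻¹)
    have := h.2.2.1.conj_mem _ h1 g
    rwa [elt_conj, show g * (g⁻¹ * u * g) * g⁻¹ = u by group] at this⟩

theorem centralizer_le_chiefKer (M : Subgroup G) : centralizer (M : Set G) ≤ chiefKer M :=
  fun g hg U V _ hM u hu => by
    rw [commutatorElement_eq_one_iff_mul_comm.2 (mem_centralizer_iff.1 hg u (hM hu))]
    exact one_mem V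

theorem pGroup_le_chiefKer [Finite G] {p : ℕ} [Fact p.Prime] {M N : Subgroup G}
    (hM : IsPGroup p M) [N.Normal] (hN : IsPGroup p N) : N ≤ chiefKer M :=
  fun _ hg _ _ h hUM _ hu => commutator_le_of_chief h (hM.to_le hUM) hN
    (commutator_mem_commutator hu hg)

theorem centralizes_of_coprime [Finite G] {p : ℕ} [Fact p.Prime] {M : Subgroup G} [M.Normal]
    (hM : IsPGroup p M) {g : G} (hg : g ∈ chiefKer M) (hc : (orderOf g).Coprime p) :
    g ∈ centralizer (M : Set G) := by
  suffices H : ∀ N : Subgroup G, N.Normal → N ≤ M → ∀ x ∈ N, g * x = x * g from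
    mem_centralizer_iff.2 fun x hx => (H M inferInstance le_rfl x hx).symm
  intro N
  induction N using WellFoundedLT.induction with
  | ind N ih =>
    intro hN hNM x hx
    rcases eq_or_ne N ⊥ with h | h
    · subst h; rw [mem_bot.1 hx]; simp
    · obtain ⟨V, -, hV⟩ := exists_chief_top normal_bot hN (bot_lt_iff_ne_bot.2 h)
      have hc' := ih V hV.1 hV.2.2.1 (hV.1.le.trans hNM)
      have hv : ⁅g, x⁆ ∈ V := by
        have := inv_mem (hg N V hV hNM x hx)
        rwa [commutatorElement_inv] at this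
      obtain ⟨v, hv, hvx⟩ : ∃ v ∈ V, g * x * g⁻¹ = v * x :=
        ⟨_, hv, by simp only [commutatorElement_def]; group⟩
      have hk : ∀ k : ℕ, g ^ k * x * (g ^ k)⁻¹ = v ^ k * x := by
        intro k
        induction k with
        | zero => simp
        | succ k ihk =>
          have hgv : Commute g (v ^ k) := Commute.pow_right (hc' v hv) k
          calc g ^ (k + 1) * x * (g ^ (k + 1))⁻¹
              = g * (g ^ k * x * (g ^ k)⁻¹) * g⁻¹ := by rw [pow_succ']; group
            _ = g * v ^ k * x * g⁻¹ := by rw [ihk]; group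
            _ = v ^ k * g * x * g⁻¹ := by rw [hgv.eq]
            _ = v ^ k * (g * x * g⁻¹) := by group
            _ = v ^ (k + 1) * x := by rw [hvx, pow_succ]; group
      have h1 := hk (orderOf g)
      rw [pow_orderOf_eq_one] at h1
      have h2 : v ^ orderOf g = 1 := by simpa using h1.symm
      obtain ⟨n, hn⟩ := hM.to_le (hV.1.le.trans hNM) ⟨v, hv⟩
      have h3 : v ^ p ^ n = 1 := congrArg Subtype.val hn
      have h4 : v = 1 := by
        rw [← orderOf_eq_one_iff]
        exact Nat.eq_one_of_dvd_coprimes (Nat.Coprime.pow_right n hc)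
          (orderOf_dvd_of_pow_eq_one h2) (orderOf_dvd_of_pow_eq_one h3)
      rw [h4, one_mul] at hvx
      calc g * x = g * x * g⁻¹ * g := by group
        _ = x * g := by rw [hvx]

/-- A subgroup whose elements of order prime to `p` die under `f` has a `p`-group as image. -/
theorem isPGroup_map_of_coprime [Finite G] {p : ℕ} [hp : Fact p.Prime] {H : Type*} [Group H]
    (f : G →* H) {K : Subgroup G} (h : ∀ k ∈ K, (orderOf k).Coprime p → f k = 1) :
    IsPGroup p (K.map f) := by
  rintro ⟨_, k, hk, rfl⟩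
  refine ⟨(orderOf k).factorization p, Subtype.ext ?_⟩
  show f k ^ p ^ (orderOf k).factorization p = 1
  rw [← map_pow]
  refine h _ (pow_mem hk _) ?_
  rw [orderOf_pow_of_dvd (pow_ne_zero _ hp.out.ne_zero) (Nat.ordProj_dvd _ p)]
  exact (Nat.coprime_ordCompl hp.out (orderOf_pos k).ne').symm

theorem isPGroup_of_coprime [Finite G] {p : ℕ} [hp : Fact p.Prime] {K : Subgroup G}
    (h : ∀ k ∈ K, (orderOf k).Coprime p → k = 1) : IsPGroup p K := by
  have := isPGroup_map_of_coprime (MonoidHom.id G) h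
  rwa [map_id] at this

theorem normal_of_characteristic_subgroupOf {A T : Subgroup G} [T.Normal] (hAT : A ≤ T)
    (h : (A.subgroupOf T).Characteristic) : A.Normal := by
  have := ConjAct.normal_of_characteristic_of_normal (H := T) (K := A.subgroupOf T)
  rwa [map_subgroupOf_eq_of_le hAT] at this

/-! ### Subnormality between a normal subgroup and a nilpotent quotient -/

theorem isSubnormal_of_between [Finite G] {p : ℕ} [Fact p.Prime] {C K : Subgroup G}
    [C.Normal] (hKn : K.Normal) (hK : IsPGroup p (K.map (QuotientGroup.mk' C))) :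
    ∀ L : Subgroup G, C ≤ L → L ≤ K → L.IsSubnormal := by
  intro L
  induction L using WellFoundedGT.induction with
  | ind L ih =>
    intro hCL hLK
    rcases eq_or_lt_of_le hLK with rfl | hlt
    · exact hKn.isSubnormal
    · let π := QuotientGroup.mk' C
      have hLeq : (L.map π).comap π = L := by
        rw [comap_map_eq, QuotientGroup.ker_mk', sup_eq_left]
        exact hCL
      let L' := K ⊓ normalizer (L : Set G)
      have hlt' : L < L' := by
        refine lt_of_le_of_ne (le_inf hlt.le le_normalizer) fun he => ?_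
        have hbar : (L.map π).subgroupOf (K.map π) < ⊤ := by
          refine lt_top_iff_ne_top.2 fun ht => ?_
          rw [subgroupOf_eq_top] at ht
          exact hlt.not_ge (by rw [← hLeq]; exact map_le_iff_le_comap.1 ht)
        have : Group.IsNilpotent (K.map π) := hK.isNilpotent
        refine (Group.normalizerCondition_of_isNilpotent _ hbar).not_ge fun y hy => ?_
        obtain ⟨k, hk, hky⟩ := y.2
        refine mem_subgroupOf.2 (hky ▸ mem_map_of_mem π ?_)
        rw [he]
        refine ⟨hk, ?_⟩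
        refine mem_normalizer_iff.2 fun x => ?_
        have hmem : ∀ x, x ∈ L ↔ π x ∈ L.map π := fun x => by
          conv_lhs => rw [← hLeq]
          exact mem_comap
        constructor <;> intro hx
        · have hxK : π x ∈ K.map π := mem_map_of_mem π (hlt.le hx)
          have := (mem_normalizer_iff.1 hy ⟨π x, hxK⟩).1 (mem_subgroupOf.2 ((hmem x).1 hx))
          rw [hmem, map_mul, map_mul, map_inv, hky]
          exact mem_subgroupOf.1 this
        · have hxK' : x ∈ K := by
            have := mul_mem (mul_mem (inv_mem hk) (hlt.le hx)) hk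
            rwa [show k⁻¹ * (k * x * k⁻¹) * k = x by group] at this
          have hxK : π x ∈ K.map π := mem_map_of_mem π hxK'
          rw [hmem] at hx ⊢
          rw [map_mul, map_mul, map_inv, hky] at hx
          exact mem_subgroupOf.1 ((mem_normalizer_iff.1 hy ⟨π x, hxK⟩).2 (mem_subgroupOf.2 hx))
      exact IsSubnormal.step L L' hlt'.le (ih L' hlt' (hCL.trans hlt'.le) inf_le_left)
        ((normal_subgroupOf_iff_le_normalizer hlt'.le).2 inf_le_right)

/-! ### Complements in a chief factor under a subnormal subgroup -/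

/-- A minimal `L`-invariant subgroup strictly above `V` inside `U`. -/
def IsAtomAbove (L U V N : Subgroup G) : Prop :=
  V < N ∧ N ≤ U ∧ L ≤ normalizer (N : Set G) ∧
    ∀ N', V < N' → N' ≤ N → L ≤ normalizer (N' : Set G) → N' = N

theorem le_sSup_atoms [Finite G] {L U V : Subgroup G} (h : IsChiefFactor U V)
    (hL : L.IsSubnormal) : U ≤ sSup {N | IsAtomAbove L U V N} := by
  obtain ⟨hlt, hUn, hVn, hch⟩ := h
  induction hL with
  | top =>
    refine le_sSup ⟨hlt, le_rfl, le_normalizer_of_normal U _, fun N' h1 h2 h3 => ?_⟩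
    rcases hch N' (normalizer_eq_top_iff.1 (top_le_iff.1 h3)) h1.le h2 with h | h
    · exact absurd h h1.ne'
    · exact h
  | step L L' hle _ hN ih =>
    refine ih.trans (sSup_le fun M hM => ?_)
    obtain ⟨hVM, hMU, hinv, hmin⟩ := hM
    have hn : L' ≤ normalizer (L : Set G) := (normal_subgroupOf_iff_le_normalizer hle).1 hN
    obtain ⟨N, hNM, hN⟩ := Finite.exists_le_minimal
      (p := fun N : Subgroup G => V < N ∧ N ≤ M ∧ L ≤ normalizer (N : Set G))
      ⟨hVM, le_rfl, hle.trans hinv⟩
    have hnorm : ∀ {c : G} {N : Subgroup G}, c ∈ normalizer (L : Set G) →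
        L ≤ normalizer (N : Set G) →
        L ≤ normalizer ((N.map (MulAut.conj c).toMonoidHom : Subgroup G) : Set G) := by
      intro c N hc hN l hl
      have := N.le_normalizer_map (MulAut.conj c).toMonoidHom
        (mem_map_of_mem (MulAut.conj c).toMonoidHom (hN ((mem_normalizer_iff.1 (inv_mem hc) l).1 hl)))
      simpa [mul_assoc] using this
    have hV : ∀ c : G, V.map (MulAut.conj c).toMonoidHom = V := fun c => by
      ext x
      rw [mem_map_equiv]
      simp only [MulAut.conj_symm_apply]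
      exact ⟨fun hx => by simpa [mul_assoc] using hVn.conj_mem _ hx c,
        fun hx => by simpa [mul_assoc] using hVn.conj_mem _ hx c⁻¹⟩
    have hatom : ∀ g ∈ L', IsAtomAbove L U V (N.map (MulAut.conj g).toMonoidHom) := by
      intro g hg
      refine ⟨?_, ?_, hnorm (hn hg) hN.prop.2.2, fun N' h1 h2 h3 => ?_⟩
      · rw [← hV g]
        exact (map_lt_map_iff_of_injective (MulAut.conj g).injective).2 hN.prop.1
      · rintro _ ⟨x, hx, rfl⟩
        exact hUn.conj_mem _ (hMU (hN.prop.2.1 hx)) g
      · have h5 : N'.map (MulAut.conj g⁻¹).toMonoidHom ≤ N := by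
          rintro _ ⟨x, hx, rfl⟩
          obtain ⟨y, hy, rfl⟩ := h2 hx
          simpa [mul_assoc] using hy
        have h4 : V < N'.map (MulAut.conj g⁻¹).toMonoidHom := by
          rw [← hV g⁻¹]
          exact (map_lt_map_iff_of_injective (MulAut.conj g⁻¹).injective).2 h1
        have h6 := hN.eq_of_le ⟨h4, h5.trans hN.prop.2.1, hnorm (inv_mem (hn hg)) h3⟩ h5
        refine le_antisymm h2 ?_
        rintro _ ⟨x, hx, rfl⟩
        rw [← h6] at hx
        obtain ⟨y, hy, rfl⟩ := hx
        simpa [mul_assoc] using hy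
    let SS : Subgroup G := ⨆ g : L', N.map (MulAut.conj (g : G)).toMonoidHom
    have hle' : SS ≤ sSup {N | IsAtomAbove L U V N} :=
      iSup_le fun g => le_sSup (hatom g g.2)
    refine le_trans (le_of_eq (hmin SS ?_ ?_ ?_).symm) hle'
    · refine hN.prop.1.trans_le (le_iSup_of_le (1 : L') ?_)
      intro x hx
      exact ⟨x, hx, by simp⟩
    · refine iSup_le fun g => ?_
      rintro _ ⟨x, hx, rfl⟩
      exact (mem_normalizer_iff.1 (hinv g.2) x).1 (hN.prop.2.1 hx)
    · have key : ∀ c ∈ L', ∀ x ∈ SS, c * x * c⁻¹ ∈ SS := by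
        intro c hc x hx
        refine (iSup_le fun g => ?_ : SS ≤ SS.comap (MulAut.conj c).toMonoidHom) hx
        rintro _ ⟨y, hy, rfl⟩
        exact le_iSup (fun g : L' => N.map (MulAut.conj (g : G)).toMonoidHom)
          (⟨c, hc⟩ * g) ⟨y, hy, by simp [mul_assoc]⟩
      intro c hc
      refine mem_normalizer_iff.2 fun x => ⟨key c hc x, fun hx => ?_⟩
      simpa [mul_assoc] using key c⁻¹ (inv_mem hc) _ hx

theorem exists_complement [Finite G] {L U V W : Subgroup G} (h : IsChiefFactor U V)
    (hUU : ⁅U, U⁆ ≤ V) (hL : L.IsSubnormal) (hVW : V ≤ W) (hWU : W ≤ U)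
    (hWL : L ≤ normalizer (W : Set G)) :
    ∃ W', V ≤ W' ∧ W' ≤ U ∧ L ≤ normalizer (W' : Set G) ∧ W ⊓ W' = V ∧ U ≤ W ⊔ W' := by
  haveI := h.2.2.1
  obtain ⟨W', hVW', hW'⟩ := Finite.exists_le_maximal
    (p := fun W' : Subgroup G => V ≤ W' ∧ W' ≤ U ∧ L ≤ normalizer (W' : Set G) ∧ W ⊓ W' = V)
    ⟨le_rfl, h.1.le, le_normalizer_of_normal V L, inf_eq_right.2 hVW⟩
  obtain ⟨-, hW'U, hW'L, hinf⟩ := hW'.prop
  refine ⟨W', hVW', hW'U, hW'L, hinf, ?_⟩
  by_contra hne
  have hnm : ∀ X : Subgroup G, V ≤ X → X ≤ U → U ≤ normalizer (X : Set G) := fun X h1 h2 =>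
    le_normalizer_iff_commutator_le_right.2 (((commutator_mono le_rfl h2).trans hUU).trans h1)
  have hsupL : ∀ {X Y : Subgroup G}, L ≤ normalizer (X : Set G) → L ≤ normalizer (Y : Set G) →
      L ≤ normalizer ((X ⊔ Y : Subgroup G) : Set G) := by
    intro X Y hX hY c hc
    have key : ∀ c ∈ L, ∀ x ∈ X ⊔ Y, c * x * c⁻¹ ∈ X ⊔ Y := fun c hc x hx =>
      (sup_le (fun x hx => mem_sup_left ((mem_normalizer_iff.1 (hX hc) x).1 hx))
        (fun x hx => mem_sup_right ((mem_normalizer_iff.1 (hY hc) x).1 hx)) :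
          X ⊔ Y ≤ (X ⊔ Y).comap (MulAut.conj c).toMonoidHom) hx
    refine mem_normalizer_iff.2 fun x => ⟨key c hc x, fun hx => ?_⟩
    simpa [mul_assoc] using key c⁻¹ (inv_mem hc) _ hx
  obtain ⟨N, hN, hNnot⟩ : ∃ N, IsAtomAbove L U V N ∧ ¬ N ≤ W ⊔ W' := by
    by_contra hall
    push Not at hall
    exact hne ((le_sSup_atoms h hL).trans (sSup_le hall))
  obtain ⟨hVN, hNU, hNL, hNmin⟩ := hN
  have hNW : N ⊓ (W ⊔ W') = V := by
    by_contra hx
    have hlt : V < N ⊓ (W ⊔ W') :=
      lt_of_le_of_ne (le_inf hVN.le (hVW.trans le_sup_left)) (Ne.symm hx)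
    have hNeq : N ⊓ (W ⊔ W') = N := hNmin _ hlt inf_le_left (by
      intro c hc
      refine mem_normalizer_iff.2 fun x => ?_
      rw [mem_inf, mem_inf, mem_normalizer_iff.1 (hNL hc) x,
        mem_normalizer_iff.1 (hsupL hWL hW'L hc) x])
    exact hNnot (hNeq ▸ inf_le_right)
  have hbig : W ⊓ (W' ⊔ N) = V := by
    refine le_antisymm (fun w hw => ?_) (le_inf hVW (hVW'.trans le_sup_left))
    have hmem : w ∈ ((W' ⊔ N : Subgroup G) : Set G) := hw.2
    rw [coe_mul_of_right_le_normalizer_left W' N (hNU.trans (hnm W' hVW' hW'U))] at hmem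
    obtain ⟨a, ha, n, hn, rfl⟩ := hmem
    have hn' : n ∈ W ⊔ W' := by
      rw [show n = a⁻¹ * (a * n) by group]
      exact mul_mem (mem_sup_right (inv_mem ha)) (mem_sup_left hw.1)
    have hnV : n ∈ V := hNW ▸ mem_inf.2 ⟨hn, hn'⟩
    exact hinf ▸ mem_inf.2 ⟨hw.1, mul_mem ha (hVW' hnV)⟩
  have heq := hW'.eq_of_le
    ⟨hVW'.trans le_sup_left, sup_le hW'U hNU, hsupL hW'L hNL, hbig⟩ le_sup_left
  exact hNnot (le_sup_right.trans (heq.ge.trans le_sup_right))

end CfsgLib.Techniques.Chief
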