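import Cfsg.Agent.Lib.Transfer.Critical
import Cfsg.Agent.Lib.Transfer.Frobenius

/-!
A characteristic subgroup of exponent `p` (or `4`) detecting coprime automorphisms, and the consequences
for normal `p`-complements.
-/

namespace CfsgLib.Techniques.SmallCritical

open Subgroup Cfsg
open scoped commutatorElement

variable {p : ℕ} [hp : Fact p.Prime]

/-- `p` for odd `p`, and `4` for `p = 2`. -/
def smallExp (p : ℕ) : ℕ := if p = 2 then 4 else p

theorem dvd_smallExp_choose : p ∣ (smallExp p).choose 2 := by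
  unfold smallExp
  split
  · next h => subst h; decide
  · next h => exact hp.out.dvd_choose_self (by norm_num) (lt_of_le_of_ne hp.out.two_le (Ne.symm h))

omit hp in
theorem exists_smallExp_eq (p : ℕ) : ∃ n, smallExp p = p * n := by
  unfold smallExp
  split
  · next h => exact ⟨2, by omega⟩
  · exact ⟨1, (mul_one p).symm⟩

omit hp in
theorem small_of_pow {G : Type*} [Group G] {x : G} (h : x ^ smallExp p = 1) :
    x ^ p = 1 ∨ (p = 2 ∧ x ^ 4 = 1) := by
  unfold smallExp at h
  split at h
  · next hp2 => exact Or.inr ⟨hp2, h⟩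
  · exact Or.inl h

variable {G : Type*} [Group G] [Finite G]

/-- A characteristic subgroup of class two and small exponent detecting the coprime automorphisms. -/
theorem exists_detecting (hG : IsPGroup p G) :
    ∃ D : Subgroup G, D.Characteristic ∧ (∀ d ∈ D, d ^ smallExp p = 1) ∧
      ⁅D, (⊤ : Subgroup G)⁆ ≤ centralizer (D : Set G) ∧
      ∀ a : MulAut G, (orderOf a).Coprime p → (∀ d ∈ D, a d = d) → a = 1 := by
  obtain ⟨H, hHc, hpow, hcomm, hC⟩ := Transfer.exists_critical hG
  have hHn : H.Normal := inferInstance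
  have hz : ∀ s t : H, ⁅s, t⁆ ∈ center H := fun s t => mem_center_iff.2 fun w => Subtype.ext (by
    push_cast [commutatorElement_def]
    have := (mem_centralizer_iff.1 (hcomm (commutator_mem_commutator s.2 (mem_top (t : G)))).2 (w : G) w.2)
    rw [commutatorElement_def] at this
    exact this)
  obtain ⟨j, hj⟩ := dvd_smallExp_choose (p := p)
  have hmul : ∀ u ∈ H, ∀ v ∈ H, (u * v) ^ smallExp p = u ^ smallExp p * v ^ smallExp p := by
    intro u hu v hv
    have key : ((⟨u, hu⟩ * ⟨v, hv⟩ : H)) ^ smallExp p = ⟨u, hu⟩ ^ smallExp p * ⟨v, hv⟩ ^ smallExp p := by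
      rw [PGroup.mul_pow_of_comm_mem_center (hz _ _)]
      have hpc : (⟨v, hv⟩ : H) ^ p ∈ center H := mem_center_iff.2 fun w =>
        Subtype.ext (mem_centralizer_iff.1 (hpow v hv).2 w w.2)
      rw [hj, pow_mul, ← PGroup.comm_pow_left (hz _ _),
        commutatorElement_eq_one_iff_mul_comm.2 (mem_center_iff.1 hpc ⟨u, hu⟩).symm, one_pow, mul_one]
    exact congrArg Subtype.val key
  let D : Subgroup G :=
    { carrier := {x | x ∈ H ∧ x ^ smallExp p = 1}
      one_mem' := ⟨one_mem H, one_pow _⟩
      mul_mem' := fun {a b} ha hb => ⟨mul_mem ha.1 hb.1, by rw [hmul a ha.1 b hb.1, ha.2, hb.2, one_mul]⟩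
      inv_mem' := fun {a} ha => ⟨inv_mem ha.1, by rw [inv_pow, ha.2, inv_one]⟩ }
  have hDH : D ≤ H := fun x hx => hx.1
  refine ⟨D, ?_, fun d hd => hd.2, ?_, fun a ha h => ?_⟩
  · rw [characteristic_iff_map_le]
    rintro φ _ ⟨x, hx, rfl⟩
    exact ⟨characteristic_iff_map_le.1 hHc φ ⟨x, hx.1, rfl⟩, by
      show φ x ^ smallExp p = 1
      rw [← map_pow, hx.2, map_one]⟩
  · exact (commutator_mono hDH le_rfl).trans ((hcomm.trans inf_le_right).trans (centralizer_le hDH))
  refine Transfer.aut_eq_one_of_fix_normal hG H hC a ha fun x hx => ?_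
  have haH : ∀ y ∈ H, a y ∈ H := fun y hy => characteristic_iff_map_le.1 hHc a ⟨y, hy, rfl⟩
  suffices ∀ k, ∀ y ∈ H, y ^ p ^ k = 1 → a y = y by
    obtain ⟨k, hk⟩ := hG x
    exact this k x hx hk
  intro k
  induction k with
  | zero => exact fun y _ hy => by rw [pow_zero, pow_one] at hy; subst hy; exact map_one a
  | succ k ih =>
    intro y hy hyk
    have hfix : a (y ^ p) = y ^ p :=
      ih _ (H.pow_mem hy p) (by rw [← pow_mul, ← pow_succ', hyk])
    obtain ⟨n, hn⟩ := exists_smallExp_eq p
    set c := y⁻¹ * a y with hc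
    have hcD : c ∈ D := ⟨mul_mem (inv_mem hy) (haH y hy), by
      rw [hc, hmul _ (inv_mem hy) _ (haH y hy), hn, pow_mul, pow_mul, ← map_pow, hfix, inv_pow, inv_pow, inv_mul_cancel]⟩
    have hay : a y = y * c := by rw [hc, mul_inv_cancel_left]
    have hn : ∀ n : ℕ, (a ^ n) y = y * c ^ n := by
      intro n
      induction n with
      | zero => simp
      | succ n ihn =>
        rw [pow_succ', MulAut.mul_apply, ihn, map_mul, map_pow, h c hcD, pow_succ', hay, mul_assoc]
    have h2 : c ^ orderOf a = 1 := by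
      have := hn (orderOf a)
      rw [pow_orderOf_eq_one, MulAut.one_apply] at this
      exact left_eq_mul.1 this
    have h3 : c = 1 := (hG.powEquiv ha.symm).injective (show c ^ orderOf a = 1 ^ orderOf a by
      rw [one_pow, h2])
    rw [hay, h3, mul_one]

/-- An element `g` of order prime to `p` normalising the `p`-group `Q` centralises it if it moves each
small element of the `i`-th term of a series down into the next term. -/
theorem centralizes_of_series {Q : Subgroup G} (hQ : IsPGroup p Q) {g : G} (hg : g ∈ normalizer (Q : Set G))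
    (hgo : (orderOf g).Coprime p) (C : ℕ → Subgroup G) (n : ℕ) (htop : Q ⊓ C 0 ≤ ⊥)
    (hall : ∀ d ∈ Q, d ^ smallExp p = 1 → d ∈ C n)
    (hstep : ∀ i < n, ∀ d ∈ Q, d ^ smallExp p = 1 → d ∈ C (i + 1) → d⁻¹ * (g * d * g⁻¹) ∈ C i) :
    g ∈ centralizer (Q : Set G) := by
  obtain ⟨D, hDc, hD, -, hdet⟩ := exists_detecting hQ
  set a := Q.normalizerMonoidHom ⟨g, hg⟩ with ha
  have hao : (orderOf a).Coprime p := Nat.Coprime.coprime_dvd_left
    ((orderOf_map_dvd _ _).trans (dvd_of_eq (Subgroup.orderOf_mk g hg))) hgo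
  have haD : ∀ d ∈ D, a d ∈ D := fun d hd => characteristic_iff_map_le.1 hDc a ⟨d, hd, rfl⟩
  have hsm : ∀ d ∈ D, (d : G) ^ smallExp p = 1 := fun d hd => congrArg Subtype.val (hD d hd)
  have hfix : ∀ i ≤ n, ∀ d ∈ D, (d : G) ∈ C i → a d = d := by
    intro i
    induction i with
    | zero =>
      intro _ d _ hdC
      have : d = 1 := Subtype.ext (mem_bot.1 (htop ⟨d.2, hdC⟩))
      rw [this, map_one]
    | succ i ih =>
      intro hi d hd hdC
      set c := d⁻¹ * a d with hc
      have hcfix : a c = c := ih (by omega) c (mul_mem (inv_mem hd) (haD d hd))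
        (hstep i (by omega) d d.2 (hsm d hd) hdC)
      have had : a d = d * c := by rw [hc, mul_inv_cancel_left]
      have hn : ∀ n : ℕ, (a ^ n) d = d * c ^ n := by
        intro n
        induction n with
        | zero => simp
        | succ n ihn =>
          rw [pow_succ', MulAut.mul_apply, ihn, map_mul, map_pow, hcfix, pow_succ', had, mul_assoc]
      have h2 : c ^ orderOf a = 1 := by
        have := hn (orderOf a)
        rw [pow_orderOf_eq_one, MulAut.one_apply] at this
        exact left_eq_mul.1 this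
      have h3 : c = 1 := (hQ.powEquiv hao.symm).injective (show c ^ orderOf a = 1 ^ orderOf a by
        rw [one_pow, h2])
      rw [had, h3, mul_one]
  have h1 : a = 1 := hdet a hao fun d hd => hfix n le_rfl d hd (hall d d.2 (hsm d hd))
  refine mem_centralizer_iff.2 fun x hx => ?_
  have h2 : g * x * g⁻¹ = x := congrArg Subtype.val (DFunLike.congr_fun h1 (⟨x, hx⟩ : Q))
  exact (mul_inv_eq_iff_eq_mul.1 h2).symm

end CfsgLib.Techniques.SmallCritical
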