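import Cfsg.Agent.Lib.OddLocal.FrobeniusAction
import Cfsg.Agent.Lib.Local.AB

/-!
An element `a` of prime order `p` acting without fixed points on a `p'`-group `S`, both acting on a
`p`-group `T`, `p` odd: if the fixed points of order `p` of `a` on `T` lie in a subgroup of order at
most `p` centralized by `S`, then `S` centralizes `T`.
-/

set_option autoImplicit false

namespace CfsgLib.Techniques.SmallFixedAction

open Subgroup
open scoped commutatorElement

variable {G : Type*} [Group G] [Finite G]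

omit [Finite G] in
theorem mem_normalizer_of_forall' [Finite G] {g : G} {P : Subgroup G} (h : ∀ x ∈ P, g * x * g⁻¹ ∈ P) :
    g ∈ normalizer (P : Set G) :=
  CfsgLib.Solvable.mem_normalizer_of_conj_mem h

/-- A `p`-group acting on a nontrivial `p`-group has a nontrivial fixed point. -/
theorem exists_fixed {p : ℕ} [hp : Fact p.Prime] {A C : Subgroup G} (hA : IsPGroup p A) (hC : IsPGroup p C)
    (hAC : A ≤ normalizer (C : Set G)) (hC1 : C ≠ ⊥) : ∃ c ∈ C, c ≠ 1 ∧ ∀ a ∈ A, a * c = c * a := by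
  classical
  letI : MulAction A C := MulAction.compHom C (C.normalizerMonoidHom.comp (Subgroup.inclusion hAC))
  have hsmul : ∀ (a : A) (c : C), ((a • c : C) : G) = (a : G) * c * (a : G)⁻¹ := fun a c => rfl
  obtain ⟨k, hk⟩ := hC.exists_card_eq
  have hdvd : p ∣ Nat.card C := by
    rw [hk]
    refine dvd_pow_self p ?_
    rintro rfl
    exact hC1 (eq_bot_of_card_eq _ (by rw [hk, pow_zero]))
  have h1 : (1 : C) ∈ MulAction.fixedPoints A C := fun a => Subtype.ext (by rw [hsmul]; simp)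
  obtain ⟨c, hc, hne⟩ := hA.exists_fixed_point_of_prime_dvd_card_of_fixed_point C hdvd h1
  refine ⟨c, c.2, fun h => hne (Subtype.ext h.symm), fun a ha => ?_⟩
  have := congrArg Subtype.val (hc ⟨a, ha⟩)
  rw [hsmul] at this
  exact mul_inv_eq_iff_eq_mul.1 this

/-- The norm step: `D/Z` abelian; if `S` centralizes modulo `Z` every product of the conjugates of
an element of `D` under the powers of `a`, then `S` centralizes `D/Z`. -/
theorem commutator_le_of_norm {p : ℕ} [hp : Fact p.Prime] {S D Z : Subgroup G} {a : G}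
    (hD : IsPGroup p D) (ha : orderOf a = p) (hSD : S ≤ normalizer (D : Set G))
    (haD : a ∈ normalizer (D : Set G)) (haS : a ∈ normalizer (S : Set G))
    (hZD : Z ≤ D) (hDZ : D ≤ normalizer (Z : Set G)) (hSZ : S ≤ normalizer (Z : Set G))
    (haZ : a ∈ normalizer (Z : Set G)) (hcomm : ∀ x ∈ D, ∀ y ∈ D, ⁅x, y⁆ ∈ Z)
    (hfree : ∀ u ∈ S, u * a = a * u → u = 1) (hcop : (Nat.card S).Coprime p)
    (hnorm : ∀ x ∈ D, ∀ u ∈ S, ⁅u, (x * a) ^ p⁆ ∈ Z) : ⁅D, S⁆ ≤ Z := by
  classical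
  set N := normalizer (D : Set G) ⊓ normalizer (Z : Set G) with hN
  have hDN : D ≤ N := le_inf le_normalizer hDZ
  have hSN : S ≤ N := le_inf hSD hSZ
  have haN : a ∈ N := ⟨haD, haZ⟩
  let Z' := Z.subgroupOf N
  haveI : Z'.Normal := normal_subgroupOf_iff_le_normalizer (hZD.trans hDN) |>.2 inf_le_right
  let π := QuotientGroup.mk' Z'
  have hπ : ∀ x : N, π x = 1 ↔ (x : G) ∈ Z := fun x => QuotientGroup.eq_one_iff x
  let V := (D.subgroupOf N).map π
  haveI hVc : IsMulCommutative V := ⟨⟨by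
    rintro ⟨_, x, hx, rfl⟩ ⟨_, y, hy, rfl⟩
    refine Subtype.ext ?_
    show π x * π y = π y * π x
    rw [← commutatorElement_eq_one_iff_mul_comm, ← map_commutatorElement, hπ]
    exact hcomm _ hx _ hy⟩⟩
  let S₁ := (S.subgroupOf N).map π
  have hmapN : ∀ {L : Subgroup G} {g : N}, (g : G) ∈ normalizer (L : Set G) →
      π g ∈ normalizer ((L.subgroupOf N).map π : Set (N ⧸ Z')) := fun {L g} hg =>
    le_normalizer_map (H := L.subgroupOf N) π ⟨g, mem_normalizer_iff.2 fun x =>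
      mem_normalizer_iff.1 hg (x : G), rfl⟩
  have hSV : S₁ ≤ normalizer (V : Set (N ⧸ Z')) := by
    rintro _ ⟨u, hu, rfl⟩
    exact hmapN (hSD (mem_subgroupOf.1 hu))
  obtain ⟨k, hk⟩ := hD.exists_card_eq
  have hVdvd : Nat.card V ∣ p ^ k := by
    rw [← hk, ← Nat.card_congr (subgroupOfEquivOfLe hDN).toEquiv]
    exact card_map_dvd _ _
  have hcopV : (Nat.card S₁).Coprime (Nat.card V) := by
    refine Nat.Coprime.coprime_dvd_left ((card_map_dvd _ _).trans
      (dvd_of_eq (Nat.card_congr (subgroupOfEquivOfLe hSN).toEquiv))) ?_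
    exact (hcop.pow_right k).coprime_dvd_right hVdvd
  set W := ⁅V, S₁⁆ with hW
  have hWV : W ≤ V := CfsgLib.Solvable.commutator_le_of_le_normalizer hSV
  have hbot := CfsgLib.Solvable.inf_centralizer_inf_commutator S₁ V hSV hcopV
  haveI hWC : IsMulCommutative W := ⟨⟨fun x y => Subtype.ext (by
    have h := congrArg Subtype.val (IsMulCommutative.is_comm.comm (⟨x, hWV x.2⟩ : V) ⟨y, hWV y.2⟩)
    simpa using h)⟩⟩
  letI : CommGroup W := { (inferInstance : Group W) with mul_comm := fun x y => IsMulCommutative.is_comm.comm x y }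
  -- `S` and `a` act on `W`
  set E := (normalizer (W : Set (N ⧸ Z'))).comap π with hE
  let φ : ↥E →* MulAut W := W.normalizerMonoidHom.comp (π.subgroupComap _)
  have hφ : ∀ (e : ↥E) (w : W), ((φ e w : W) : N ⧸ Z') = π (e : N) * w * (π (e : N))⁻¹ := fun e w => rfl
  have hSE : ∀ u : N, (u : G) ∈ S → u ∈ E := fun u hu =>
    CfsgLib.Solvable.le_normalizer_commutator_right hSV ⟨u, hu, rfl⟩
  have haE : (⟨a, haN⟩ : N) ∈ E :=
    CfsgLib.Solvable.normalizer_le_normalizer_commutator V S₁ ⟨hmapN haD, hmapN haS⟩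
  let S₂ : Subgroup ↥E := (S.subgroupOf N).subgroupOf E
  haveI : Fintype S₂ := Fintype.ofFinite _
  let a₂ : ↥E := ⟨⟨a, haN⟩, haE⟩
  have hU : ∀ v : W, (∀ u ∈ S₂, φ u v = v) → v = 1 := by
    intro v hv
    have : (v : N ⧸ Z') ∈ (V ⊓ centralizer (S₁ : Set (N ⧸ Z'))) ⊓ W := by
      refine ⟨⟨hWV v.2, mem_centralizer_iff.2 ?_⟩, v.2⟩
      rintro _ ⟨u, hu, rfl⟩
      exact mul_inv_eq_iff_eq_mul.1 (congrArg Subtype.val (hv ⟨u, hSE u hu⟩ hu))
    rw [hbot] at this
    exact Subtype.ext (mem_bot.1 this)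
  have hcop2 : (Nat.card S₂).Coprime (Nat.card W) := by
    refine Nat.Coprime.coprime_dvd_left ?_
      ((hcop.pow_right k).coprime_dvd_right ((card_dvd_of_le hWV).trans hVdvd))
    exact (card_comap_dvd_of_injective _ E.subtype E.subtype_injective).trans
      (dvd_of_eq (Nat.card_congr (subgroupOfEquivOfLe hSN).toEquiv))
  have horder : orderOf a₂ = p := by
    rw [← Subgroup.orderOf_coe, ← Subgroup.orderOf_coe]; exact ha
  have hvan : ∀ v : W, ∏ b ∈ (Finset.range p).image (fun i => a₂ ^ i), φ b v = 1 := by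
    intro v
    rw [Finset.prod_image (fun i hi j hj h => pow_injOn_Iio_orderOf
      (by rw [horder]; exact Finset.mem_range.1 hi) (by rw [horder]; exact Finset.mem_range.1 hj) h)]
    have hprod : ∀ n : ℕ, (((∏ i ∈ Finset.range n, φ (a₂ ^ i) v) : W) : N ⧸ Z') =
        ((v : N ⧸ Z') * π ⟨a, haN⟩) ^ n * ((π ⟨a, haN⟩) ^ n)⁻¹ := by
      intro n
      induction n with
      | zero => simp
      | succ n ih =>
        rw [Finset.prod_range_succ, Subgroup.coe_mul, ih, hφ, SubmonoidClass.coe_pow, map_pow]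
        show _ * (π ⟨a, haN⟩ ^ n * (v : N ⧸ Z') * (π ⟨a, haN⟩ ^ n)⁻¹) = _
        rw [pow_succ, pow_succ]
        group
    have hpow : (π ⟨a, haN⟩) ^ p = 1 := by
      rw [← map_pow, show (⟨a, haN⟩ : N) ^ p = 1 from Subtype.ext (by
        show a ^ p = 1
        rw [← ha, pow_orderOf_eq_one]), map_one]
    have h1 := hprod p
    rw [hpow, inv_one, mul_one] at h1
    obtain ⟨x, hx, hxv⟩ := hWV v.2
    have : (((∏ i ∈ Finset.range p, φ (a₂ ^ i) v) : W) : N ⧸ Z') ∈
        (V ⊓ centralizer (S₁ : Set (N ⧸ Z'))) ⊓ W := by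
      refine ⟨⟨hWV (Subtype.mem _), mem_centralizer_iff.2 ?_⟩, Subtype.mem _⟩
      rintro _ ⟨u, hu, rfl⟩
      rw [h1, ← hxv, ← map_mul π x, ← map_pow π, ← commutatorElement_eq_one_iff_mul_comm,
        ← map_commutatorElement, hπ]
      exact hnorm _ hx _ hu
    rw [hbot] at this
    exact Subtype.ext (mem_bot.1 this)
  have hall : ∀ v : W, v = 1 := by
    refine CfsgLib.OddLocal.eq_one_of_frobenius_norm φ S₂ hU hcop2 _ ?_ ?_ ?_ hvan
    · exact Finset.mem_image.2 ⟨0, Finset.mem_range.2 hp.out.pos, pow_zero _⟩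
    · intro b hb
      obtain ⟨i, -, rfl⟩ := Finset.mem_image.1 hb
      refine pow_mem (mem_normalizer_iff.2 fun u => ?_) i
      exact mem_normalizer_iff.1 haS ((u : N) : G)
    · intro b hb hb1 u hu hub
      obtain ⟨i, hi, rfl⟩ := Finset.mem_image.1 hb
      have hi0 : ¬ p ∣ i := fun hd => hb1 (by
        rw [← horder, orderOf_dvd_iff_pow_eq_one] at hd
        exact hd)
      have hc : Commute ((u : N) : G) (a ^ i) := congrArg (fun z : ↥E => ((z : N) : G)) hub
      obtain ⟨j, hj⟩ := exists_pow_eq_self_of_coprime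
        (show i.Coprime (orderOf a) by rw [ha]; exact (hp.out.coprime_iff_not_dvd.2 hi0).symm)
      have := (hc.pow_right j).eq
      rw [hj] at this
      exact Subtype.ext (Subtype.ext (hfree _ hu this))
  rw [commutator_le]
  intro x hx u hu
  have h1 : π ⟨⁅x, u⁆, mul_mem (mul_mem (mul_mem (hDN hx) (hSN hu)) (inv_mem (hDN hx))) (inv_mem (hSN hu))⟩ ∈ W := by
    rw [show (⟨⁅x, u⁆, _⟩ : N) = ⁅(⟨x, hDN hx⟩ : N), ⟨u, hSN hu⟩⁆ from rfl, map_commutatorElement]
    exact commutator_mem_commutator ⟨_, hx, rfl⟩ ⟨_, hu, rfl⟩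
  exact (hπ _).1 (congrArg Subtype.val (hall ⟨_, h1⟩))

/-- For odd `p`, let `a` of order `p` normalize the `p'`-group `S` without fixed points, let both
normalize the `p`-group `T` and let the elements of order `p` of `T` fixed by `a` lie in a subgroup of
order at most `p` centralized by `S`. Then `S` centralizes `T`. -/
theorem commute_of_small_fixed {p : ℕ} [hp : Fact p.Prime] (hp2 : p ≠ 2) {S T L : Subgroup G} {a : G}
    (hT : IsPGroup p T) (ha : orderOf a = p) (hST : S ≤ normalizer (T : Set G))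
    (haT : a ∈ normalizer (T : Set G)) (haS : a ∈ normalizer (S : Set G))
    (hfree : ∀ u ∈ S, u * a = a * u → u = 1) (hcop : (Nat.card S).Coprime p)
    (hL : Nat.card L ≤ p) (hSL : S ≤ centralizer (L : Set G))
    (hfix : ∀ x ∈ T, x ^ p = 1 → a * x = x * a → x ∈ L) : S ≤ centralizer (T : Set G) := by
  classical
  obtain ⟨H₀, hH₀c, hpow, hcrit, hC⟩ := CfsgLib.Transfer.exists_critical (G := T) hT
  set H := H₀.map T.subtype with hH
  have hHT : H ≤ T := map_subtype_le _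
  have hNH : normalizer (T : Set G) ≤ normalizer (H : Set G) := fun g hg => by
    refine CfsgLib.Solvable.mem_normalizer_of_conj_mem ?_
    rintro _ ⟨y, hy, rfl⟩
    exact ⟨_, characteristic_iff_map_le.1 hH₀c (CfsgLib.OddLocal.conjOn T ⟨g, hg⟩) ⟨y, hy, rfl⟩, rfl⟩
  have hcen : ∀ u ∈ H, ∀ v ∈ H, ∀ w ∈ H, Commute ⁅u, v⁆ w := by
    rintro _ ⟨u, hu, rfl⟩ _ ⟨v, hv, rfl⟩ _ ⟨w, hw, rfl⟩
    have h := mem_centralizer_iff.1 (hcrit (commutator_mem_commutator hu (mem_top v))).2 w hw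
    have := congrArg T.subtype h
    rw [map_mul, map_mul, map_commutatorElement] at this
    exact this.symm
  have hzH : ∀ x y : H, ⁅x, y⁆ ∈ center H := fun x y => mem_center_iff.2 fun w => by
    refine Subtype.ext ?_
    have := (hcen x x.2 y y.2 w w.2).eq
    push_cast [commutatorElement_def] at this ⊢
    exact this.symm
  -- the elements of order dividing `p`
  let D : Subgroup G :=
    { carrier := {x | x ∈ H ∧ x ^ p = 1}
      one_mem' := ⟨H.one_mem, one_pow _⟩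
      mul_mem' := by
        rintro x y ⟨hx, hx1⟩ ⟨hy, hy1⟩
        refine ⟨H.mul_mem hx hy, ?_⟩
        obtain ⟨j, hj⟩ := hp.out.dvd_choose_self (by norm_num : (2 : ℕ) ≠ 0)
          (lt_of_le_of_ne hp.out.two_le (Ne.symm hp2))
        have h := congrArg (H.subtype) (PGroup.mul_pow_of_comm_mem_center (a := (⟨x, hx⟩ : H))
          (b := ⟨y, hy⟩) (hzH _ _) p)
        rw [hj, pow_mul, ← PGroup.comm_pow_left (hzH _ _),
          show (⟨y, hy⟩ : H) ^ p = 1 from Subtype.ext (by simpa using hy1)] at h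
        simpa [hx1] using h
      inv_mem' := by
        rintro x ⟨hx, hx1⟩
        exact ⟨H.inv_mem hx, by rw [inv_pow, hx1, inv_one]⟩ }
  have hDH : D ≤ H := fun x hx => hx.1
  have hND : normalizer (H : Set G) ≤ normalizer (D : Set G) := fun g hg =>
    CfsgLib.Solvable.mem_normalizer_of_conj_mem fun x hx =>
      ⟨(mem_normalizer_iff.1 hg x).1 hx.1, by rw [conj_pow, hx.2, mul_one, mul_inv_cancel]⟩
  have hDp : IsPGroup p D := hT.to_le (hDH.trans hHT)
  obtain ⟨kD, hkD⟩ := hDp.exists_card_eq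
  have hcopD : (Nat.card S).Coprime (Nat.card D) := hkD ▸ hcop.pow_right kD
  have hsolD : Group.IsSolvable S ∨ Group.IsSolvable D := Or.inr (by
    haveI := hDp.isNilpotent; infer_instance)
  have hSnD : S ≤ normalizer (D : Set G) := hST.trans (hNH.trans hND)
  have hanD : a ∈ normalizer (D : Set G) := hND (hNH haT)
  have hap : IsPGroup p ↥(zpowers a) := IsPGroup.of_card (n := 1) (by rw [Nat.card_zpowers, ha, pow_one])
  set Z := D ⊓ centralizer (D : Set G) with hZ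
  have hNZ : normalizer (D : Set G) ≤ normalizer (Z : Set G) := fun g hg =>
    CfsgLib.Solvable.le_normalizer_inf (A := normalizer (D : Set G)) le_rfl
      (CfsgLib.Solvable.normalizer_le_normalizer_centralizer D) hg
  have hfixL : ∀ x ∈ D, a * x = x * a → x ∈ L := fun x hx h => hfix x (hHT hx.1) hx.2 h
  have hSfix : ∀ x ∈ D, a * x = x * a → ∀ u ∈ S, u * x = x * u := fun x hx h u hu =>
    (mem_centralizer_iff.1 (hSL hu) x (hfixL x hx h)).symm
  haveI : IsMulCommutative Z := ⟨⟨fun x y => Subtype.ext (mem_centralizer_iff.1 y.2.2 x x.2.1)⟩⟩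
  have hSZ : S ≤ centralizer (Z : Set G) :=
    CfsgLib.OddLocal.commute_of_frobenius_fixed_abelian (ha ▸ hp.out) (hSnD.trans hNZ) (hNZ hanD) haS
      hfree (hcopD.coprime_dvd_right (card_dvd_of_le inf_le_left))
      (fun x hx h => hSfix x hx.1 h)
  have hcD : ∀ x ∈ D, ∀ y ∈ D, ⁅x, y⁆ ∈ Z := by
    intro x hx y hy
    refine ⟨?_, mem_centralizer_iff.2 fun w hw => (hcen x hx.1 y hy.1 w hw.1).symm.eq⟩
    show ⁅x, y⁆ ∈ D
    rw [commutatorElement_def]
    exact mul_mem (mul_mem (mul_mem hx hy) (inv_mem hx)) (inv_mem hy)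
  have hZc : ∀ z ∈ Z, ∀ x ∈ D, z * x = x * z := fun z hz x hx =>
    (mem_centralizer_iff.1 hz.2 x hx).symm
  suffices hSD : S ≤ centralizer (D : Set G) by
    intro u hu
    rw [mem_centralizer_iff]
    intro t ht
    let α : MulAut T := CfsgLib.OddLocal.conjOn T ⟨u, hST hu⟩
    have hord : ∀ {K : Subgroup G} (e : ↥(normalizer (K : Set G))), (e : G) ∈ S →
        (orderOf (CfsgLib.OddLocal.conjOn K e)).Coprime p := fun {K} e he => by
      refine hcop.coprime_dvd_left ((orderOf_map_dvd (CfsgLib.OddLocal.conjOn K) e).trans ?_)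
      rw [← Subgroup.orderOf_coe]
      exact S.orderOf_dvd_natCard he
    have hα : α = 1 := by
      haveI : H₀.Normal := inferInstance
      refine CfsgLib.Transfer.aut_eq_one_of_fix_normal hT H₀ hC α (hord _ hu) fun x hx => ?_
      have hβ : CfsgLib.OddLocal.conjOn H ⟨u, hNH (hST hu)⟩ = 1 := by
        refine CfsgLib.Transfer.aut_eq_one_of_fix_omega hp2 (hT.to_le hHT) _ (hord _ hu) fun w hw => ?_
        refine Subtype.ext ?_
        rw [CfsgLib.OddLocal.conjOn_apply]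
        refine mul_inv_eq_iff_eq_mul.2 ?_
        exact (mem_centralizer_iff.1 (hSD hu) w ⟨w.2, congrArg Subtype.val hw⟩).symm
      have := congrArg Subtype.val (DFunLike.congr_fun hβ ⟨(x : G), x, hx, rfl⟩)
      exact Subtype.ext this
    have h1 : u * t * u⁻¹ = t := by
      have h2 := congrArg Subtype.val (DFunLike.congr_fun hα (⟨t, ht⟩ : T))
      simpa [α] using h2
    exact (mul_inv_eq_iff_eq_mul.1 h1).symm
  -- finish once `S` centralizes `D / Z`
  suffices hDZ : ⁅D, S⁆ ≤ Z by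
    refine le_centralizer_iff.1 ((commutator_eq_bot_iff_le_centralizer).1 (le_bot_iff.1 ?_))
    rw [← CfsgLib.Solvable.commutator_commutator_self hSnD hcopD hsolD]
    exact (commutator_mono hDZ le_rfl).trans
      (commutator_eq_bot_iff_le_centralizer.2 (le_centralizer_iff.1 hSZ)).le
  by_cases hZD : D ≤ Z
  · exact (CfsgLib.Solvable.commutator_le_of_le_normalizer hSnD).trans hZD
  -- the line `L` lies in the centre, unless nothing is fixed
  have hLZ : L ≤ Z := by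
    obtain ⟨c, hc, hc1, hca⟩ := exists_fixed hap (hDp.to_le (inf_le_left : Z ≤ D))
      (zpowers_le.2 (hNZ hanD)) (fun h => hZD (by
        have hD1 : D = ⊥ := by
          by_contra hD1
          obtain ⟨c, hc, hc1, hca⟩ := exists_fixed hDp hDp le_normalizer hD1
          exact hc1 (mem_bot.1 (h ▸ (⟨hc, mem_centralizer_iff.2 fun x hx => hca x hx⟩ : c ∈ Z)))
        rw [hD1]; exact bot_le))
    have hcL : c ∈ L := hfixL c hc.1 (hca a (mem_zpowers a))
    have hoc : orderOf c = p := orderOf_eq_prime hc.1.2 hc1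
    have : zpowers c = L := eq_of_le_of_card_ge (zpowers_le.2 hcL) (by rw [Nat.card_zpowers, hoc]; exact hL)
    rw [← this]; exact zpowers_le.2 hc
  -- the fixed points modulo the centre
  let F : Subgroup G :=
    { carrier := {x | x ∈ D ∧ ⁅a, x⁆ ∈ Z}
      one_mem' := ⟨D.one_mem, by simp [commutatorElement_def]⟩
      mul_mem' := by
        rintro x y ⟨hx, hx'⟩ ⟨hy, hy'⟩
        refine ⟨D.mul_mem hx hy, ?_⟩
        have e : ⁅a, x * y⁆ = ⁅a, x⁆ * ⁅a, y⁆ := by
          have h1 := hZc _ hy' x hx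
          simp only [commutatorElement_def] at h1 ⊢
          calc a * (x * y) * a⁻¹ * (x * y)⁻¹ = a * x * a⁻¹ * (a * y * a⁻¹ * y⁻¹) * x⁻¹ := by group
            _ = a * x * a⁻¹ * (x⁻¹ * (x * (a * y * a⁻¹ * y⁻¹))) * x⁻¹ := by group
            _ = a * x * a⁻¹ * (x⁻¹ * (a * y * a⁻¹ * y⁻¹ * x)) * x⁻¹ := by rw [h1]
            _ = a * x * a⁻¹ * x⁻¹ * (a * y * a⁻¹ * y⁻¹) := by group
        rw [e]; exact Z.mul_mem hx' hy'
      inv_mem' := by
        rintro x ⟨hx, hx'⟩
        refine ⟨D.inv_mem hx, ?_⟩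
        have e : ⁅a, x⁻¹⁆ = ⁅a, x⁆⁻¹ := by
          have h1 := hZc _ (Z.inv_mem hx') x hx
          simp only [commutatorElement_def] at h1 ⊢
          calc a * x⁻¹ * a⁻¹ * x⁻¹⁻¹ = x⁻¹ * ((a * x * a⁻¹ * x⁻¹)⁻¹ * x) := by group
            _ = x⁻¹ * (x * (a * x * a⁻¹ * x⁻¹)⁻¹) := by rw [h1]
            _ = (a * x * a⁻¹ * x⁻¹)⁻¹ := by group
        rw [e]; exact Z.inv_mem hx' }
  have hZF : Z ≤ F := fun z hz => ⟨hz.1, by
    rw [commutatorElement_def]
    exact Z.mul_mem ((mem_normalizer_iff.1 (hNZ hanD) z).1 hz) (Z.inv_mem hz)⟩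
  -- two elements of `F` outside `Z` are powers of one another modulo `Z`
  have hline : ∀ e ∈ F, e ∉ Z → ∀ f ∈ F, ∃ i : ℤ, (e ^ i)⁻¹ * f ∈ Z := by
    let ψ : Z →* Z := MonoidHom.mk' (fun w => ⟨⁅a, (w : G)⁆, (hZF w.2).2⟩) fun v w => Subtype.ext (by
      show ⁅a, (v : G) * w⁆ = ⁅a, (v : G)⁆ * ⁅a, (w : G)⁆
      have h1 := hZc _ (hZF w.2).2 (v : G) v.2.1
      simp only [commutatorElement_def] at h1 ⊢
      calc a * ((v : G) * w) * a⁻¹ * ((v : G) * w)⁻¹ = a * v * a⁻¹ * (a * w * a⁻¹ * (w : G)⁻¹) * (v : G)⁻¹ := by group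
        _ = a * v * a⁻¹ * ((v : G)⁻¹ * (v * (a * w * a⁻¹ * (w : G)⁻¹))) * (v : G)⁻¹ := by group
        _ = a * v * a⁻¹ * ((v : G)⁻¹ * (a * w * a⁻¹ * (w : G)⁻¹ * v)) * (v : G)⁻¹ := by rw [h1]
        _ = a * v * a⁻¹ * (v : G)⁻¹ * (a * w * a⁻¹ * (w : G)⁻¹) := by group)
    letI : CommGroup Z := { (inferInstance : Group Z) with mul_comm := fun x y => IsMulCommutative.is_comm.comm x y }
    let δ : F →* Z ⧸ ψ.range := MonoidHom.mk'
      (fun x => QuotientGroup.mk (⟨⁅a, (x : G)⁆, x.2.2⟩ : Z)) fun x y => by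
        rw [← QuotientGroup.mk_mul]
        congr 1
        refine Subtype.ext ?_
        show ⁅a, (x : G) * y⁆ = ⁅a, (x : G)⁆ * ⁅a, (y : G)⁆
        have h1 := hZc _ y.2.2 (x : G) x.2.1
        simp only [commutatorElement_def] at h1 ⊢
        calc a * ((x : G) * y) * a⁻¹ * ((x : G) * y)⁻¹ = a * x * a⁻¹ * (a * y * a⁻¹ * (y : G)⁻¹) * (x : G)⁻¹ := by group
          _ = a * x * a⁻¹ * ((x : G)⁻¹ * (x * (a * y * a⁻¹ * (y : G)⁻¹))) * (x : G)⁻¹ := by group
          _ = a * x * a⁻¹ * ((x : G)⁻¹ * (a * y * a⁻¹ * (y : G)⁻¹ * x)) * (x : G)⁻¹ := by rw [h1]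
          _ = a * x * a⁻¹ * (x : G)⁻¹ * (a * y * a⁻¹ * (y : G)⁻¹) := by group
    have hker : ∀ x : F, δ x = 1 → (x : G) ∈ Z := by
      intro x hx
      obtain ⟨w, hw⟩ := (QuotientGroup.eq_one_iff _).1 hx
      have hw' : ⁅a, (w : G)⁆ = ⁅a, (x : G)⁆ := congrArg Subtype.val hw
      have hfix' : a * ((w : G)⁻¹ * x) = (w : G)⁻¹ * x * a := by
        have h2 := hZc _ x.2.2 ((w : G)⁻¹) (D.inv_mem w.2.1)
        rw [commutatorElement_def, commutatorElement_def] at hw'
        rw [commutatorElement_def] at h2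
        calc a * ((w : G)⁻¹ * x)
            = (w : G)⁻¹ * (a * w * a⁻¹ * (w : G)⁻¹)⁻¹ * (a * x * a⁻¹ * (x : G)⁻¹) * x * a := by group
          _ = (w : G)⁻¹ * x * a := by rw [hw']; group
      have hxwD : (w : G)⁻¹ * x ∈ D := D.mul_mem (D.inv_mem w.2.1) x.2.1
      have := Z.mul_mem w.2 (hLZ (hfixL _ hxwD hfix'))
      rwa [mul_inv_cancel_left] at this
    have hquot : Nat.card (Z ⧸ ψ.range) ≤ p := by
      have h1 : Nat.card (Z ⧸ ψ.range) = Nat.card ψ.ker := by
        have h2 := ψ.ker.card_mul_index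
        have h3 := ψ.range.card_mul_index
        rw [Subgroup.index_ker] at h2
        rw [← Subgroup.index]
        refine Nat.eq_of_mul_eq_mul_left (Nat.card_pos (α := ψ.range)) ?_
        rw [h3, ← h2, mul_comm]
      rw [h1]
      refine le_trans ?_ hL
      refine Nat.card_le_card_of_injective (fun w => (⟨((w : Z) : G), hfixL _ (w : Z).2.1 ?_⟩ : L))
        fun v w h => Subtype.ext (Subtype.ext (congrArg Subtype.val h :))
      have := congrArg Subtype.val (MonoidHom.mem_ker.1 w.2)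
      change ⁅a, ((w : Z) : G)⁆ = 1 at this
      exact commutatorElement_eq_one_iff_mul_comm.1 this
    intro e he heZ f hf
    have hne : δ ⟨e, he⟩ ≠ 1 := fun h => heZ (hker _ h)
    have hgen : zpowers (δ ⟨e, he⟩) = ⊤ := by
      refine eq_top_of_card_eq _ (le_antisymm (card_le_card_group _) (hquot.trans ?_))
      have hpG : IsPGroup p (Z ⧸ ψ.range) := (hDp.to_le inf_le_left).to_quotient _
      obtain ⟨j, hj⟩ := IsPGroup.iff_orderOf.1 hpG (δ ⟨e, he⟩)
      rw [Nat.card_zpowers, hj]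
      refine Nat.le_of_dvd (pow_pos hp.out.pos _) (dvd_pow_self p ?_)
      rintro rfl
      rw [pow_zero, orderOf_eq_one_iff] at hj
      exact hne hj
    obtain ⟨i, hi⟩ := mem_zpowers_iff.1 (hgen.ge (mem_top (δ ⟨f, hf⟩)))
    refine ⟨i, ?_⟩
    exact hker ((⟨e, he⟩ : F) ^ i)⁻¹ |> fun h => by
      have h2 := hker (((⟨e, he⟩ : F) ^ i)⁻¹ * ⟨f, hf⟩) (by rw [map_mul, map_inv, map_zpow, hi, inv_mul_cancel])
      simpa using h2
  -- products of conjugates
  let ν : G → G := fun x => (x * a) ^ p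
  have hap1 : a ^ p = 1 := by rw [← ha, pow_orderOf_eq_one]
  have hconjD : ∀ (i : ℕ) (x : G), x ∈ D → a ^ i * x * (a ^ i)⁻¹ ∈ D := fun i x hx =>
    (mem_normalizer_iff.1 (pow_mem hanD i) x).1 hx
  have hνprod : ∀ (x : G) (n : ℕ), x ∈ D → (x * a) ^ n * (a ^ n)⁻¹ ∈ D := by
    intro x n hx
    induction n with
    | zero => simp
    | succ n ih =>
      have := D.mul_mem ih (hconjD n x hx)
      rw [show (x * a) ^ (n + 1) * (a ^ (n + 1))⁻¹ = (x * a) ^ n * (a ^ n)⁻¹ * (a ^ n * x * (a ^ n)⁻¹) by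
        rw [pow_succ, pow_succ]; group]
      exact this
  have hνF : ∀ x ∈ D, ν x ∈ F := by
    intro x hx
    have hνD : ν x ∈ D := by
      have := hνprod x p hx
      rwa [hap1, inv_one, mul_one] at this
    refine ⟨hνD, ?_⟩
    have h1 : a * ν x * a⁻¹ = x⁻¹ * ν x * x := by
      show a * (x * a) ^ p * a⁻¹ = x⁻¹ * (x * a) ^ p * x
      rw [← conj_pow, show x⁻¹ * (x * a) ^ p * x = x⁻¹ * (x * a) ^ p * x⁻¹⁻¹ by rw [inv_inv], ← conj_pow]
      group
    rw [commutatorElement_def, h1]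
    have := hcD _ (D.inv_mem hx) _ hνD
    rw [commutatorElement_def, inv_inv] at this
    exact this
  -- a fixed point modulo `Z` in the centralizer of `S`
  by_cases hCZ : D ⊓ centralizer (S : Set G) ≤ Z
  swap
  · obtain ⟨e, heF, heZ, heS⟩ : ∃ e ∈ F, e ∉ Z ∧ e ∈ centralizer (S : Set G) := by
      set C := D ⊓ centralizer (S : Set G) with hCdef
      set N := normalizer (Z : Set G) with hNdef
      have hCN : C ≤ N := inf_le_left.trans (le_normalizer.trans hNZ)
      have haC : a ∈ normalizer (C : Set G) :=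
        CfsgLib.Solvable.le_normalizer_inf (A := zpowers a) (zpowers_le.2 hanD)
          ((zpowers_le.2 haS).trans (CfsgLib.Solvable.normalizer_le_normalizer_centralizer S)) (mem_zpowers a)
      let a' : N := ⟨a, hNZ hanD⟩
      haveI : (Z.subgroupOf N).Normal := (normal_subgroupOf_iff_le_normalizer le_normalizer).2 le_rfl
      let π := QuotientGroup.mk' (Z.subgroupOf N)
      have hπ : ∀ x : N, π x = 1 ↔ (x : G) ∈ Z := fun x => QuotientGroup.eq_one_iff x
      set C' := (C.subgroupOf N).map π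
      have hC'1 : C' ≠ ⊥ := by
        intro h
        apply hCZ
        intro x hx
        exact (hπ ⟨x, hCN hx⟩).1 (mem_bot.1 (h ▸ (⟨_, hx, rfl⟩ : π ⟨x, hCN hx⟩ ∈ C')))
      obtain ⟨_, ⟨c, hc, rfl⟩, hc1, hca⟩ := exists_fixed (A := zpowers (π a')) (C := C')
        (IsPGroup.of_card (n := (Nat.card (zpowers (π a'))).factorization p) (by
          have h1 : Nat.card (zpowers (π a')) ∣ p := by
            rw [Nat.card_zpowers]
            refine (orderOf_map_dvd π a').trans (dvd_of_eq ?_)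
            rw [← Subgroup.orderOf_coe]; exact ha
          rcases (Nat.dvd_prime hp.out).1 h1 with h | h
          · rw [h]; simp
          · rw [h, hp.out.factorization_self, pow_one]))
        (((hDp.to_le inf_le_left).comap_subtype (K := N)).map π)
        (zpowers_le.2 (le_normalizer_map (H := C.subgroupOf N) π
          ⟨a', mem_normalizer_iff.2 fun x => mem_normalizer_iff.1 haC (x : G), rfl⟩)) hC'1
      refine ⟨(c : G), ⟨hc.1, ?_⟩, fun h => hc1 ((hπ c).2 h), hc.2⟩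
      have := hca _ (mem_zpowers _)
      rw [← commutatorElement_eq_one_iff_mul_comm, ← map_commutatorElement, hπ] at this
      exact this
    have hSF : ∀ f ∈ F, ∀ u ∈ S, u * f = f * u := by
      intro f hf u hu
      obtain ⟨i, hi⟩ := hline e heF heZ f hf
      have h1 : Commute u e := mem_centralizer_iff.1 heS u hu
      have h2 : Commute u ((e ^ i)⁻¹ * f) := (mem_centralizer_iff.1 (hSZ hu) _ hi).symm
      have := (h1.zpow_right i).mul_right h2
      rwa [mul_inv_cancel_left] at this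
    refine commutator_le_of_norm hDp ha hSnD hanD haS inf_le_left (le_normalizer.trans hNZ)
      (hSnD.trans hNZ) (hNZ hanD) hcD hfree hcop fun x hx u hu => ?_
    rw [commutatorElement_eq_one_iff_mul_comm.2 (hSF _ (hνF x hx) u hu)]
    exact Z.one_mem
  -- the derived subgroup
  exfalso
  apply hZD
  intro d₀ hd₀
  by_contra hd₀Z
  set Dd := ⁅D, D⁆ with hDd
  have hDdZ : Dd ≤ Z := commutator_le.2 hcD
  have hDd1 : Dd ≠ ⊥ := fun h =>
    hd₀Z ⟨hd₀, mem_centralizer_iff.2 fun x hx => by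
      exact commutatorElement_eq_one_iff_mul_comm.1 (mem_bot.1 (h ▸ commutator_mem_commutator hx hd₀))⟩
  have haDd : a ∈ normalizer (Dd : Set G) :=
    CfsgLib.Solvable.normalizer_le_normalizer_commutator D D ⟨hanD, hanD⟩
  have hDdcomm : ∀ v w : Dd, v * w = w * v := fun v w => Subtype.ext (hZc _ (hDdZ v.2) _ (hDdZ w.2).1)
  let ψ : Dd →* Dd := MonoidHom.mk' (fun w => ⟨⁅a, (w : G)⁆,
      Dd.mul_mem ((mem_normalizer_iff.1 haDd w).1 w.2) (Dd.inv_mem w.2)⟩) fun v w => Subtype.ext (by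
      show ⁅a, (v : G) * w⁆ = ⁅a, (v : G)⁆ * ⁅a, (w : G)⁆
      have h1 := hZc _ (hDdZ (Dd.mul_mem ((mem_normalizer_iff.1 haDd w).1 w.2) (Dd.inv_mem w.2))) (v : G) (hDdZ v.2).1
      simp only [commutatorElement_def] at h1 ⊢
      calc a * ((v : G) * w) * a⁻¹ * ((v : G) * w)⁻¹ = a * v * a⁻¹ * (a * w * a⁻¹ * (w : G)⁻¹) * (v : G)⁻¹ := by group
        _ = a * v * a⁻¹ * ((v : G)⁻¹ * (v * (a * w * a⁻¹ * (w : G)⁻¹))) * (v : G)⁻¹ := by group
        _ = a * v * a⁻¹ * ((v : G)⁻¹ * (a * w * a⁻¹ * (w : G)⁻¹ * v)) * (v : G)⁻¹ := by rw [h1]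
        _ = a * v * a⁻¹ * (v : G)⁻¹ * (a * w * a⁻¹ * (w : G)⁻¹) := by group)
  set K := ψ.range.map Dd.subtype with hK
  have hKDd : K ≤ Dd := map_subtype_le _
  have hKne : ¬ Dd ≤ K := by
    intro h
    obtain ⟨c, hc, hc1, hca⟩ := exists_fixed hap (hDp.to_le (hDdZ.trans inf_le_left)) (zpowers_le.2 haDd) hDd1
    have hsurj : Function.Surjective ψ := fun w => by
      obtain ⟨_, ⟨v, rfl⟩, hv⟩ := h w.2
      exact ⟨v, Subtype.ext hv⟩
    have h1 : ψ ⟨c, hc⟩ = ψ 1 := Subtype.ext (by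
      show ⁅a, c⁆ = ⁅a, (1 : G)⁆
      rw [commutatorElement_eq_one_iff_mul_comm.2 (hca a (mem_zpowers a)), commutatorElement_one_right])
    exact hc1 (congrArg Subtype.val (Finite.injective_iff_surjective.2 hsurj h1))
  have hKψ : ∀ w ∈ Dd, a * w * a⁻¹ * w⁻¹ ∈ K := fun w hw => ⟨ψ ⟨w, hw⟩, ⟨⟨w, hw⟩, rfl⟩, rfl⟩
  have haK : a ∈ normalizer (K : Set G) := mem_normalizer_of_forall' fun y hy => by
    have h1 := K.mul_mem (hKψ y (hKDd hy)) hy
    simpa [mul_assoc] using h1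
  have hKa : ∀ (i : ℕ) (w : G), w ∈ Dd → (a ^ i * w * (a ^ i)⁻¹) * w⁻¹ ∈ K := by
    intro i w hw
    induction i with
    | zero => simp
    | succ i ih =>
      have h1 := hKψ _ ((mem_normalizer_iff.1 (pow_mem haDd i) w).1 hw)
      have h2 := K.mul_mem h1 ih
      rw [pow_succ']
      simpa [mul_assoc] using h2
  have hKcD : ∀ k ∈ K, ∀ x ∈ D, k * x = x * k := fun k hk x hx => hZc k (hDdZ (hKDd hk)) x hx
  have hSK : ∀ u ∈ S, ∀ w ∈ Dd, u * w * u⁻¹ = w := fun u hu w hw =>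
    mul_inv_eq_iff_eq_mul.2 (mem_centralizer_iff.1 (hSZ hu) w (hDdZ hw)).symm
  -- bilinearity
  have hbl : ∀ x ∈ D, ∀ y ∈ D, ∀ w ∈ D, ⁅x * y, w⁆ = ⁅x, w⁆ * ⁅y, w⁆ := by
    intro x hx y hy w hw
    have h1 := hZc _ (hcD y hy w hw) x hx
    have h2 := hZc _ (hcD y hy w hw) _ (hcD x hx w hw).1
    rw [← h2]
    simp only [commutatorElement_def] at h1 ⊢
    calc x * y * w * (x * y)⁻¹ * w⁻¹ = x * (y * w * y⁻¹ * w⁻¹) * (w * x⁻¹ * w⁻¹) := by group
      _ = y * w * y⁻¹ * w⁻¹ * x * (w * x⁻¹ * w⁻¹) := by rw [← h1]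
      _ = y * w * y⁻¹ * w⁻¹ * (x * w * x⁻¹ * w⁻¹) := by group
  let R1 : Subgroup G :=
    { carrier := {x | x ∈ D ∧ ∀ y ∈ D, ⁅x, y⁆ ∈ K}
      one_mem' := ⟨D.one_mem, fun y _ => by simp [commutatorElement_def]⟩
      mul_mem' := fun {x y} hx hy => ⟨D.mul_mem hx.1 hy.1, fun w hw => by
        rw [hbl x hx.1 y hy.1 w hw]; exact K.mul_mem (hx.2 w hw) (hy.2 w hw)⟩
      inv_mem' := fun {x} hx => ⟨D.inv_mem hx.1, fun w hw => by
        have h := hbl x hx.1 x⁻¹ (D.inv_mem hx.1) w hw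
        rw [mul_inv_cancel, commutatorElement_one_left] at h
        rw [show ⁅x⁻¹, w⁆ = ⁅x, w⁆⁻¹ from eq_inv_of_mul_eq_one_right h.symm]
        exact K.inv_mem (hx.2 w hw)⟩ }
  have hR1D : R1 ≤ D := fun x hx => hx.1
  have hZR1 : Z ≤ R1 := fun z hz => ⟨hz.1, fun y hy => by
    rw [commutatorElement_eq_one_iff_mul_comm.2 (hZc z hz y hy)]; exact K.one_mem⟩
  have hR1n : ∀ g : G, g ∈ normalizer (D : Set G) → (∀ k ∈ K, g * k * g⁻¹ ∈ K) → g ∈ normalizer (R1 : Set G) := by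
    intro g hg hgK
    refine mem_normalizer_of_forall' fun x hx => ⟨(mem_normalizer_iff.1 hg x).1 hx.1, fun y hy => ?_⟩
    have hy' : g⁻¹ * y * g ∈ D := by
      have := (mem_normalizer_iff.1 (inv_mem hg) y).1 hy
      simpa using this
    have h := hgK _ (hx.2 _ hy')
    simpa [commutatorElement_def, mul_assoc] using h
  have hDn : D ≤ normalizer (R1 : Set G) := fun d hd =>
    hR1n d (le_normalizer hd) fun k hk => by rw [← hKcD k hk d hd, mul_inv_cancel_right]; exact hk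
  have hSn : S ≤ normalizer (R1 : Set G) := fun u hu =>
    hR1n u (hSnD hu) fun k hk => by rw [hSK u hu k (hKDd hk)]; exact hk
  have han : a ∈ normalizer (R1 : Set G) :=
    hR1n a hanD fun k hk => (mem_normalizer_iff.1 haK k).1 hk
  -- the norms lie in `R1`
  letI : CommGroup Dd := { (inferInstance : Group Dd) with mul_comm := hDdcomm }
  let K' := K.subgroupOf Dd
  let β : D → D → Dd ⧸ K' := fun x y => QuotientGroup.mk ⟨⁅(x : G), (y : G)⁆, commutator_mem_commutator x.2 y.2⟩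
  have hβ0 : ∀ x y : D, β x y = 1 ↔ ⁅(x : G), (y : G)⁆ ∈ K := fun x y => QuotientGroup.eq_one_iff _
  have hβmul : ∀ x x' y : D, β (x * x') y = β x y * β x' y := fun x x' y => by
    show QuotientGroup.mk _ = QuotientGroup.mk _ * QuotientGroup.mk _
    rw [← QuotientGroup.mk_mul]
    exact congrArg _ (Subtype.ext (hbl x x.2 x' x'.2 y y.2))
  have hβskew : ∀ x y : D, β y x = (β x y)⁻¹ := fun x y => by
    show QuotientGroup.mk _ = (QuotientGroup.mk _)⁻¹
    rw [← QuotientGroup.mk_inv]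
    exact congrArg _ (Subtype.ext (commutatorElement_inv (x : G) (y : G)).symm)
  let cj : ℕ → D → D := fun i x => ⟨a ^ i * x * (a ^ i)⁻¹, hconjD i x x.2⟩
  have hβcj : ∀ (i j : ℕ) (x y : D), p ∣ i + j → β (cj i x) y = β x (cj j y) := by
    intro i j x y hij
    refine QuotientGroup.eq.2 ?_
    show (⁅a ^ i * (x : G) * (a ^ i)⁻¹, (y : G)⁆)⁻¹ * ⁅(x : G), a ^ j * y * (a ^ j)⁻¹⁆ ∈ K
    have h1 := hKa i _ (commutator_mem_commutator x.2 (hconjD j y y.2))
    have hpow : a ^ (i + j) = 1 := by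
      obtain ⟨c, hc⟩ := hij
      rw [hc, pow_mul, hap1, one_pow]
    have h2 : ⁅a ^ i * (x : G) * (a ^ i)⁻¹, (y : G)⁆ =
        a ^ i * ⁅(x : G), a ^ j * y * (a ^ j)⁻¹⁆ * (a ^ i)⁻¹ := by
      have e : a ^ i * (a ^ j * (y : G) * (a ^ j)⁻¹) * (a ^ i)⁻¹ = y := by
        rw [show a ^ i * (a ^ j * (y : G) * (a ^ j)⁻¹) * (a ^ i)⁻¹ = a ^ (i + j) * y * (a ^ (i + j))⁻¹ by
          rw [pow_add]; group, hpow]; simp
      conv_lhs => rw [← e]
      simp [commutatorElement_def, mul_assoc]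
    rw [h2]
    set w := ⁅(x : G), a ^ j * (y : G) * (a ^ j)⁻¹⁆ with hw
    have hwD : a ^ i * w * (a ^ i)⁻¹ ∈ D := hconjD i w (hDdZ (commutator_mem_commutator x.2 (hconjD j y y.2))).1
    have h3 := hZc _ (hDdZ (commutator_mem_commutator x.2 (hconjD j y y.2))) _ hwD
    have h4 := K.inv_mem h1
    rw [mul_inv_rev, inv_inv] at h4
    have h5 : (a ^ i * w * (a ^ i)⁻¹)⁻¹ * w = w * (a ^ i * w * (a ^ i)⁻¹)⁻¹ := by
      rw [inv_mul_eq_iff_eq_mul, ← mul_assoc, ← h3, mul_assoc, mul_inv_cancel, mul_one]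
    rw [h5]; exact h4
  have hνprod' : ∀ (x : D) (n : ℕ) (y : D),
      β ⟨_, hνprod x n x.2⟩ y = ∏ i ∈ Finset.range n, β (cj i x) y := by
    intro x n y
    induction n with
    | zero =>
      rw [Finset.prod_range_zero, hβ0]
      simp [commutatorElement_def]
    | succ n ih =>
      rw [Finset.prod_range_succ, ← ih, ← hβmul]
      congr 1
      refine Subtype.ext ?_
      show ((x : G) * a) ^ (n + 1) * (a ^ (n + 1))⁻¹ = ((x : G) * a) ^ n * (a ^ n)⁻¹ * (a ^ n * x * (a ^ n)⁻¹)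
      rw [pow_succ, pow_succ]; group
  let νD : D → D := fun x => ⟨ν x, (hνF x x.2).1⟩
  have hβν : ∀ x y : D, β (νD x) y = β x (νD y) := by
    intro x y
    have e : ∀ z : D, νD z = ⟨_, hνprod z p z.2⟩ := fun z => Subtype.ext (by
      show ((z : G) * a) ^ p = ((z : G) * a) ^ p * (a ^ p)⁻¹
      rw [hap1, inv_one, mul_one])
    rw [e x, e y, hνprod', hβskew, hνprod', ← Finset.prod_inv_distrib]
    refine Finset.prod_bij (fun i _ => (p - i) % p) (fun i _ => Finset.mem_range.2 (Nat.mod_lt _ hp.out.pos))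
      ?_ ?_ ?_
    · intro i hi j hj h
      have hi' := Finset.mem_range.1 hi
      have hj' := Finset.mem_range.1 hj
      rcases Nat.eq_zero_or_pos i with rfl | hi0 <;> rcases Nat.eq_zero_or_pos j with rfl | hj0
      · rfl
      · rw [Nat.sub_zero, Nat.mod_self, Nat.mod_eq_of_lt (by omega)] at h; omega
      · rw [Nat.sub_zero, Nat.mod_self, Nat.mod_eq_of_lt (show p - i < p by omega)] at h; omega
      · rw [Nat.mod_eq_of_lt (show p - i < p by omega), Nat.mod_eq_of_lt (show p - j < p by omega)] at h; omega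
    · intro j hj
      have hj' := Finset.mem_range.1 hj
      refine ⟨(p - j) % p, Finset.mem_range.2 (Nat.mod_lt _ hp.out.pos), ?_⟩
      rcases Nat.eq_zero_or_pos j with rfl | hj0
      · simp
      · rw [Nat.mod_eq_of_lt (show p - j < p by omega), Nat.sub_sub_self hj'.le, Nat.mod_eq_of_lt hj']
    · intro i hi
      have hi' := Finset.mem_range.1 hi
      rw [hβcj i ((p - i) % p) x y (by
        rcases Nat.eq_zero_or_pos i with rfl | hi0
        · simp
        · rw [Nat.mod_eq_of_lt (show p - i < p by omega), Nat.add_sub_cancel' hi'.le]), hβskew]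
  have hνR1 : ∀ x ∈ D, ν x ∈ R1 := by
    by_contra h
    push_neg at h
    obtain ⟨x₀, hx₀, hν₀⟩ := h
    set e := νD ⟨x₀, hx₀⟩ with he
    have heZ : (e : G) ∉ Z := fun h => hν₀ (hZR1 h)
    have hpowe : ∀ y : D, ∃ i : ℤ, ∀ z : D, β (νD y) z = β e z ^ i := by
      intro y
      obtain ⟨i, hi⟩ := hline _ (hνF x₀ hx₀) heZ _ (hνF y y.2)
      refine ⟨i, fun z => ?_⟩
      have hsplit : νD y = e ^ i * ((e ^ i)⁻¹ * νD y) := (mul_inv_cancel_left _ _).symm
      rw [hsplit, hβmul, (hβ0 ((e ^ i)⁻¹ * νD y) z).2 ((hZR1 (by simpa using hi)).2 z z.2), mul_one]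
      exact map_zpow (MonoidHom.mk' (fun w => β w z) fun a b => hβmul a b z) e i
    -- `β e x₀` is an involution and a `p`-element
    have hex : β e ⟨x₀, hx₀⟩ = 1 := by
      have h1 : β e ⟨x₀, hx₀⟩ = β ⟨x₀, hx₀⟩ e := hβν ⟨x₀, hx₀⟩ ⟨x₀, hx₀⟩
      have h2 : β e ⟨x₀, hx₀⟩ ^ 2 = 1 := by
        rw [pow_two]; nth_rewrite 2 [h1]; rw [hβskew e, mul_inv_cancel]
      have hpG : IsPGroup p (Dd ⧸ K') := (hDp.to_le (hDdZ.trans inf_le_left)).to_quotient _
      obtain ⟨j, hj⟩ := hpG (β e ⟨x₀, hx₀⟩)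
      have h3 := pow_gcd_eq_one.2 ⟨h2, hj⟩
      rwa [((Nat.coprime_primes Nat.prime_two hp.out).2 (Ne.symm hp2)).pow_right j |>.gcd_eq_one, pow_one] at h3
    refine hν₀ ⟨(hνF x₀ hx₀).1, fun y hy => (hβ0 e ⟨y, hy⟩).1 ?_⟩
    obtain ⟨i, hi⟩ := hpowe ⟨y, hy⟩
    calc β e ⟨y, hy⟩ = β ⟨x₀, hx₀⟩ (νD ⟨y, hy⟩) := hβν _ _
      _ = (β (νD ⟨y, hy⟩) ⟨x₀, hx₀⟩)⁻¹ := hβskew _ _
      _ = 1 := by rw [hi, hex, one_zpow, inv_one]
  have hDS : ⁅D, S⁆ ≤ R1 := commutator_le_of_norm hDp ha hSnD hanD haS hR1D hDn hSn han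
    (fun x hx y hy => hZR1 (hcD x hx y hy)) hfree hcop fun x hx u hu => by
      rw [commutatorElement_def]
      exact R1.mul_mem ((mem_normalizer_iff.1 (hSn hu) _).1 (hνR1 x hx)) (R1.inv_mem (hνR1 x hx))
  have hD1 : D ≤ R1 := by
    rw [← CfsgLib.Solvable.commutator_sup_centralizer hSnD hcopD hsolD]
    exact sup_le hDS (hCZ.trans hZR1)
  exact hKne (commutator_le.2 fun x hx y hy => (hD1 hx).2 y hy)

end CfsgLib.Techniques.SmallFixedAction
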