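import Cfsg.Agent.Lib.Solvable.CoprimeAction
import Cfsg.Agent.Lib.Solvable.UniqueSubgroup
import Cfsg.Agent.S0205

/-!
Coprime generation: if an abelian 2-group `A` acts on a group `Y = ⁅Y, A⁆` of odd order, then
`C_Y(A)` is generated by its intersections with the groups `⁅C_Y(B₀), A⁆`, where `B₀` runs over the
subgroups of `B ≤ A` with `B / B₀` cyclic.
-/

set_option autoImplicit false
set_option linter.unusedSectionVars false
set_option linter.style.haveILetI false

open scoped commutatorElement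
open Subgroup

namespace CfsgLib.Techniques.CoprimeGenCB
open CfsgLib.Solvable

variable {G : Type*} [Group G]

theorem mem_of_pow_mem_coprime {S : Subgroup G} {x : G} {n : ℕ} (h : x ^ n ∈ S)
    (hn : n.Coprime (orderOf x)) : x ∈ S := by
  obtain ⟨m, hm⟩ := exists_pow_eq_self_of_coprime hn
  exact hm ▸ pow_mem h m

variable [Finite G]

theorem le_normalizer_sup {A S T : Subgroup G} (hS : A ≤ normalizer (S : Set G))
    (hT : A ≤ normalizer (T : Set G)) : A ≤ normalizer ((S ⊔ T : Subgroup G) : Set G) := by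
  refine le_normalizer_of_conj_mem fun a ha x hx => ?_
  suffices S ⊔ T ≤ (S ⊔ T).comap (MulAut.conj a).toMonoidHom from this hx
  exact sup_le (fun y hy => mem_sup_left (normalizer_conj_mem (hS ha) hy))
    (fun y hy => mem_sup_right (normalizer_conj_mem (hT ha) hy))

theorem le_normalizer_iSup {ι : Sort*} {A : Subgroup G} {S : ι → Subgroup G}
    (hS : ∀ i, A ≤ normalizer (S i : Set G)) :
    A ≤ normalizer ((⨆ i, S i : Subgroup G) : Set G) := by
  refine le_normalizer_of_conj_mem fun a ha x hx => ?_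
  suffices (⨆ i, S i) ≤ (⨆ i, S i).comap (MulAut.conj a).toMonoidHom from this hx
  exact iSup_le fun i y hy => mem_iSup_of_mem i (normalizer_conj_mem (hS i ha) hy)

theorem le_normalizer_of_commutator_le {R S : Subgroup G} (hS : S ≤ R) (h : ⁅R, R⁆ ≤ S) :
    R ≤ normalizer (S : Set G) := by
  refine le_normalizer_of_conj_mem fun r hr x hx => ?_
  have e : r * x * r⁻¹ = ⁅r, x⁆ * x := by group
  rw [e]
  exact mul_mem (h (commutator_mem_commutator hr (hS hx))) hx

theorem le_normalizer_commutator {A H K : Subgroup G} (hH : A ≤ normalizer (H : Set G))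
    (hK : A ≤ normalizer (K : Set G)) : A ≤ normalizer ((⁅H, K⁆ : Subgroup G) : Set G) :=
  (le_inf hH hK).trans (normalizer_le_normalizer_commutator H K)

/-- `C_R(A) ≤ N` if `R / N` is abelian and `R = N ⁅R, A⁆`, orders coprime. -/
theorem inf_centralizer_le_of_abelian {A R N : Subgroup G} (hNR : N ≤ R)
    (hR : A ≤ normalizer (R : Set G)) (hN : A ≤ normalizer (N : Set G)) (hab : ⁅R, R⁆ ≤ N)
    (hcop : (Nat.card A).Coprime (Nat.card R)) (hgen : R ≤ N ⊔ ⁅R, A⁆) :
    R ⊓ centralizer (A : Set G) ≤ N := by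
  classical
  haveI := Fintype.ofFinite A
  haveI hNn : (N.subgroupOf R).Normal := ⟨fun n hn g => by
    have e : (g : G) * (n : G) * (g : G)⁻¹ = ⁅(g : G), (n : G)⁆ * (n : G) := by group
    show (g : G) * (n : G) * (g : G)⁻¹ ∈ N
    rw [e]
    exact mul_mem (hab (commutator_mem_commutator g.2 n.2)) hn⟩
  let q := QuotientGroup.mk' (N.subgroupOf R)
  letI : CommGroup (R ⧸ N.subgroupOf R) :=
    { (inferInstance : Group (R ⧸ N.subgroupOf R)) with
      mul_comm := fun a b => by
        obtain ⟨x, rfl⟩ := QuotientGroup.mk'_surjective (N.subgroupOf R) a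
        obtain ⟨y, rfl⟩ := QuotientGroup.mk'_surjective (N.subgroupOf R) b
        rw [← map_mul, ← map_mul]
        refine QuotientGroup.eq.2 ?_
        show ((x : G) * (y : G))⁻¹ * ((y : G) * (x : G)) ∈ N
        have e : ((x : G) * (y : G))⁻¹ * ((y : G) * (x : G)) = ⁅(y : G)⁻¹, (x : G)⁻¹⁆ := by group
        rw [e]
        exact hab (commutator_mem_commutator (inv_mem y.2) (inv_mem x.2)) }
  let cj : A → R →* R := fun a =>
    { toFun := fun x => ⟨(a : G) * x * (a : G)⁻¹, normalizer_conj_mem (hR a.2) x.2⟩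
      map_one' := by ext; simp
      map_mul' := fun x y => by ext; simp [mul_assoc] }
  let ψ : R →* R ⧸ N.subgroupOf R := ∏ a : A, q.comp (cj a)
  have hψ : ∀ x, ψ x = ∏ a : A, q (cj a x) := fun x => by simp [ψ, MonoidHom.finset_prod_apply]
  have hinv : ∀ (b : A) (x : R), ψ (cj b x) = ψ x := fun b x => by
    rw [hψ, hψ]
    refine Fintype.prod_equiv (Equiv.mulRight b) _ _ fun a => ?_
    congr 1
    ext
    simp [cj, mul_assoc]
  have hker : N ⊔ ⁅R, A⁆ ≤ ψ.ker.map R.subtype := by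
    refine sup_le (fun x hx => ⟨⟨x, hNR hx⟩, ?_, rfl⟩) (commutator_le.2 fun x hx a ha => ?_)
    · show ψ _ = 1
      rw [hψ]
      exact Finset.prod_eq_one fun a _ => (QuotientGroup.eq_one_iff _).2
        (normalizer_conj_mem (hN a.2) hx)
    · refine ⟨⟨x, hx⟩ * cj ⟨a, ha⟩ ⟨x, hx⟩⁻¹, ?_, ?_⟩
      · show ψ _ = 1
        rw [map_mul, hinv, map_inv, mul_inv_cancel]
      · simp [cj, commutatorElement_def, mul_assoc]
  rintro c ⟨hcR, hcA⟩
  obtain ⟨y, hy, hyc⟩ := hker (hgen hcR)
  obtain rfl : y = ⟨c, hcR⟩ := Subtype.ext hyc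
  have hy : ψ ⟨c, hcR⟩ = 1 := hy
  rw [hψ, Finset.prod_congr rfl (g := fun _ => q ⟨c, hcR⟩) (fun a _ => by
    congr 1
    ext
    show (a : G) * c * (a : G)⁻¹ = c
    rw [mem_centralizer_iff.1 hcA a a.2, mul_inv_cancel_right]), Finset.prod_const,
    Finset.card_univ, ← Nat.card_eq_fintype_card, ← map_pow] at hy
  have h2 : c ^ Nat.card A ∈ N := by
    have h := (QuotientGroup.eq_one_iff (N := N.subgroupOf R) ((⟨c, hcR⟩ : R) ^ Nat.card A)).1 hy
    simpa [mem_subgroupOf] using h
  exact mem_of_pow_mem_coprime h2 (hcop.coprime_dvd_right (R.orderOf_dvd_natCard hcR))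

variable (A B Y : Subgroup G)

/-- The subgroups `B₀ ≤ B` with `B / B₀` cyclic. -/
def CycIdx (B B₀ : Subgroup G) : Prop :=
  B₀ ≤ B ∧ ∀ [(B₀.subgroupOf B).Normal], IsCyclic (↥B ⧸ B₀.subgroupOf B)

/-- `⁅C_Y(B₀), A⁆`. -/
def genX (B₀ : Subgroup G) : Subgroup G := ⁅Y ⊓ centralizer (B₀ : Set G), A⁆

/-- The subgroup generated by the `M ∩ ⁅C_Y(B₀), A⁆`. -/
def genH (M : Subgroup G) : Subgroup G :=
  ⨆ i : {B₀ : Subgroup G // CycIdx B B₀}, M ⊓ genX A Y i

/-- The subgroup generated by the `C_M(A) ∩ ⁅C_Y(B₀), A⁆`. -/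
def genT (M : Subgroup G) : Subgroup G :=
  ⨆ i : {B₀ : Subgroup G // CycIdx B B₀}, centralizer (A : Set G) ⊓ M ⊓ genX A Y i

/-- The lower central series of `M`, inside `G`. -/
def genL (M : Subgroup G) : ℕ → Subgroup G
  | 0 => M
  | n + 1 => ⁅genL M n, M⁆

/-- Standing hypotheses. -/
structure Setting : Prop where
  comm : ∀ a ∈ A, ∀ b ∈ A, a * b = b * a
  two : IsPGroup 2 A
  le : B ≤ A
  odd : Odd (Nat.card Y)
  norm : A ≤ normalizer (Y : Set G)

variable {A B Y}

theorem genT_le_centralizer (M : Subgroup G) : genT A B Y M ≤ centralizer (A : Set G) :=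
  iSup_le fun _ => inf_le_left.trans inf_le_left

theorem genT_le (M : Subgroup G) : genT A B Y M ≤ M :=
  iSup_le fun _ => inf_le_left.trans inf_le_right

theorem genT_le_genH (M : Subgroup G) : genT A B Y M ≤ genH A B Y M :=
  iSup_mono fun _ => inf_le_inf_right _ inf_le_right

theorem genT_mono {M M' : Subgroup G} (h : M ≤ M') : genT A B Y M ≤ genT A B Y M' :=
  iSup_mono fun _ => inf_le_inf_right _ (inf_le_inf_left _ h)

theorem genH_le (M : Subgroup G) : genH A B Y M ≤ M := iSup_le fun _ => inf_le_left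

theorem centralizer_le_normalizer_self (S : Subgroup G) (h : A ≤ centralizer (S : Set G)) :
    A ≤ normalizer (S : Set G) := by
  refine le_normalizer_of_conj_mem fun a ha x hx => ?_
  rw [← mem_centralizer_iff.1 (h ha) x hx, mul_inv_cancel_right]
  exact hx

namespace Setting

theorem solA (hS : Setting A B Y) : Group.IsSolvable A :=
  isSolvable_of_comm fun a b => Subtype.ext (hS.comm a a.2 b b.2)

theorem cop (hS : Setting A B Y) {D K : Subgroup G} (hD : D ≤ A) (hK : K ≤ Y) :
    (Nat.card D).Coprime (Nat.card K) := by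
  obtain ⟨k, hk⟩ := (IsPGroup.iff_card (p := 2)).1 hS.two
  refine Nat.Coprime.coprime_dvd_left (card_dvd_of_le hD) ?_
  rw [hk]
  exact Nat.Coprime.pow_left k
    (Nat.Coprime.coprime_dvd_right (card_dvd_of_le hK) hS.odd.coprime_two_left)

theorem cop_two (hS : Setting A B Y) {y : G} (hy : y ∈ Y) : Nat.Coprime 2 (orderOf y) :=
  Nat.Coprime.coprime_dvd_right (Y.orderOf_dvd_natCard hy) hS.odd.coprime_two_left

theorem norm_sub (hS : Setting A B Y) {D : Subgroup G} (hD : D ≤ A) :
    A ≤ normalizer (D : Set G) :=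
  le_normalizer_of_conj_mem fun a ha d hd => by
    rw [hS.comm a ha d (hD hd), mul_inv_cancel_right]; exact hd

theorem norm_cent (hS : Setting A B Y) {D : Subgroup G} (hD : D ≤ A) :
    A ≤ normalizer ((centralizer (D : Set G) : Subgroup G) : Set G) :=
  (hS.norm_sub hD).trans (normalizer_le_normalizer_centralizer D)

theorem decomp (hS : Setting A B Y) {D K : Subgroup G} (hD : D ≤ A) (hKY : K ≤ Y)
    (hn : A ≤ normalizer (K : Set G)) {k : G} (hk : k ∈ K) :
    ∃ x ∈ ⁅K, D⁆, ∃ c ∈ K ⊓ centralizer (D : Set G), k = x * c :=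
  exists_commutator_mul_centralizer (hD.trans hn) (hS.cop hD hKY)
    (.inl (isSolvable_of_le hS.solA hD)) hk

theorem genX_le (hS : Setting A B Y) {B₀ : Subgroup G} (h : B₀ ≤ A) :
    genX A Y B₀ ≤ Y ⊓ centralizer (B₀ : Set G) :=
  commutator_le_of_le_normalizer (le_normalizer_inf hS.norm (hS.norm_cent h))

theorem genX_norm (hS : Setting A B Y) {B₀ : Subgroup G} (h : B₀ ≤ A) :
    A ≤ normalizer ((genX A Y B₀ : Subgroup G) : Set G) :=
  le_normalizer_commutator_right (le_normalizer_inf hS.norm (hS.norm_cent h))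

theorem le_genH_sup (hS : Setting A B Y) {K : Subgroup G} (hKY : K ≤ Y)
    (hKA : A ≤ normalizer (K : Set G)) :
    K ≤ (⨆ i : {B₀ : Subgroup G // CycIdx B B₀}, K ⊓ centralizer ((i : Subgroup G) : Set G))
      ⊔ ⁅K, K⁆ := by
  set Tg := (⨆ i : {B₀ : Subgroup G // CycIdx B B₀}, K ⊓ centralizer ((i : Subgroup G) : Set G))
      ⊔ ⁅K, K⁆ with hTg
  have hK' : ⁅K, K⁆ ≤ K := commutator_le_of_le_normalizer le_normalizer
  have hTK : Tg ≤ K := sup_le (iSup_le fun _ => inf_le_left) hK'
  have hTn : K ≤ normalizer (Tg : Set G) := le_normalizer_of_commutator_le hTK le_sup_right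
  have hTA : A ≤ normalizer (Tg : Set G) :=
    le_normalizer_sup (le_normalizer_iSup fun i =>
      le_normalizer_inf hKA (hS.norm_cent (i.2.1.trans hS.le)))
      (le_normalizer_commutator hKA hKA)
  suffices key : ∀ n, ∀ D : Subgroup G, D ≤ B → Nat.card B - Nat.card D = n →
      K ⊓ centralizer (D : Set G) ≤ Tg by
    intro k hk
    exact key _ ⊥ bot_le rfl ⟨hk, by simp [mem_centralizer_iff]⟩
  intro n
  induction n using Nat.strong_induction_on with
  | _ n ih =>
    intro D hDB hn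
    by_cases hcy : CycIdx B D
    · exact (le_iSup (fun i : {B₀ : Subgroup G // CycIdx B B₀} =>
        K ⊓ centralizer ((i : Subgroup G) : Set G)) ⟨D, hcy⟩).trans le_sup_left
    · have hcB : ∀ a ∈ B, ∀ b ∈ B, a * b = b * a := fun a ha b hb =>
        hS.comm a (hS.le ha) b (hS.le hb)
      haveI hnorm : (D.subgroupOf B).Normal := ⟨fun d hd g => by
        have e : g * d * g⁻¹ = d := by
          ext; simp [hcB g g.2 d d.2]
        rwa [e]⟩
      have hnc : ¬ IsCyclic (↥B ⧸ D.subgroupOf B) := fun h => hcy ⟨hDB, fun {_} => h⟩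
      haveI : Fact (Nat.Prime 2) := ⟨Nat.prime_two⟩
      have hQ : IsPGroup 2 (↥B ⧸ D.subgroupOf B) :=
        (hS.two.to_le hS.le).to_quotient (D.subgroupOf B)
      have hQc : ∀ x y : ↥B ⧸ D.subgroupOf B, x * y = y * x := by
        intro x y
        obtain ⟨x, rfl⟩ := QuotientGroup.mk'_surjective (D.subgroupOf B) x
        obtain ⟨y, rfl⟩ := QuotientGroup.mk'_surjective (D.subgroupOf B) y
        rw [← map_mul, ← map_mul]
        congr 1
        exact Subtype.ext (hcB x x.2 y y.2)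
      obtain ⟨x, y, hx, hy, hxy⟩ : ∃ x y : ↥B ⧸ D.subgroupOf B,
          orderOf x = 2 ∧ orderOf y = 2 ∧ x ∉ zpowers y := by
        by_contra hcon
        exact hnc (isCyclic_of_unique_of_comm hQ hQc fun x y hx hy =>
          by_contra fun h => hcon ⟨x, y, hx, hy, h⟩)
      obtain ⟨b₁, rfl⟩ := QuotientGroup.mk'_surjective (D.subgroupOf B) x
      obtain ⟨b₂, rfl⟩ := QuotientGroup.mk'_surjective (D.subgroupOf B) y
      have hmem : ∀ b : B, QuotientGroup.mk' (D.subgroupOf B) b = 1 ↔ (b : G) ∈ D := fun b =>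
        QuotientGroup.eq_one_iff b
      have hsq : ∀ b : B, orderOf (QuotientGroup.mk' (D.subgroupOf B) b) = 2 →
          (b : G) ∉ D ∧ (b : G) ^ 2 ∈ D := fun b hb => ⟨fun h => by
            rw [(hmem b).2 h, orderOf_one] at hb; omega, by
            have h := pow_orderOf_eq_one (QuotientGroup.mk' (D.subgroupOf B) b)
            rw [hb, ← map_pow, hmem] at h
            simpa using h⟩
      obtain ⟨h1n, h1s⟩ := hsq b₁ hx
      obtain ⟨h2n, h2s⟩ := hsq b₂ hy
      have h3n : (b₁ : G) * b₂ ∉ D := fun h => hxy (by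
        have h' := (hmem (b₁ * b₂)).2 (by simpa using h)
        rw [map_mul, mul_eq_one_iff_eq_inv] at h'
        rw [h']
        exact inv_mem (mem_zpowers _))
      have h3s : ((b₁ : G) * b₂) ^ 2 ∈ D := by
        have e : ((b₁ : G) * b₂) ^ 2 = (b₁ : G) ^ 2 * (b₂ : G) ^ 2 :=
          (show Commute (b₁ : G) b₂ from hcB _ b₁.2 _ b₂.2).mul_pow 2
        rw [e]
        exact mul_mem h1s h2s
      have hWA : A ≤ normalizer ((K ⊓ centralizer (D : Set G) : Subgroup G) : Set G) :=
        le_normalizer_inf hKA (hS.norm_cent (hDB.trans hS.le))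
      have half : ∀ b ∈ B, b ∉ D → b ^ 2 ∈ D → ∀ k ∈ K ⊓ centralizer (D : Set G),
          k * (b * k * b⁻¹) ∈ Tg := by
        intro b hb hbD hb2 k hk
        have hkb : b * k * b⁻¹ ∈ K ⊓ centralizer (D : Set G) :=
          normalizer_conj_mem (hWA (hS.le hb)) hk
        have hbA : zpowers b ≤ A := zpowers_le.2 (hS.le hb)
        set u := k * (b * k * b⁻¹) with hu
        have huW : u ∈ K ⊓ centralizer (D : Set G) := mul_mem hk hkb
        have hfix : ∀ d ∈ D, ∀ w ∈ K ⊓ centralizer (D : Set G), d * w * d⁻¹ = w :=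
          fun d hd w hw => by rw [mem_centralizer_iff.1 hw.2 d hd, mul_inv_cancel_right]
        have hb1 : ⁅b, u⁆ ∈ K ⊓ centralizer (D : Set G) ⊓ Tg := by
          have hbb : b * (b * k * b⁻¹) * b⁻¹ = k := by
            calc b * (b * k * b⁻¹) * b⁻¹ = b ^ 2 * k * (b ^ 2)⁻¹ := by rw [pow_two]; group
              _ = k := hfix _ hb2 _ hk
          have e : ⁅b, u⁆ = ⁅b * k * b⁻¹, k⁆ := by
            calc ⁅b, u⁆ = (b * k * b⁻¹) * (b * (b * k * b⁻¹) * b⁻¹) * (b * k * b⁻¹)⁻¹ * k⁻¹ := by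
                  rw [hu]; group
              _ = ⁅b * k * b⁻¹, k⁆ := by rw [hbb, commutatorElement_def]
          rw [e]
          have h1 : ⁅b * k * b⁻¹, k⁆ ∈ K ⊓ centralizer (D : Set G) := by
            rw [commutatorElement_def]
            exact mul_mem (mul_mem (mul_mem hkb hk) (inv_mem hkb)) (inv_mem hk)
          exact ⟨h1, mem_sup_right (commutator_mem_commutator hkb.1 hk.1)⟩
        have hall : ∀ a ∈ zpowers b, ⁅a, u⁆ ∈ K ⊓ centralizer (D : Set G) ⊓ Tg := by
          intro a ha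
          obtain ⟨j, rfl⟩ := mem_zpowers_iff.1 ha
          obtain ⟨i, rfl⟩ | ⟨i, rfl⟩ := j.even_or_odd
          · have hd : b ^ (i + i) ∈ D := by
              rw [← two_mul, zpow_mul]
              exact zpow_mem (by exact_mod_cast hb2) i
            rw [commutatorElement_def, hfix _ hd _ huW, mul_inv_cancel]
            exact one_mem _
          · have hd : b ^ (2 * i) ∈ D := by
              rw [zpow_mul]
              exact zpow_mem (by exact_mod_cast hb2) i
            rw [zpow_add_one]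
            have e : ∀ d : G, ⁅d * b, u⁆ = d * ⁅b, u⁆ * d⁻¹ * (d * u * d⁻¹ * u⁻¹) := fun d => by
              group
            rw [e, hfix _ hd _ hb1.1, hfix _ hd _ huW, mul_inv_cancel, mul_one]
            exact hb1
        obtain ⟨m, hm, hmu⟩ := exists_mul_mem_centralizer (zpowers b)
          (K ⊓ centralizer (D : Set G) ⊓ Tg) (hbA.trans (le_normalizer_inf hWA hTA))
          (hS.cop hbA ((inf_le_left.trans inf_le_left).trans hKY))
          (.inl (isSolvable_of_le hS.solA hbA)) u hall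
        have hD' : D ⊔ zpowers b ≤ B := sup_le hDB (zpowers_le.2 hb)
        have hlt : Nat.card D < Nat.card (D ⊔ zpowers b : Subgroup G) := by
          by_contra hle
          exact hbD ((eq_of_le_of_card_ge (le_sup_left : D ≤ D ⊔ zpowers b) (not_lt.1 hle)).symm ▸
            mem_sup_right (mem_zpowers b))
        have hle2 := Nat.le_of_dvd Nat.card_pos (card_dvd_of_le hD')
        have hmu' : m * u ∈ K ⊓ centralizer ((D ⊔ zpowers b : Subgroup G) : Set G) := by
          have hz : D ⊔ zpowers b ≤ centralizer ((zpowers (m * u) : Subgroup G) : Set G) :=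
            sup_le (le_centralizer_iff.1 (zpowers_le.2 (mul_mem hm.1 huW).2))
              (le_centralizer_iff.1 (zpowers_le.2 hmu))
          exact ⟨(mul_mem hm.1 huW).1, zpowers_le.1 (le_centralizer_iff.1 hz)⟩
        have := ih _ (by omega) _ hD' rfl hmu'
        have h2 := mul_mem (inv_mem (show m ∈ Tg from hm.2)) this
        rwa [inv_mul_cancel_left] at h2
      intro k hk
      set c : G := (b₁ : G) * k * (b₁ : G)⁻¹ with hc
      set z : G := (b₁ : G) * b₂ * k * ((b₁ : G) * b₂)⁻¹ with hz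
      have e1 : k * c ∈ Tg := half _ b₁.2 h1n h1s k hk
      have e2 : k * z ∈ Tg := half _ (mul_mem b₁.2 b₂.2) h3n h3s k hk
      have e3 : c * z ∈ Tg := by
        have h := normalizer_conj_mem (hTA (hS.le b₁.2)) (half _ b₂.2 h2n h2s k hk)
        have e : c * z = (b₁ : G) * (k * ((b₂ : G) * k * (b₂ : G)⁻¹)) * (b₁ : G)⁻¹ := by
          rw [hc, hz]; group
        rwa [e]
      have e4 : c * k ∈ Tg := by
        have h := normalizer_conj_mem (inv_mem (hTn hk.1)) e1
        have e : c * k = k⁻¹ * (k * c) * (k⁻¹)⁻¹ := by group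
        rwa [e]
      have e5 : k ^ 2 ∈ Tg := by
        have e : k ^ 2 = ((c * z) * (k * z)⁻¹)⁻¹ * (c * k) := by rw [pow_two]; group
        rw [e]
        exact mul_mem (inv_mem (mul_mem e3 (inv_mem e2))) e4
      exact mem_of_pow_mem_coprime e5 (hS.cop_two (hKY hk.1))

theorem le_genH_sup_centralizer (hS : Setting A B Y) {K : Subgroup G} (hKY : K ≤ Y)
    (hKA : A ≤ normalizer (K : Set G)) :
    K ≤ genH A B Y K ⊔ (K ⊓ centralizer (A : Set G)) ⊔ ⁅K, K⁆ := by
  refine (hS.le_genH_sup hKY hKA).trans (sup_le_sup_right (iSup_le fun i => ?_) _)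
  intro k hk
  have hWA : A ≤ normalizer ((K ⊓ centralizer ((i : Subgroup G) : Set G) : Subgroup G) : Set G) :=
    le_normalizer_inf hKA (hS.norm_cent (i.2.1.trans hS.le))
  obtain ⟨x, hx, c, hc, rfl⟩ := hS.decomp le_rfl (inf_le_left.trans hKY) hWA hk
  refine mul_mem (mem_sup_left (mem_iSup_of_mem i ⟨?_, ?_⟩)) (mem_sup_right ⟨hc.1.1, hc.2⟩)
  · exact (commutator_le_of_le_normalizer hWA hx).1
  · exact commutator_mono (inf_le_inf_right _ hKY) le_rfl hx

/-- One step: `C(A) ∩ R₁` is generated modulo `R₀` by the `⁅C_Y(B₀), A⁆`. -/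
theorem step (hS : Setting A B Y) {M R R₁ R₀ N₀ : Subgroup G} (hMY : M ≤ Y) (hRM : R ≤ M)
    (h1R : R₁ ≤ R) (h01 : R₀ ≤ R₁) (hN₀M : N₀ ≤ M) (nR : A ≤ normalizer (R : Set G))
    (nR₁ : A ≤ normalizer (R₁ : Set G)) (nR₀ : A ≤ normalizer (R₀ : Set G))
    (hRM1 : ⁅R, M⁆ ≤ R₁) (hRR1 : ⁅R, R₁⁆ ≤ R₀) (hN : ⁅R, N₀⁆ ≤ R₀)
    (hM : M ≤ genH A B Y M ⊔ N₀) (hgen : R₁ ≤ R₀ ⊔ ⁅R, M⁆) :
    centralizer (A : Set G) ⊓ R₁ ≤ genT A B Y R₁ ⊔ R₀ := by
  set N := genT A B Y R₁ ⊔ R₀ with hNdef
  set E := N ⊔ ⁅R₁, A⁆ with hEdef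
  have hNR : N ≤ R₁ := sup_le (genT_le R₁) h01
  have hER : E ≤ R₁ := sup_le hNR (commutator_le_of_le_normalizer nR₁)
  have hR0E : R₀ ≤ E := le_sup_right.trans le_sup_left
  have hconj : ∀ x ∈ R, ∀ e ∈ E, x * e * x⁻¹ ∈ E := fun x hx e he => by
    have h : x * e * x⁻¹ = ⁅x, e⁆ * e := by group
    rw [h]
    exact mul_mem (hR0E (hRR1 (commutator_mem_commutator hx (hER he)))) he
  have hgenE : ∀ i : {B₀ : Subgroup G // CycIdx B B₀}, ∀ y ∈ M ⊓ genX A Y i, ∀ r ∈ R,
      ⁅r, y⁆ ∈ E := by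
    intro i y hy
    have hBA : (i : Subgroup G) ≤ A := i.2.1.trans hS.le
    let S : Subgroup G :=
      { carrier := {x | x ∈ R ∧ ⁅x, y⁆ ∈ E}
        one_mem' := ⟨one_mem R, by simp⟩
        mul_mem' := fun {x x'} hx hx' => ⟨mul_mem hx.1 hx'.1, by
          have h : ⁅x * x', y⁆ = x * ⁅x', y⁆ * x⁻¹ * ⁅x, y⁆ := by group
          rw [h]
          exact mul_mem (hconj _ hx.1 _ hx'.2) hx.2⟩
        inv_mem' := fun {x} hx => ⟨inv_mem hx.1, by
          have h : ⁅x⁻¹, y⁆ = x⁻¹ * ⁅x, y⁆⁻¹ * (x⁻¹)⁻¹ := by group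
          rw [h]
          exact hconj _ (inv_mem hx.1) _ (inv_mem hx.2)⟩ }
    have hyU := hS.genX_le hBA hy.2
    have hS' : ⁅R, (i : Subgroup G)⁆ ≤ S := by
      rw [commutator_le]
      intro r hr b hb
      refine ⟨commutator_le_of_le_normalizer (hBA.trans nR) (commutator_mem_commutator hr hb), ?_⟩
      have hby : b * y * b⁻¹ = y := by
        rw [mem_centralizer_iff.1 hyU.2 b hb, mul_inv_cancel_right]
      have h1 : ⁅b * r⁻¹ * b⁻¹, y⁆ = b * ⁅r⁻¹, y⁆ * b⁻¹ := by
        calc ⁅b * r⁻¹ * b⁻¹, y⁆ = ⁅b * r⁻¹ * b⁻¹, b * y * b⁻¹⁆ := by rw [hby]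
          _ = b * ⁅r⁻¹, y⁆ * b⁻¹ := by group
      have h2 : ⁅⁅r, b⁆, y⁆ = r * ⁅b * r⁻¹ * b⁻¹, y⁆ * r⁻¹ * ⁅r, y⁆ := by group
      have h3 : ⁅⁅r, b⁆, y⁆ = r * ⁅b, ⁅r⁻¹, y⁆⁆ * r⁻¹ := by
        rw [h2, h1]; group
      rw [h3]
      refine hconj r hr _ (mem_sup_right ?_)
      rw [commutator_comm]
      exact commutator_mem_commutator (hBA hb)
        (hRM1 (commutator_mem_commutator (inv_mem hr) hy.1))
    intro r hr
    obtain ⟨x, hx, c, hc, rfl⟩ := hS.decomp hBA (hRM.trans hMY) nR hr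
    have hxS := hS' hx
    have hw1 : ⁅c, y⁆ ∈ R₁ := hRM1 (commutator_mem_commutator hc.1 hy.1)
    have hw2 : ⁅c, y⁆ ∈ genX A Y i := by
      rw [commutatorElement_def]
      exact mul_mem (normalizer_conj_mem
        (le_normalizer_commutator_left _ A ⟨hMY (hRM hc.1), hc.2⟩) hy.2) (inv_mem hy.2)
    have hw : ⁅c, y⁆ ∈ E := by
      obtain ⟨x', hx', d, hd, he⟩ := hS.decomp le_rfl
        ((inf_le_left (b := genX A Y i)).trans (h1R.trans (hRM.trans hMY)))
        (le_normalizer_inf nR₁ (hS.genX_norm hBA)) (show ⁅c, y⁆ ∈ R₁ ⊓ genX A Y i from ⟨hw1, hw2⟩)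
      rw [he]
      refine mul_mem (mem_sup_right (commutator_mono inf_le_left le_rfl hx'))
        (mem_sup_left (mem_sup_left (mem_iSup_of_mem i ⟨⟨hd.2, hd.1.1⟩, hd.1.2⟩)))
    have h : ⁅x * c, y⁆ = x * ⁅c, y⁆ * x⁻¹ * ⁅x, y⁆ := by group
    rw [h]
    exact mul_mem (hconj _ hxS.1 _ hw) hxS.2
  have hnormE : ∀ y ∈ M, (∀ r ∈ R, ⁅r, y⁆ ∈ E) → y ∈ normalizer (E : Set G) := by
    intro y _ hy
    refine mem_normalizer_of_conj_mem fun e he => ?_
    have h : y * e * y⁻¹ = ⁅e, y⁆⁻¹ * e := by group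
    rw [h]
    exact mul_mem (inv_mem (hy e (h1R (hER he)))) he
  let P : Subgroup G :=
    { carrier := {y | y ∈ M ∧ ∀ r ∈ R, ⁅r, y⁆ ∈ E}
      one_mem' := ⟨one_mem M, fun r _ => by simp⟩
      mul_mem' := fun {y z} hy hz => ⟨mul_mem hy.1 hz.1, fun r hr => by
        have h : ⁅r, y * z⁆ = ⁅r, y⁆ * (y * ⁅r, z⁆ * y⁻¹) := by group
        rw [h]
        exact mul_mem (hy.2 r hr) (normalizer_conj_mem (hnormE y hy.1 hy.2) (hz.2 r hr))⟩
      inv_mem' := fun {y} hy => ⟨inv_mem hy.1, fun r hr => by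
        have h : ⁅r, y⁻¹⁆ = y⁻¹ * ⁅r, y⁆⁻¹ * (y⁻¹)⁻¹ := by group
        rw [h]
        exact normalizer_conj_mem (inv_mem (hnormE y hy.1 hy.2)) (inv_mem (hy.2 r hr))⟩ }
  have hMP : M ≤ P := hM.trans (sup_le (iSup_le fun i y hy => ⟨hy.1, hgenE i y hy⟩)
    (fun y hy => ⟨hN₀M hy, fun r hr => hR0E (hN (commutator_mem_commutator hr hy))⟩))
  have hRE : R₁ ≤ E := hgen.trans (sup_le hR0E (commutator_le.2 fun r hr y hy => (hMP hy).2 r hr))
  have hR11 : ⁅R₁, R₁⁆ ≤ N := ((commutator_mono h1R le_rfl).trans hRR1).trans le_sup_right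
  rw [inf_comm]
  exact inf_centralizer_le_of_abelian hNR nR₁
    (le_normalizer_sup (centralizer_le_normalizer_self _
      (le_centralizer_iff.1 (genT_le_centralizer R₁))) nR₀) hR11
    (hS.cop le_rfl (h1R.trans (hRM.trans hMY))) hRE

end Setting

theorem genL_le {M : Subgroup G} : ∀ n, genL M n ≤ M
  | 0 => le_rfl
  | n + 1 => (commutator_mono (genL_le n) le_rfl).trans (commutator_le_of_le_normalizer le_normalizer)

theorem genL_norm {A M : Subgroup G} (h : A ≤ normalizer (M : Set G)) :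
    ∀ n, A ≤ normalizer ((genL M n : Subgroup G) : Set G)
  | 0 => h
  | n + 1 => le_normalizer_commutator (genL_norm h n) h

theorem genL_succ_le {M : Subgroup G} (n : ℕ) : genL M (n + 1) ≤ genL M n :=
  commutator_le_of_le_normalizer (genL_norm le_normalizer n)

theorem genL_succ_le_derived {M : Subgroup G} (n : ℕ) : genL M (n + 1) ≤ ⁅M, M⁆ :=
  commutator_mono (genL_le n) le_rfl

theorem genL_commutator_derived {M : Subgroup G} (n : ℕ) :
    ⁅genL M n, ⁅M, M⁆⁆ ≤ genL M (n + 2) := by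
  set K := (genL M (n + 2)).subgroupOf M with hK
  haveI : K.Normal := ⟨fun x hx g => by
    show (g : G) * x * (g : G)⁻¹ ∈ genL M (n + 2)
    exact normalizer_conj_mem (genL_norm le_normalizer (n + 2) g.2) hx⟩
  set Ln := (genL M n).subgroupOf M with hLn
  have hmap : Ln.map M.subtype = genL M n := by
    rw [hLn, subgroupOf_map_subtype, inf_eq_left.2 (genL_le n)]
  have htop : (⊤ : Subgroup M).map M.subtype = M := by
    rw [← MonoidHom.range_eq_map, range_subtype]
  have tr : ∀ S : Subgroup M, S ≤ K ↔ S.map M.subtype ≤ genL M (n + 2) := fun S => by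
    rw [map_le_iff_le_comap]; rfl
  have h1 : ⁅⁅(⊤ : Subgroup M), Ln⁆, (⊤ : Subgroup M)⁆ ≤ K := by
    rw [tr, map_commutator, map_commutator, htop, hmap, commutator_comm M (genL M n)]
    exact le_rfl
  have h2 : ⁅⁅Ln, (⊤ : Subgroup M)⁆, (⊤ : Subgroup M)⁆ ≤ K := by
    rw [tr, map_commutator, map_commutator, htop, hmap]
    exact le_rfl
  have h3 : ⁅⁅(⊤ : Subgroup M), (⊤ : Subgroup M)⁆, Ln⁆ ≤ K := by
    rw [← QuotientGroup.ker_mk' K, ← Subgroup.map_eq_bot_iff] at h1 h2 ⊢
    rw [map_commutator, map_commutator] at h1 h2 ⊢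
    exact commutator_commutator_eq_bot_of_rotate h1 h2
  rw [tr, map_commutator, map_commutator, htop, hmap] at h3
  rwa [commutator_comm]

namespace Setting

theorem le_genH_sup_genL {M : Subgroup G} (hM : M ≤ genH A B Y M ⊔ ⁅M, M⁆) :
    ∀ n, M ≤ genH A B Y M ⊔ genL M (n + 1)
  | 0 => hM
  | n + 1 => by
    have ih := le_genH_sup_genL hM n
    set S := genH A B Y M ⊔ genL M (n + 2) with hSdef
    have hSM : S ≤ M := sup_le (genH_le M) (genL_le _)
    have hl : genL M (n + 1) ≤ normalizer (S : Set G) := by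
      refine le_normalizer_of_conj_mem fun l hl x hx => ?_
      have e : l * x * l⁻¹ = ⁅l, x⁆ * x := by group
      rw [e]
      exact mul_mem (mem_sup_right (commutator_mem_commutator hl (hSM hx))) hx
    have hMS : M ≤ normalizer (S : Set G) :=
      ih.trans (sup_le (le_sup_left.trans le_normalizer) hl)
    let Q : Subgroup G :=
      { carrier := {x | x ∈ M ∧ ∀ m ∈ M, ⁅x, m⁆ ∈ S}
        one_mem' := ⟨one_mem M, fun m _ => by simp⟩
        mul_mem' := fun {x y} hx hy => ⟨mul_mem hx.1 hy.1, fun m hm => by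
          have e : ⁅x * y, m⁆ = x * ⁅y, m⁆ * x⁻¹ * ⁅x, m⁆ := by group
          rw [e]
          exact mul_mem (normalizer_conj_mem (hMS hx.1) (hy.2 m hm)) (hx.2 m hm)⟩
        inv_mem' := fun {x} hx => ⟨inv_mem hx.1, fun m hm => by
          have e : ⁅x⁻¹, m⁆ = x⁻¹ * ⁅x, m⁆⁻¹ * (x⁻¹)⁻¹ := by group
          rw [e]
          exact normalizer_conj_mem (inv_mem (hMS hx.1)) (inv_mem (hx.2 m hm))⟩ }
    have hMQ : M ≤ Q := ih.trans (sup_le
      (fun x hx => ⟨genH_le M hx, fun m hm => by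
        rw [commutatorElement_def]
        have e : x * m * x⁻¹ * m⁻¹ = x * (m * x⁻¹ * m⁻¹) := by group
        rw [e]
        exact mul_mem (mem_sup_left hx)
          (normalizer_conj_mem (hMS hm) (inv_mem (mem_sup_left hx)))⟩)
      (fun x hx => ⟨genL_le _ hx, fun m hm => mem_sup_right (commutator_mem_commutator hx hm)⟩))
    exact hM.trans (sup_le le_sup_left (commutator_le.2 fun x hx m hm => (hMQ hx).2 m hm))

theorem centralizer_inf_derived_le (hS : Setting A B Y) :
    ∀ M : Subgroup G, M ≤ Y → A ≤ normalizer (M : Set G) → M ≤ genH A B Y M ⊔ ⁅M, M⁆ →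
      centralizer (A : Set G) ⊓ ⁅M, M⁆ ≤ genT A B Y Y := by
  intro M
  induction hm : Nat.card M using Nat.strong_induction_on generalizing M with
  | _ m ih =>
    intro hMY hMA hM
    suffices key : ∀ k n, Nat.card (genL M (n + 1)) = k →
        centralizer (A : Set G) ⊓ genL M (n + 1) ≤ genT A B Y Y by
      exact key _ 0 rfl
    intro k
    induction k using Nat.strong_induction_on with
    | _ k ihk =>
      intro n hk c hc
      have hlen : ∀ j, genL M j ≤ Y := fun j => (genL_le j).trans hMY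
      by_cases heq : genL M (n + 2) = genL M (n + 1)
      · set K := genL M (n + 1) with hK
        have hKM : ⁅K, M⁆ = K := heq
        have hKK : ⁅K, K⁆ ≤ K := commutator_le_of_le_normalizer le_normalizer
        have hst := hS.step (R := K) (R₁ := K) (R₀ := ⁅K, K⁆) (N₀ := K) hMY (genL_le _) le_rfl
          hKK (genL_le _) (genL_norm hMA _) (genL_norm hMA _)
          (le_normalizer_commutator (genL_norm hMA _) (genL_norm hMA _)) hKM.le le_rfl le_rfl
          (le_genH_sup_genL hM n) (le_sup_right.trans' hKM.ge)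
        have hKgen : K ≤ genH A B Y K ⊔ ⁅K, K⁆ := by
          refine (hS.le_genH_sup_centralizer (hlen _) (genL_norm hMA _)).trans
            (sup_le (sup_le le_sup_left ?_) le_sup_right)
          rw [inf_comm]
          exact hst.trans (sup_le_sup_right (genT_le_genH K) _)
        have hIH : centralizer (A : Set G) ⊓ ⁅K, K⁆ ≤ genT A B Y Y := by
          rcases eq_or_ne M ⊥ with rfl | hne
          · intro x hx
            have : x ∈ (⊥ : Subgroup G) := genL_le (n + 1) (hKK hx.2)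
            rw [mem_bot] at this
            subst this
            exact one_mem _
          · have hsol : Group.IsSolvable M := Cfsg.Agent.S0205.result
              (hS.odd.of_dvd_nat (card_dvd_of_le hMY))
            have hlt : K < M := lt_of_le_of_lt (genL_succ_le_derived n) (commutator_self_lt hsol hne)
            refine ih (Nat.card K) ?_ K rfl (hlen _) (genL_norm hMA _) hKgen
            rw [← hm]
            exact (Nat.le_of_dvd Nat.card_pos (card_dvd_of_le hlt.le)).lt_of_ne fun h =>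
              hlt.ne (eq_of_le_of_card_ge hlt.le h.ge)
        have hcK := hst hc
        obtain ⟨l, hl, t, ht, rfl⟩ := exists_mul_of_mem_sup
          ((genT_le K).trans (le_normalizer_of_commutator_le hKK le_rfl))
          (sup_comm (genT A B Y K) ⁅K, K⁆ ▸ hcK)
        have ht' := genT_mono (hlen (n + 1)) ht
        have hlA : l ∈ centralizer (A : Set G) := by
          simpa using (centralizer (A : Set G)).mul_mem hc.1
            ((centralizer (A : Set G)).inv_mem (genT_le_centralizer _ ht))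
        exact mul_mem (hIH ⟨hlA, hl⟩) ht'
      · have hst := hS.step (R := genL M n) (R₁ := genL M (n + 1)) (R₀ := genL M (n + 2))
          (N₀ := ⁅M, M⁆) hMY (genL_le _) (genL_succ_le n) (genL_succ_le (n + 1))
          (commutator_le_of_le_normalizer le_normalizer) (genL_norm hMA _) (genL_norm hMA _)
          (genL_norm hMA _) le_rfl
          ((commutator_mono le_rfl (genL_succ_le_derived n)).trans (genL_commutator_derived n))
          (genL_commutator_derived n) hM le_sup_right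
        have hcK := hst hc
        obtain ⟨l, hl, t, ht, rfl⟩ := exists_mul_of_mem_sup
          (((genT_le (genL M (n + 1))).trans (genL_le _)).trans (genL_norm le_normalizer (n + 2)))
          (sup_comm (genT A B Y (genL M (n + 1))) (genL M (n + 2)) ▸ hcK)
        have ht' := genT_mono (hlen (n + 1)) ht
        have hlA : l ∈ centralizer (A : Set G) := by
          simpa using (centralizer (A : Set G)).mul_mem hc.1
            ((centralizer (A : Set G)).inv_mem (genT_le_centralizer _ ht))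
        have hlt : Nat.card (genL M (n + 2)) < k := by
          rw [← hk]
          exact (Nat.le_of_dvd Nat.card_pos (card_dvd_of_le (genL_succ_le (n + 1)))).lt_of_ne
            fun h => heq (eq_of_le_of_card_ge (genL_succ_le (n + 1)) h.ge)
        exact mul_mem (ihk _ hlt (n + 1) rfl ⟨hlA, hl⟩) ht'

/-- The generation theorem for `C_Y(A)`. -/
theorem inf_centralizer_le_genT (hS : Setting A B Y) (hYA : ⁅Y, A⁆ = Y) :
    Y ⊓ centralizer (A : Set G) ≤ genT A B Y Y := by
  have h1 : Y ⊓ centralizer (A : Set G) ≤ ⁅Y, Y⁆ :=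
    inf_centralizer_le_of_abelian (commutator_le_of_le_normalizer le_normalizer) hS.norm
      (le_normalizer_commutator hS.norm hS.norm) le_rfl (hS.cop le_rfl le_rfl)
      (hYA.ge.trans le_sup_right)
  have h2 : Y ≤ genH A B Y Y ⊔ ⁅Y, Y⁆ :=
    (hS.le_genH_sup_centralizer le_rfl hS.norm).trans
      (sup_le (sup_le le_sup_left (h1.trans le_sup_right)) le_sup_right)
  exact (le_inf inf_le_right h1).trans (hS.centralizer_inf_derived_le Y le_rfl hS.norm h2)

/-- The generation theorem for `C_Y(B)`. -/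
theorem inf_centralizer_eq_iSup (hS : Setting A B Y) (hYA : ⁅Y, A⁆ = Y) :
    Y ⊓ centralizer (B : Set G) = ⨆ i : {B₀ : Subgroup G // CycIdx B B₀},
      Y ⊓ centralizer (B : Set G) ⊓ genX A Y i := by
  refine le_antisymm (fun k hk => ?_) (iSup_le fun _ => inf_le_left)
  have hWA := le_normalizer_inf hS.norm (hS.norm_cent hS.le)
  obtain ⟨x, hx, c, hc, rfl⟩ := hS.decomp le_rfl inf_le_left hWA hk
  have hidx : CycIdx B B := ⟨le_rfl, fun {_} => by
    haveI : Subsingleton (↥B ⧸ B.subgroupOf B) := by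
      rw [subgroupOf_self]; exact QuotientGroup.subsingleton_quotient_top
    exact isCyclic_of_subsingleton⟩
  set C := Y ⊓ centralizer (B : Set G) with hC
  have hxX : x ∈ C ⊓ genX A Y B := by
    constructor
    · exact commutator_le_of_le_normalizer hWA hx
    · exact hx
  refine (⨆ i : {B₀ : Subgroup G // CycIdx B B₀}, C ⊓ genX A Y i).mul_mem ?_ ?_
  · exact le_iSup (fun i : {B₀ : Subgroup G // CycIdx B B₀} => C ⊓ genX A Y i) ⟨B, hidx⟩ hxX
  have hle : ∀ i : {B₀ : Subgroup G // CycIdx B B₀},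
      centralizer (A : Set G) ⊓ Y ⊓ genX A Y i ≤ C ⊓ genX A Y i := fun i =>
    inf_le_inf_right _
      (le_inf inf_le_right (inf_le_left.trans (centralizer_le fun _ h => hS.le h)))
  have hT := hS.inf_centralizer_le_genT hYA (show c ∈ Y ⊓ centralizer (A : Set G) from ⟨hc.1.1, hc.2⟩)
  exact iSup_mono hle hT

end Setting

end CfsgLib.Techniques.CoprimeGenCB
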