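import Cfsg.Agent.Lib.Techniques.KInfCritical
import Mathlib.GroupTheory.Transfer
import Mathlib.GroupTheory.Abelianization.Defs
import Mathlib.Data.ZMod.Basic
import Mathlib.Data.Nat.Choose.Dvd

/-!
Transfer into the normalizer of a subgroup generated by elements of nilpotency degree less than `p`
on the chief factors below a normal `p`-subgroup.
-/

namespace CfsgLib.Techniques.GoodTransfer

open Subgroup Cfsg CfsgLib.Techniques CfsgLib.Techniques.KInfCritical
open scoped commutatorElement

variable {G : Type*} [Group G]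

theorem choose_pred_mul_neg_one_pow {p : ℕ} [Fact p.Prime] :
    ∀ k, k < p → ((-1) ^ k * (p - 1).choose k : ZMod p) = 1 := by
  intro k
  induction k with
  | zero => simp
  | succ k ih =>
    intro hk
    have h1 : (p.choose (k + 1) : ZMod p) = 0 :=
      (ZMod.natCast_eq_zero_iff _ _).2
        ((Fact.out : p.Prime).dvd_choose_self (by omega) hk)
    have h2 : p.choose (k + 1) = (p - 1).choose k + (p - 1).choose (k + 1) := by
      conv_lhs => rw [show p = p - 1 + 1 by omega]
      exact Nat.choose_succ_succ _ _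
    rw [h2, Nat.cast_add] at h1
    rw [eq_neg_of_add_eq_zero_right h1, pow_succ]
    simpa using ih (by omega)

/-- In an abelian group of exponent `p` written additively, `(1 - σ)^(p-1)` is the sum of the first
`p` powers of `σ`. -/
theorem one_sub_pow_pred {M : Type*} [AddCommGroup M] {p : ℕ} [Fact p.Prime]
    (hM : ∀ m : M, p • m = 0) (σ : AddMonoid.End M) :
    (1 - σ) ^ (p - 1) = ∑ i ∈ Finset.range p, σ ^ i := by
  have hp0 : (p : AddMonoid.End M) = 0 := by
    ext m; simpa using hM m
  rw [sub_eq_neg_add, (Commute.one_right (-σ)).add_pow]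
  have hp := (Fact.out : p.Prime).one_le
  rw [show p - 1 + 1 = p by omega]
  refine Finset.sum_congr rfl fun k hk => ?_
  have hk' := Finset.mem_range.1 hk
  rw [one_pow, mul_one, neg_pow, mul_assoc, (Nat.cast_commute _ (σ ^ k)).symm.eq, ← mul_assoc]
  have h : (((-1) ^ k * ((p - 1).choose k : ℤ) - 1 : ℤ) : ZMod p) = 0 := by
    push_cast
    rw [choose_pred_mul_neg_one_pow k hk', sub_self]
  obtain ⟨m, hm⟩ := (ZMod.intCast_zmod_eq_zero_iff_dvd _ _).1 h
  have h2 : ((-1) ^ k * ((p - 1).choose k : ℤ) : ℤ) = 1 + p * m := by linarith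
  have h3 : ((-1 : AddMonoid.End M) ^ k * ((p - 1).choose k : AddMonoid.End M)) = 1 := by
    have := congrArg (fun z : ℤ => (z : AddMonoid.End M)) h2
    simpa [hp0] using this
  rw [h3, one_mul]

variable [Finite G] {p : ℕ} [hp : Fact p.Prime]

/-- The `p`-th powers in a chief factor below a `p`-group die. -/
theorem chief_pow_mem {U V : Subgroup G} (h : IsChiefFactor U V) (hU : IsPGroup p U) :
    ∀ u ∈ U, u ^ p ∈ V := by
  haveI := h.2.1
  haveI := h.2.2.1
  have hUU := Chief.chief_comm h hU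
  obtain ⟨hlt, hUn, hVn, hch⟩ := h
  let W : Subgroup G :=
    { carrier := {u | u ∈ U ∧ u ^ p ∈ V}
      one_mem' := ⟨one_mem U, by simp⟩
      mul_mem' := fun {x y} hx hy => ⟨mul_mem hx.1 hy.1, by
        rw [mem_iff_mk, map_pow, map_mul, (show Commute _ _ from mk_comm_mul hUU hx.1 hy.1).mul_pow,
          ← map_pow, ← map_pow, mem_iff_mk.1 hx.2, mem_iff_mk.1 hy.2, one_mul]⟩
      inv_mem' := fun {x} hx => ⟨inv_mem hx.1, by rw [inv_pow]; exact inv_mem hx.2⟩ }
  have hWn : W.Normal := ⟨fun u hu g => ⟨hUn.conj_mem u hu.1 g, by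
    rw [conj_pow]; exact hVn.conj_mem _ hu.2 g⟩⟩
  rcases hch W hWn (fun v hv => ⟨hlt.le hv, pow_mem hv p⟩) (fun x hx => hx.1) with h | h
  · exfalso
    obtain ⟨u, hu, huV⟩ := SetLike.not_le_iff_exists.1 hlt.not_ge
    have hex : ∀ k, u ^ p ^ k ∈ V → False := by
      intro k
      induction k with
      | zero => intro hk; rw [pow_zero, pow_one] at hk; exact huV hk
      | succ k ih =>
        intro hk
        exact ih (h.le ⟨pow_mem hu _, by rwa [← pow_mul, ← pow_succ]⟩)
    obtain ⟨k, hk⟩ := hU ⟨u, hu⟩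
    exact hex k (by rw [show u ^ p ^ k = 1 from congrArg Subtype.val hk]; exact one_mem V)
  · exact fun u hu => (h.ge hu).2

/-- The product of the first `p` conjugates of an element of a chief factor under an element of
degree less than `p`. -/
theorem prod_conj_mem {N Y : Subgroup G} (hNY : IsChiefFactor N Y) (hN : IsPGroup p N) {a : G}
    (ha : iterCommutator N (zpowers a) (p - 1) ≤ Y) {A : Type*} [CommGroup A] (g : ↥N →* A)
    (hg : ∀ n : ↥N, (n : G) ∈ Y → g n = 1) (x : ↥N) :
    ∏ i ∈ Finset.range p, g ⟨a ^ i * x * (a ^ i)⁻¹, hNY.2.1.conj_mem _ x.2 _⟩ = 1 := by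
  haveI := hNY.2.1
  haveI := hNY.2.2.1
  have hUU := Chief.chief_comm hNY hN
  let Vq := ↥N ⧸ Y.subgroupOf N
  let π : ↥N →* Vq := QuotientGroup.mk' _
  have hcomm : ∀ u v : Vq, u * v = v * u := by
    intro u v
    obtain ⟨u, rfl⟩ := QuotientGroup.mk'_surjective _ u
    obtain ⟨v, rfl⟩ := QuotientGroup.mk'_surjective _ v
    rw [← commutatorElement_eq_one_iff_mul_comm, ← map_commutatorElement]
    exact (QuotientGroup.eq_one_iff _).2 (hUU (commutator_mem_commutator u.2 v.2))
  letI : CommGroup Vq := { (inferInstance : Group Vq) with mul_comm := hcomm }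
  have hexp : ∀ m : Additive Vq, p • m = 0 := by
    intro m
    obtain ⟨u, hu⟩ := QuotientGroup.mk'_surjective _ (Additive.toMul m)
    refine Additive.toMul.injective ?_
    show (Additive.toMul m) ^ p = 1
    rw [← hu, ← map_pow]
    exact (QuotientGroup.eq_one_iff _).2 (chief_pow_mem hNY hN u u.2)
  let σ0 : ↥N →* ↥N := (MulAut.conjNormal a).toMonoidHom
  have hσY : Y.subgroupOf N ≤ (Y.subgroupOf N).comap σ0 := fun u hu => by
    show ((σ0 u : ↥N) : G) ∈ Y
    exact hNY.2.2.1.conj_mem _ hu a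
  let σ1 : Vq →* Vq := QuotientGroup.map _ _ σ0 hσY
  let σ : AddMonoid.End (Additive Vq) := σ1.toAdditive
  have hσ : ∀ u : ↥N, σ (Additive.ofMul (π u)) = Additive.ofMul (π (σ0 u)) := fun u => rfl
  have hfit : ∀ n (u : ↥N), ((1 - σ) ^ n : AddMonoid.End (Additive Vq)) (Additive.ofMul (π u)) =
      Additive.ofMul (π ⟨(fun z => ⁅z, a⁆)^[n] u,
        iter_mem (Chief.mem_normalizer_of_normal N a) u.2 n⟩) := by
    intro n
    induction n with
    | zero => intro u; rfl
    | succ n ih =>
      intro u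
      rw [pow_succ']
      show (1 - σ) (((1 - σ) ^ n : AddMonoid.End (Additive Vq)) (Additive.ofMul (π u))) = _
      rw [ih]
      show Additive.ofMul (π _) - σ (Additive.ofMul (π _)) = _
      rw [hσ, ← ofMul_div, ← map_div]
      refine congrArg (fun z => Additive.ofMul (π z)) (Subtype.ext ?_)
      simp only [Function.iterate_succ_apply']
      simp only [σ0, commutatorElement_def, MulEquiv.coe_toMonoidHom, div_eq_mul_inv,
        Subgroup.coe_mul, Subgroup.coe_inv, MulAut.conjNormal_apply, mul_inv_rev, inv_inv, mul_assoc]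
  have hσpow : ∀ i (u : ↥N), (σ ^ i) (Additive.ofMul (π u)) =
      Additive.ofMul (π ⟨a ^ i * u * (a ^ i)⁻¹, hNY.2.1.conj_mem _ u.2 _⟩) := by
    intro i
    induction i with
    | zero => intro u; simp
    | succ i ih =>
      intro u
      rw [pow_succ']
      show σ ((σ ^ i : AddMonoid.End (Additive Vq)) (Additive.ofMul (π u))) = _
      rw [ih, hσ]
      refine congrArg (fun z => Additive.ofMul (π z)) (Subtype.ext ?_)
      show a * (a ^ i * u * (a ^ i)⁻¹) * a⁻¹ = _
      rw [pow_succ']; group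
  let gbar : Vq →* A := QuotientGroup.lift _ g fun n hn => hg n hn
  have key := congrArg (fun e : AddMonoid.End (Additive Vq) => e (Additive.ofMul (π x)))
    (one_sub_pow_pred hexp σ)
  have key' : ((1 - σ) ^ (p - 1) : AddMonoid.End (Additive Vq)) (Additive.ofMul (π x)) =
      ∑ i ∈ Finset.range p, (σ ^ i : AddMonoid.End (Additive Vq)) (Additive.ofMul (π x)) :=
    key.trans (AddMonoidHom.finsetSum_apply (M := Additive Vq) (N := Additive Vq) _ _ _)
  clear key
  rename' key' => key
  rw [hfit] at key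
  simp only [hσpow] at key
  have h0 : π ⟨(fun z => ⁅z, a⁆)^[p - 1] x,
      iter_mem (Chief.mem_normalizer_of_normal N a) x.2 (p - 1)⟩ = 1 :=
    (QuotientGroup.eq_one_iff _).2
      ((Chief.iter_le_iff_normal hNY.1.le hUU a (p - 1)).1 ha x x.2)
  rw [h0] at key
  have := congrArg (fun z : Additive Vq => gbar (Additive.toMul z)) key
  simp only [toMul_ofMul, map_one, toMul_sum, map_prod] at this
  exact this.symm

/-- The transfer argument. -/
theorem inf_commutator_le {P H A : Subgroup G} [P.Normal] (hP : IsPGroup p P) (hPH : P ≤ H)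
    (hA : IsPGroup p A) (hfix : ∀ t : G, (∀ a ∈ A, t⁻¹ * a * t ∈ H) → t ∈ H) (hAH : A ≤ H)
    (hgen : A ≤ closure {a | a ∈ A ∧ ∀ U V : Subgroup G, IsChiefFactor U V → U ≤ P →
      iterCommutator U (zpowers a) (p - 1) ≤ V}) :
    P ⊓ ⁅(⊤ : Subgroup G), (⊤ : Subgroup G)⁆ ≤ ⁅H, H⁆ := by
  classical
  suffices key : ∀ N : Subgroup G, N.Normal → N ≤ P →
      N ⊓ ⁅(⊤ : Subgroup G), (⊤ : Subgroup G)⁆ ≤ ⁅H, H⁆ from key P inferInstance le_rfl
  intro N
  induction N using WellFoundedLT.induction with
  | ind N ih =>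
    intro hNn hNP x hx
    rcases eq_or_ne N ⊥ with h | h
    · subst h; rw [mem_bot.1 hx.1]; exact one_mem _
    obtain ⟨Y, -, hY⟩ := Chief.exists_chief_top normal_bot hNn (bot_lt_iff_ne_bot.2 h)
    have hYn := hY.2.2.1
    have hYN : Y ≤ N := hY.1.le
    have hN : IsPGroup p N := hP.to_le hNP
    have hNH : N ≤ H := hNP.trans hPH
    -- the map to `H / H' Y`
    let D : Subgroup ↥H := commutator ↥H ⊔ Y.subgroupOf H
    have hDn : D.Normal := inferInstance
    have hcomm : ∀ u v : ↥H ⧸ D, u * v = v * u := by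
      intro u v
      obtain ⟨u, rfl⟩ := QuotientGroup.mk'_surjective _ u
      obtain ⟨v, rfl⟩ := QuotientGroup.mk'_surjective _ v
      rw [← commutatorElement_eq_one_iff_mul_comm, ← map_commutatorElement]
      exact (QuotientGroup.eq_one_iff _).2
        (mem_sup_left (commutator_mem_commutator (mem_top u) (mem_top v)))
    letI : CommGroup (↥H ⧸ D) := { (inferInstance : Group (↥H ⧸ D)) with mul_comm := hcomm }
    let φ : ↥H →* ↥H ⧸ D := QuotientGroup.mk' D
    let Φ : G → ↥H ⧸ D := fun y => if hy : y ∈ H then φ ⟨y, hy⟩ else 1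
    have hΦ : ∀ y (hy : y ∈ H), Φ y = φ ⟨y, hy⟩ := fun y hy => dif_pos hy
    have hΦmul : ∀ y z, y ∈ H → z ∈ H → Φ (y * z) = Φ y * Φ z := fun y z hy hz => by
      rw [hΦ _ (mul_mem hy hz), hΦ y hy, hΦ z hz, ← map_mul]; rfl
    have hΦconj : ∀ h ∈ H, ∀ y ∈ H, Φ (h * y * h⁻¹) = Φ y := fun h hh y hy => by
      rw [hΦmul _ _ (mul_mem hh hy) (inv_mem hh), hΦmul _ _ hh hy, mul_comm (Φ h), mul_assoc,
        ← hΦmul _ _ hh (inv_mem hh), mul_inv_cancel, hΦ 1 (one_mem H)]
      rw [show φ ⟨1, one_mem H⟩ = 1 from map_one φ, mul_one]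
    have hxH : ∀ t : G, t⁻¹ * x * t ∈ H := fun t => hNH (by simpa using hNn.conj_mem x hx.1 t⁻¹)
    let F : G ⧸ H → ↥H ⧸ D := fun q => Φ (q.out⁻¹ * x * q.out)
    have hF : ∀ t : G, F (t : G ⧸ H) = Φ (t⁻¹ * x * t) := by
      intro t
      obtain ⟨h, hh⟩ := QuotientGroup.mk_out_eq_mul H t
      show Φ ((QuotientGroup.mk t : G ⧸ H).out⁻¹ * x * (QuotientGroup.mk t : G ⧸ H).out) = _
      rw [hh, show (t * (h : G))⁻¹ * x * (t * h) = (h : G)⁻¹ * (t⁻¹ * x * t) * (h : G)⁻¹⁻¹ by group,
        hΦconj _ (inv_mem h.2) _ (hxH t)]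
    letI := Fintype.ofFinite (G ⧸ H)
    have hxq : ∀ q : G ⧸ H, x⁻¹ • q = q := by
      intro q
      induction q using QuotientGroup.induction_on with
      | _ t =>
        show ((x⁻¹ * t : G) : G ⧸ H) = t
        rw [QuotientGroup.eq]
        simpa [mul_assoc] using hxH t
    -- the transfer is trivial
    have htr : ∏ q : G ⧸ H, F q = 1 := by
      have hker : commutator G ≤ (MonoidHom.transfer φ).ker := Abelianization.commutator_subset_ker _
      have h0 : MonoidHom.transfer φ x = 1 := hker hx.2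
      let T : H.LeftTransversal := ⟨Set.range Quotient.out,
        isComplement_range_left (fun q : G ⧸ H => QuotientGroup.out_eq' q)⟩
      have hT : ∀ q : G ⧸ H, ((T.2.leftQuotientEquiv q : T.1) : G) = q.out :=
        fun q => IsComplement.leftQuotientEquiv_apply (fun q : G ⧸ H => QuotientGroup.out_eq' q) q
      rw [MonoidHom.transfer_def φ T, leftTransversals.diff] at h0
      rw [← h0]
      refine (Finset.prod_congr (by ext; simp) fun q _ => ?_)
      show Φ (q.out⁻¹ * x * q.out) = _
      rw [hΦ _ (hxH q.out)]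
      refine congrArg φ (Subtype.ext ?_)
      show q.out⁻¹ * x * q.out = ((T.2.leftQuotientEquiv q : T.1) : G)⁻¹ *
        (((x • T).2.leftQuotientEquiv q : (x • T).1) : G)
      rw [smul_apply_eq_smul_apply_inv_smul, smul_eq_mul, hxq q, hT, mul_assoc]
    -- the nonfixed orbits cancel
    set q0 : G ⧸ H := ((1 : G) : G ⧸ H) with hq0
    have hrest : ∏ q ∈ Finset.univ.erase q0, F q = 1 := by
      rw [Finset.prod_partition (MulAction.orbitRel ↥A (G ⧸ H))]
      refine Finset.prod_eq_one fun O hO => ?_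
      obtain ⟨q1, hq1, rfl⟩ := Finset.mem_image.1 hO
      obtain ⟨t, rfl⟩ := QuotientGroup.mk_surjective q1
      have hst : MulAction.stabilizer ↥A (t : G ⧸ H) < ⊤ := by
        refine lt_top_iff_ne_top.2 fun htop => (Finset.mem_erase.1 hq1).1 ?_
        rw [hq0, eq_comm, QuotientGroup.eq, inv_one, one_mul]
        refine hfix t fun a ha => ?_
        have h1 : ((a * t : G) : G ⧸ H) = (t : G ⧸ H) :=
          (htop.ge (mem_top (⟨a, ha⟩ : ↥A)) : (⟨a, ha⟩ : ↥A) • (t : G ⧸ H) = t)
        rw [eq_comm, QuotientGroup.eq, ← mul_assoc] at h1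
        exact h1
      obtain ⟨M, hMmax, hMge⟩ := (eq_top_or_exists_le_coatom _).resolve_left hst.ne
      haveI : Group.IsNilpotent ↥A := hA.isNilpotent
      have hMn : M.Normal := Subgroup.NormalizerCondition.normal_of_coatom M
        Group.normalizerCondition_of_isNilpotent hMmax
      obtain ⟨a, hagood, haM⟩ : ∃ a : ↥A, (∀ U V : Subgroup G, IsChiefFactor U V → U ≤ P →
          iterCommutator U (zpowers (a : G)) (p - 1) ≤ V) ∧ a ∉ M := by
        by_contra hall
        push Not at hall
        refine hMmax.1 (top_le_iff.1 fun b _ => ?_)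
        have h1 : A ≤ M.map A.subtype := hgen.trans ((closure_le _).2 fun c hc =>
          ⟨⟨c, hc.1⟩, hall ⟨c, hc.1⟩ hc.2, rfl⟩)
        obtain ⟨b', hb', hbb⟩ := h1 b.2
        exact Subtype.ext hbb ▸ hb'
      -- `A / M` has order `p`
      have hcyc : ∀ b : ↥A, ∃ i ∈ Finset.range p, ∃ m ∈ M, b = (a ^ i)⁻¹ * m := by
        intro b
        let π := QuotientGroup.mk' M
        have hsimple : ∀ K : Subgroup (↥A ⧸ M), K = ⊥ ∨ K = ⊤ := by
          intro K
          rcases hMmax.le_iff.1 (show M ≤ K.comap π from fun m hm => by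
            rw [mem_comap, show π m = 1 from (QuotientGroup.eq_one_iff m).2 hm]; exact one_mem K) with h | h
          · refine Or.inr ?_
            rw [← map_comap_eq_self_of_surjective (QuotientGroup.mk'_surjective M) K, h,
              map_top_of_surjective _ (QuotientGroup.mk'_surjective M)]
          · refine Or.inl ?_
            rw [← map_comap_eq_self_of_surjective (QuotientGroup.mk'_surjective M) K, h,
              Subgroup.map_eq_bot_iff, QuotientGroup.ker_mk']
        have hane : π a ≠ 1 := fun h => haM ((QuotientGroup.eq_one_iff a).1 h)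
        obtain ⟨k, hk⟩ := (hA.to_quotient M) (π a)
        have hord : (π a) ^ p = 1 := by
          by_contra hne
          have h2 : zpowers ((π a) ^ p) = ⊤ :=
            (hsimple _).resolve_left fun h => hne (zpowers_eq_bot.1 h)
          obtain ⟨j, hj⟩ := mem_zpowers_iff.1 (h2.ge (mem_top (π a)))
          have h3 : (π a) ^ ((p : ℤ) * j - 1) = 1 := by
            rw [zpow_sub, zpow_mul, zpow_natCast, hj, zpow_one, mul_inv_cancel]
          obtain ⟨e, he⟩ := (IsPGroup.iff_orderOf.1 (hA.to_quotient M)) (π a)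
          have h4 := orderOf_dvd_iff_zpow_eq_one.2 h3
          rcases e with _ | e
          · rw [pow_zero] at he; exact hane (orderOf_eq_one_iff.1 he)
          · rw [he] at h4
            have h5 : (p : ℤ) ∣ (p : ℤ) * j - 1 :=
              dvd_trans (by rw [Nat.cast_pow]; exact dvd_pow_self _ (Nat.succ_ne_zero e)) h4
            have h6 : (p : ℤ) ∣ 1 := by
              have := dvd_sub (dvd_mul_right (p : ℤ) j) h5
              simpa using this
            exact hp.out.ne_one (Nat.dvd_one.1 (Int.natCast_dvd_natCast.1 h6))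
        have h7 : zpowers (π a) = ⊤ :=
          (hsimple _).resolve_left fun h => hane (zpowers_eq_bot.1 h)
        obtain ⟨j, hj⟩ := mem_zpowers_iff.1 (h7.ge (mem_top (π b)))
        obtain ⟨i, hi⟩ : ∃ i : ℕ, ((i : ℤ) ≡ -j [ZMOD p]) ∧ i < p := by
          refine ⟨((-j) % (p : ℤ)).toNat, ?_, ?_⟩
          · rw [Int.toNat_of_nonneg (Int.emod_nonneg _ (by exact_mod_cast hp.out.ne_zero))]
            exact Int.mod_modEq _ _
          · have := Int.emod_lt_of_pos (-j) (show (0 : ℤ) < p by exact_mod_cast hp.out.pos)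
            have := Int.emod_nonneg (-j) (show (p : ℤ) ≠ 0 by exact_mod_cast hp.out.ne_zero)
            omega
        refine ⟨i, Finset.mem_range.2 hi.2, a ^ i * b, ?_, by group⟩
        rw [← QuotientGroup.eq_one_iff]
        show π (a ^ i * b) = 1
        rw [map_mul, map_pow, ← hj, ← zpow_natCast, ← zpow_add]
        obtain ⟨c, hc⟩ := Int.modEq_iff_add_fac.1 hi.1.symm
        rw [show (i : ℤ) + j = p * c by omega, zpow_mul, zpow_natCast, hord, one_zpow]
      set OM : Finset (G ⧸ H) :=
        Finset.univ.filter (fun q => ∃ m ∈ M, m • (t : G ⧸ H) = q) with hOM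
      have hset : (Finset.univ.erase q0).filter
          (fun y => (Quotient.mk (MulAction.orbitRel ↥A (G ⧸ H)) y) =
            Quotient.mk (MulAction.orbitRel ↥A (G ⧸ H)) (t : G ⧸ H)) =
          (Finset.range p ×ˢ OM).image (fun iq => ((a ^ iq.1)⁻¹ : ↥A) • iq.2) := by
        ext q
        simp only [Finset.mem_filter, Finset.mem_erase, Finset.mem_univ, and_true, Finset.mem_image,
          Finset.mem_product, Prod.exists, hOM, true_and]
        rw [Quotient.eq, MulAction.orbitRel_apply, MulAction.mem_orbit_iff]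
        constructor
        · rintro ⟨-, b, rfl⟩
          obtain ⟨i, hi, m, hm, rfl⟩ := hcyc b
          exact ⟨i, m • (t : G ⧸ H), ⟨hi, m, hm, rfl⟩, (mul_smul _ _ _).symm⟩
        · rintro ⟨i, q', ⟨-, m, hm, rfl⟩, rfl⟩
          refine ⟨fun he => ?_, (a ^ i)⁻¹ * m, mul_smul _ _ _⟩
          rw [← mul_smul, smul_eq_iff_eq_inv_smul] at he
          refine (Finset.mem_erase.1 hq1).1 (he.trans ?_)
          show (((((a ^ i)⁻¹ * m)⁻¹ : ↥A) : G) * 1 : G) = q0
          rw [mul_one, hq0, QuotientGroup.eq, mul_one]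
          exact inv_mem (hAH (((a ^ i)⁻¹ * m)⁻¹).2)
      rw [hset, Finset.prod_image ?inj, Finset.prod_product_right]
      case inj =>
        rintro ⟨i, q⟩ hiq ⟨j, r⟩ hjr heq
        simp only [Finset.coe_product, Set.mem_prod, Finset.coe_range, Set.mem_Iio, Finset.mem_coe,
          hOM, Finset.mem_filter, Finset.mem_univ, true_and] at hiq hjr
        obtain ⟨m, hm, rfl⟩ := hiq.2
        obtain ⟨m', hm', rfl⟩ := hjr.2
        dsimp only at heq
        suffices hij : i = j by subst hij; simpa using heq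
        have hkey : ((a ^ j)⁻¹ * m')⁻¹ * ((a ^ i)⁻¹ * m) ∈ M := hMge (by
          rw [MulAction.mem_stabilizer_iff]
          simp only [mul_smul]
          rw [heq]
          simp only [← mul_smul]
          group
          exact one_smul _ _)
        have h2 : a ^ j * (a ^ i)⁻¹ ∈ M := by
          have := mul_mem (mul_mem hm' hkey) (inv_mem hm)
          rwa [show m' * (((a ^ j)⁻¹ * m')⁻¹ * ((a ^ i)⁻¹ * m)) * m⁻¹ = a ^ j * (a ^ i)⁻¹ by
            group] at this
        by_contra hne
        have hb : ∀ d : ℤ, ¬ (p : ℤ) ∣ d → a ^ d ∉ M := by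
          intro d hd hmem
          obtain ⟨e, he⟩ := (IsPGroup.iff_orderOf.1 hA) a
          have hco : IsCoprime d ((p : ℤ) ^ e) :=
            ((Nat.prime_iff_prime_int.1 hp.out).coprime_iff_not_dvd.2 hd).symm.pow_right
          obtain ⟨u, v, huv⟩ := hco
          refine haM ?_
          have h9 : (a : ↥A) ^ ((p : ℤ) ^ e) = 1 := by
            rw [show ((p : ℤ) ^ e) = ((p ^ e : ℕ) : ℤ) by push_cast; rfl, zpow_natCast, ← he,
              pow_orderOf_eq_one]
          rw [show a = (a ^ d) ^ u from ?_]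
          · exact zpow_mem hmem u
          · rw [← zpow_mul, show d * u = 1 - (p : ℤ) ^ e * v by linarith, zpow_sub, zpow_mul,
              h9, one_zpow, zpow_one, inv_one, mul_one]
        refine hb ((j : ℤ) - i) (fun hd => hne ?_) ?_
        · have h10 := Int.eq_zero_of_abs_lt_dvd hd (abs_sub_lt_iff.2 ⟨by omega, by omega⟩)
          omega
        · rwa [zpow_sub, zpow_natCast, zpow_natCast]
      refine Finset.prod_eq_one fun q _ => ?_
      let g : ↥N →* ↥H ⧸ D :=
        { toFun := fun n => Φ (q.out⁻¹ * n * q.out)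
          map_one' := by
            rw [show q.out⁻¹ * ((1 : ↥N) : G) * q.out = 1 by simp, hΦ 1 (one_mem H)]; exact map_one φ
          map_mul' := fun n n' => by
            rw [← hΦmul _ _ (hNH (by simpa using hNn.conj_mem _ n.2 q.out⁻¹))
              (hNH (by simpa using hNn.conj_mem _ n'.2 q.out⁻¹))]
            congr 1
            push_cast
            group }
      have hg : ∀ n : ↥N, (n : G) ∈ Y → g n = 1 := by
        intro n hn
        have h3 : q.out⁻¹ * (n : G) * q.out ∈ Y := by simpa using hYn.conj_mem _ hn q.out⁻¹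
        show Φ _ = 1
        rw [hΦ _ (hNH (hYN h3))]
        exact (QuotientGroup.eq_one_iff _).2 (mem_sup_right h3)
      have hprod := prod_conj_mem hY hN (hagood N Y hY hNP) g hg ⟨x, hx.1⟩
      refine Eq.trans ?_ hprod
      refine Finset.prod_congr rfl fun i _ => ?_
      show F (((a ^ i)⁻¹ : ↥A) • q) = Φ (q.out⁻¹ * ((a : G) ^ i * x * ((a : G) ^ i)⁻¹) * q.out)
      conv_lhs => rw [← QuotientGroup.out_eq' q]
      show F (((((a ^ i)⁻¹ : ↥A) : G) * q.out : G) : G ⧸ H) = _
      rw [hF]
      congr 1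
      push_cast
      group
    -- conclusion
    rw [← Finset.mul_prod_erase _ F (Finset.mem_univ q0), hrest, mul_one, hq0, hF] at htr
    rw [inv_one, one_mul, mul_one, hΦ x (hNH hx.1)] at htr
    have hxD : (⟨x, hNH hx.1⟩ : ↥H) ∈ commutator ↥H ⊔ Y.subgroupOf H :=
      (QuotientGroup.eq_one_iff _).1 htr
    obtain ⟨c, hc, y, hy, hcy⟩ := mem_sup_of_normal_left.1 hxD
    have hcG : (c : G) ∈ ⁅H, H⁆ := by
      rw [← map_subtype_commutator]; exact mem_map_of_mem _ hc
    have hcy' : (c : G) * y = x := congrArg Subtype.val hcy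
    have hyG : (y : G) ∈ Y ⊓ ⁅(⊤ : Subgroup G), (⊤ : Subgroup G)⁆ := by
      refine mem_inf.2 ⟨hy, ?_⟩
      have := mul_mem (inv_mem (commutator_mono le_top le_top hcG)) hx.2
      rwa [← hcy', inv_mul_cancel_left] at this
    rw [← hcy']
    exact mul_mem hcG (ih Y hY.1 hYn (hYN.trans hNP) hyG)

end CfsgLib.Techniques.GoodTransfer
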