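import Cfsg.Prelude.Def_ConjugacyFunctors
import Mathlib.GroupTheory.Nilpotent
import Mathlib.GroupTheory.PGroup

/-!
The K-sequence of a finite `p`-group: monotonicity, stabilisation, maximal members of the families,
transport along injective homomorphisms.
-/

namespace CfsgLib.Techniques.KSeq

open Subgroup Cfsg
open scoped commutatorElement

universe u v

variable {P : Type u} [Group P]

theorem lower_antitone {Q Q' : Subgroup P} (h : Q ≤ Q') :
    kLowerStarFamily Q' ⊆ kLowerStarFamily Q := by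
  rintro B ⟨h2, hn, ht⟩
  exact ⟨h2, h.trans hn, fun A hA hAQ => ht A hA (hAQ.trans h)⟩

theorem upper_antitone {Q Q' : Subgroup P} (h : Q ≤ Q') :
    kUpperStarFamily Q' ⊆ kUpperStarFamily Q := by
  rintro B ⟨h2, hc⟩
  exact ⟨h2, (commutator_mono le_rfl h).trans hc⟩

theorem odd_succ (n : ℕ) :
    kSeqOdd P (n + 1) = sSup (kUpperStarFamily (kSeqEven P n)) := rfl

theorem odd_succ_le (n : ℕ) : kSeqOdd P (n + 1) ≤ kSeqOdd P n := by
  induction n with
  | zero => exact le_top
  | succ k ih =>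
    exact sSup_le_sSup (upper_antitone (sSup_le_sSup (lower_antitone ih)))

theorem even_le_succ (n : ℕ) : kSeqEven P n ≤ kSeqEven P (n + 1) :=
  sSup_le_sSup (lower_antitone (odd_succ_le n))

theorem odd_antitone : Antitone (kSeqOdd P) := antitone_nat_of_succ_le odd_succ_le

theorem even_monotone : Monotone (kSeqEven P) := monotone_nat_of_le_succ even_le_succ

theorem exists_stable_antitone [Finite P] {f : ℕ → Subgroup P} (hf : Antitone f) :
    ∃ n, ∀ m, n ≤ m → f m = ⨅ k, f k := by
  classical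
  have hex : ∃ k, ∃ n, Nat.card (f n) = k := ⟨_, 0, rfl⟩
  obtain ⟨n, hn⟩ := Nat.find_spec hex
  have hst : ∀ m, n ≤ m → f m = f n := fun m hm =>
    Subgroup.eq_of_le_of_card_ge (hf hm) (hn ▸ Nat.find_min' hex ⟨m, rfl⟩)
  have hinf : ⨅ k, f k = f n := by
    refine le_antisymm (iInf_le _ _) (le_iInf fun k => ?_)
    rcases le_total k n with h | h
    · exact hf h
    · exact (hst k h).ge
  exact ⟨n, fun m hm => by rw [hinf]; exact hst m hm⟩

theorem exists_stable [Finite P] :
    ∃ n, ∀ m, n ≤ m → kSeqEven P m = kInfLower P ∧ kSeqOdd P m = kInfUpper P := by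
  obtain ⟨n, hn⟩ := exists_stable_antitone (odd_antitone (P := P))
  have hev : ∀ m, n ≤ m → kSeqEven P m = kSeqEven P n := fun m hm => by
    rw [kSeqEven, kSeqEven, hn m hm, hn n le_rfl]
  have hsup : kInfLower P = kSeqEven P n := by
    refine le_antisymm (iSup_le fun k => ?_) (le_iSup (kSeqEven P) n)
    rcases le_total k n with h | h
    · exact even_monotone h
    · exact (hev k h).le
  exact ⟨n, fun m hm => ⟨by rw [hsup, hev m hm], hn m hm⟩⟩

/-! ### Joining a centralizing cyclic subgroup -/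

theorem commute_of_mem_sup_zpowers {B : Subgroup P} {x : P} (hx : x ∈ centralizer (B : Set P))
    {g : P} (hg : g ∈ B ⊔ zpowers x) :
    ∃ b ∈ B, ∃ i : ℤ, g = b * x ^ i := by
  have hn : zpowers x ≤ normalizer (B : Set P) := by
    rw [zpowers_le]
    exact centralizer_le_normalizer (B : Set P) hx
  have hg' : g ∈ ((B ⊔ zpowers x : Subgroup P) : Set P) := hg
  rw [coe_mul_of_right_le_normalizer_left B (zpowers x) hn] at hg'
  obtain ⟨b, hb, y, hy, rfl⟩ := hg'
  obtain ⟨i, rfl⟩ := mem_zpowers_iff.1 hy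
  exact ⟨b, hb, i, rfl⟩

theorem center_sup_ge {B : Subgroup P} {x : P} (hx : x ∈ centralizer (B : Set P))
    {z : P} (hz : z ∈ B ⊓ centralizer (B : Set P)) :
    z ∈ (B ⊔ zpowers x) ⊓ centralizer ((B ⊔ zpowers x : Subgroup P) : Set P) := by
  refine mem_inf.2 ⟨mem_sup_left hz.1, mem_centralizer_iff.2 fun g hg => ?_⟩
  obtain ⟨b, hb, i, rfl⟩ := commute_of_mem_sup_zpowers hx hg
  have h1 : Commute b z := mem_centralizer_iff.1 hz.2 b hb
  have h2 : Commute (x ^ i) z :=
    Commute.zpow_left (mem_centralizer_iff.1 hx z hz.1).symm i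
  exact h1.mul_left h2

theorem classTwo_sup {B : Subgroup P} (hB : B ∈ classTwoSubgroups P) {x : P}
    (hx : x ∈ centralizer (B : Set P)) : B ⊔ zpowers x ∈ classTwoSubgroups P := by
  have hle : ⁅B ⊔ zpowers x, B ⊔ zpowers x⁆ ≤ ⁅B, B⁆ := by
    rw [commutator_le]
    intro g hg h hh
    obtain ⟨b, hb, i, rfl⟩ := commute_of_mem_sup_zpowers hx hg
    obtain ⟨c, hc, j, rfl⟩ := commute_of_mem_sup_zpowers hx hh
    have hc' : Commute x c := (mem_centralizer_iff.1 hx c hc).symm
    have hb' : Commute x b := (mem_centralizer_iff.1 hx b hb).symm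
    have h1 : Commute (x ^ i) (c * x ^ j) :=
      ((hc'.zpow_left i).mul_right ((Commute.refl x).zpow_zpow i j))
    have h2 : Commute b (x ^ j) := (hb'.zpow_left j).symm
    have : ⁅b * x ^ i, c * x ^ j⁆ = ⁅b, c⁆ := by
      rw [commutatorElement_def, commutatorElement_def]
      calc b * x ^ i * (c * x ^ j) * (b * x ^ i)⁻¹ * (c * x ^ j)⁻¹
          = b * (x ^ i * (c * x ^ j)) * (x ^ i)⁻¹ * b⁻¹ * (x ^ j)⁻¹ * c⁻¹ := by group
        _ = b * ((c * x ^ j) * x ^ i) * (x ^ i)⁻¹ * b⁻¹ * (x ^ j)⁻¹ * c⁻¹ := by rw [h1.eq]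
        _ = b * c * (x ^ j * (b⁻¹ * (x ^ j)⁻¹)) * c⁻¹ := by group
        _ = b * c * (x ^ j * ((x ^ j)⁻¹ * b⁻¹)) * c⁻¹ := by rw [(h2.inv_inv).eq]
        _ = b * c * b⁻¹ * c⁻¹ := by group
    rw [this]
    exact commutator_mem_commutator hb hc
  intro z hz
  exact (center_sup_ge hx (mem_inf.2 ⟨commutator_le_self B (hle hz), hB (hle hz)⟩)).2

/-! ### Extending a member -/

/-- An iterated commutator with `Q`. -/
def iter (C Q : Subgroup P) : ℕ → Subgroup P
  | 0 => C
  | k + 1 => ⁅iter C Q k, Q⁆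

theorem iter_le_lcs (C Q : Subgroup P) (k : ℕ) : iter C Q k ≤ (⊤ : Subgroup P).lowerCentralSeries k := by
  induction k with
  | zero => exact le_top
  | succ k ih => exact commutator_mono ih le_top

theorem normalizer_le_normalizer_centralizer (B : Subgroup P) :
    normalizer (B : Set P) ≤ normalizer ((centralizer (B : Set P)) : Set P) := by
  have key : ∀ g ∈ normalizer (B : Set P), ∀ c ∈ centralizer (B : Set P),
      g * c * g⁻¹ ∈ centralizer (B : Set P) := by
    intro g hg c hc
    refine mem_centralizer_iff.2 fun b hb => ?_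
    have hb' : g⁻¹ * b * g ∈ B :=
      (mem_normalizer_iff.1 hg _).2 (by rwa [show g * (g⁻¹ * b * g) * g⁻¹ = b by group])
    calc b * (g * c * g⁻¹) = g * ((g⁻¹ * b * g) * c) * g⁻¹ := by group
      _ = g * (c * (g⁻¹ * b * g)) * g⁻¹ := by rw [mem_centralizer_iff.1 hc _ hb']
      _ = g * c * g⁻¹ * b := by group
  intro g hg
  refine mem_normalizer_iff.2 fun c => ⟨key g hg c, fun hc => ?_⟩
  have := key g⁻¹ (inv_mem hg) _ hc
  rwa [show g⁻¹ * (g * c * g⁻¹) * g⁻¹⁻¹ = c by group] at this

theorem exists_extension [Finite P] {p : ℕ} [Fact p.Prime] (hP : IsPGroup p P)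
    {B Q : Subgroup P} (hQ : Q ≤ normalizer (B : Set P))
    (hC : ¬ centralizer (B : Set P) ≤ B) :
    ∃ x, x ∈ centralizer (B : Set P) ∧ x ∉ B ∧
      ⁅zpowers x, Q⁆ ≤ B ⊓ centralizer (B : Set P) := by
  classical
  have hQC : Q ≤ normalizer (centralizer (B : Set P) : Set P) :=
    hQ.trans (normalizer_le_normalizer_centralizer B)
  have hle : ∀ k, iter (centralizer (B : Set P)) Q k ≤ centralizer (B : Set P) := by
    intro k
    induction k with
    | zero => exact le_rfl
    | succ k ih =>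
      refine (commutator_mono ih le_rfl).trans ?_
      rw [commutator_le]
      intro c hc q hq
      have := (mem_normalizer_iff.1 (hQC hq) c⁻¹).1 (inv_mem hc)
      rw [commutatorElement_def,
        show c * q * c⁻¹ * q⁻¹ = c * (q * c⁻¹ * q⁻¹) by group]
      exact mul_mem hc this
  haveI : Group.IsNilpotent P := hP.isNilpotent
  obtain ⟨m, hm⟩ := Subgroup.nilpotent_iff_lowerCentralSeries.1 ‹Group.IsNilpotent P›
  have hex : ∃ k, iter (centralizer (B : Set P)) Q k ≤ B :=
    ⟨m, (iter_le_lcs _ _ m).trans (hm ▸ bot_le)⟩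
  have h0 : Nat.find hex ≠ 0 := fun h => hC (by simpa [h, iter] using Nat.find_spec hex)
  obtain ⟨k, hk⟩ := Nat.exists_eq_succ_of_ne_zero h0
  have hnot : ¬ iter (centralizer (B : Set P)) Q k ≤ B :=
    Nat.find_min hex (by omega)
  obtain ⟨x, hx, hxB⟩ := SetLike.not_le_iff_exists.1 hnot
  refine ⟨x, hle k hx, hxB, le_inf ?_ ?_⟩
  · have := Nat.find_spec hex
    rw [hk] at this
    exact (commutator_mono (zpowers_le.2 hx) le_rfl).trans this
  · exact (commutator_mono (zpowers_le.2 hx) le_rfl).trans (hle (k + 1))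

theorem commutatorElement_mul (b y q : P) : ⁅b * y, q⁆ = b * ⁅y, q⁆ * b⁻¹ * ⁅b, q⁆ := by
  simp only [commutatorElement_def]; group

theorem commutator_sup_le {B A : Subgroup P} {x : P} (hx : x ∈ centralizer (B : Set P))
    (hBA : ⁅B, A⁆ ≤ B ⊓ centralizer (B : Set P))
    (hxA : ⁅zpowers x, A⁆ ≤ B ⊓ centralizer (B : Set P)) :
    ⁅B ⊔ zpowers x, A⁆ ≤ (B ⊔ zpowers x) ⊓ centralizer ((B ⊔ zpowers x : Subgroup P) : Set P) := by
  rw [commutator_le]
  intro g hg a ha
  obtain ⟨b, hb, i, rfl⟩ := commute_of_mem_sup_zpowers hx hg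
  have h1 := hxA (commutator_mem_commutator (zpow_mem_zpowers x i) ha)
  have h2 := hBA (commutator_mem_commutator hb ha)
  have h3 : b * ⁅x ^ i, a⁆ * b⁻¹ = ⁅x ^ i, a⁆ := by
    rw [mem_centralizer_iff.1 h1.2 b hb, mul_inv_cancel_right]
  rw [commutatorElement_mul, h3]
  exact center_sup_ge hx (mul_mem h1 h2)

theorem normalizes_of_commutator_le {B Q : Subgroup P} (h : ⁅B, Q⁆ ≤ B) :
    Q ≤ normalizer (B : Set P) :=
  le_normalizer_iff_commutator_le_left.2 h

theorem bot_mem_lower (Q : Subgroup P) : (⊥ : Subgroup P) ∈ kLowerStarFamily Q := by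
  refine ⟨?_, ?_, fun A _ _ _ _ _ => ?_⟩
  · intro z hz; simp_all
  · rw [normalizer_eq_top]; exact le_top
  · simp

theorem bot_mem_upper (Q : Subgroup P) : (⊥ : Subgroup P) ∈ kUpperStarFamily Q := by
  refine ⟨?_, ?_⟩
  · intro z hz; simp_all
  · simp

theorem centralizer_le_of_maximal_classTwo {B : Subgroup P} (hB : B ∈ classTwoSubgroups P)
    (hmax : ∀ C ∈ classTwoSubgroups P, B ≤ C → C = B) : centralizer (B : Set P) ≤ B := by
  intro x hx
  rw [← hmax _ (classTwo_sup hB hx) le_sup_left]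
  exact mem_sup_right (mem_zpowers x)

theorem centralizer_le_of_maximal_upper [Finite P] {p : ℕ} [Fact p.Prime] (hP : IsPGroup p P)
    {B Q : Subgroup P} (hB : B ∈ kUpperStarFamily Q)
    (hmax : ∀ C ∈ kUpperStarFamily Q, B ≤ C → C = B) : centralizer (B : Set P) ≤ B := by
  by_contra hC
  obtain ⟨x, hx, hxB, hxQ⟩ := exists_extension hP
    (normalizes_of_commutator_le (hB.2.trans inf_le_left)) hC
  refine hxB ?_
  rw [← hmax _ ⟨classTwo_sup hB.1 hx, commutator_sup_le hx hB.2 hxQ⟩ le_sup_left]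
  exact mem_sup_right (mem_zpowers x)

theorem centralizer_le_of_maximal_lower [Finite P] {p : ℕ} [Fact p.Prime] (hP : IsPGroup p P)
    {B Q : Subgroup P} (hB : B ∈ kLowerStarFamily Q)
    (hmax : ∀ C ∈ kLowerStarFamily Q, B ≤ C → C = B) : centralizer (B : Set P) ≤ B := by
  by_contra hC
  obtain ⟨x, hx, hxB, hxQ⟩ := exists_extension hP hB.2.1 hC
  refine hxB ?_
  have hmem : B ⊔ zpowers x ∈ kLowerStarFamily Q := by
    refine ⟨classTwo_sup hB.1 hx, ?_, fun A hA hAQ hBA h3 h4 => ?_⟩
    · refine normalizes_of_commutator_le ?_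
      rw [commutator_le]
      intro g hg q hq
      obtain ⟨b, hb, i, rfl⟩ := commute_of_mem_sup_zpowers hx hg
      have h1 := hxQ (commutator_mem_commutator (zpow_mem_zpowers x i) hq)
      have h2 : ⁅b, q⁆ ∈ B := le_normalizer_iff_commutator_le_left.1 hB.2.1 (commutator_mem_commutator hb hq)
      rw [commutatorElement_mul]
      exact mem_sup_left (mul_mem (mul_mem (mul_mem hb h1.1) (inv_mem hb)) h2)
    · refine commutator_sup_le hx (hB.2.2 A hA hAQ (le_sup_left.trans hBA) ?_ ?_)
        ((commutator_mono le_rfl hAQ).trans hxQ)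
      · exact le_bot_iff.1 (h3 ▸ commutator_mono le_sup_left le_rfl)
      · exact le_bot_iff.1 (h4 ▸ commutator_mono
          (commutator_mono (fun z hz => center_sup_ge hx hz) le_rfl) le_rfl)
  rw [← hmax _ hmem le_sup_left]
  exact mem_sup_right (mem_zpowers x)

theorem center_le_centralizer (K : Subgroup P) : Subgroup.center P ≤ centralizer (K : Set P) :=
  fun _ hz => mem_centralizer_iff.2 fun g _ => Subgroup.mem_center_iff.1 hz g

theorem centralizer_sSup_le [Finite P] {𝒦 : Set (Subgroup P)} (hne : 𝒦.Nonempty)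
    (h : ∀ B ∈ 𝒦, (∀ C ∈ 𝒦, B ≤ C → C = B) → centralizer (B : Set P) ≤ B) :
    centralizer ((sSup 𝒦 : Subgroup P) : Set P) ≤ sSup 𝒦 := by
  obtain ⟨B₀, hB₀⟩ := hne
  obtain ⟨B, -, hB⟩ := Finite.exists_le_maximal (p := fun B : Subgroup P => B ∈ 𝒦) hB₀
  have hle : B ≤ sSup 𝒦 := le_sSup hB.prop
  exact ((centralizer_le hle).trans
    (h B hB.prop fun C hC hBC => (hB.eq_of_le hC hBC).symm)).trans hle

theorem centralizer_kInfLower_le [Finite P] {p : ℕ} [Fact p.Prime] (hP : IsPGroup p P) :
    centralizer (kInfLower P : Set P) ≤ kInfLower P := by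
  obtain ⟨n, hn⟩ := exists_stable (P := P)
  rw [← (hn n le_rfl).1]
  exact centralizer_sSup_le ⟨⊥, bot_mem_lower _⟩
    fun B hB hm => centralizer_le_of_maximal_lower hP hB hm

theorem centralizer_kInfUpper_le [Finite P] {p : ℕ} [Fact p.Prime] (hP : IsPGroup p P) :
    centralizer (kInfUpper P : Set P) ≤ kInfUpper P := by
  obtain ⟨n, hn⟩ := exists_stable (P := P)
  rw [← (hn (n + 1) (by omega)).2, odd_succ]
  exact centralizer_sSup_le ⟨⊥, bot_mem_upper _⟩
    fun B hB hm => centralizer_le_of_maximal_upper hP hB hm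

theorem center_le_kInfLower [Finite P] {p : ℕ} [Fact p.Prime] (hP : IsPGroup p P) :
    Subgroup.center P ≤ kInfLower P :=
  (center_le_centralizer _).trans (centralizer_kInfLower_le hP)

theorem center_le_kInfUpper [Finite P] {p : ℕ} [Fact p.Prime] (hP : IsPGroup p P) :
    Subgroup.center P ≤ kInfUpper P :=
  (center_le_centralizer _).trans (centralizer_kInfUpper_le hP)

/-! ### Abelian normal subgroups -/

theorem abelian_normal_mem_classTwo (A : Subgroup P) (hA : IsMulCommutative A) :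
    A ∈ classTwoSubgroups P := by
  have hc : A ≤ centralizer (A : Set P) := le_centralizer_iff_isMulCommutative.2 hA
  intro z hz
  exact hc (commutator_le_self A hz)

theorem abelian_normal_mem_lower (A : Subgroup P) [hn : A.Normal] (hA : IsMulCommutative A)
    (Q : Subgroup P) : A ∈ kLowerStarFamily Q := by
  have hc : A ≤ centralizer (A : Set P) := le_centralizer_iff_isMulCommutative.2 hA
  refine ⟨abelian_normal_mem_classTwo A hA, ?_, fun X _ _ _ _ _ => ?_⟩
  · rw [normalizer_eq_top]; exact le_top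
  · exact (commutator_le_left A X).trans (le_inf le_rfl hc)

theorem abelian_normal_mem_upper (A : Subgroup P) [hn : A.Normal] (hA : IsMulCommutative A)
    (Q : Subgroup P) : A ∈ kUpperStarFamily Q :=
  ⟨abelian_normal_mem_classTwo A hA,
    (commutator_le_left A Q).trans (le_inf le_rfl (le_centralizer_iff_isMulCommutative.2 hA))⟩

/-! ### Transport along injective homomorphisms -/

variable {Q : Type v} [Group Q] {f : Q →* P}

theorem map_inf_centralizer (hf : Function.Injective f) (B : Subgroup Q) :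
    (B ⊓ centralizer (B : Set Q)).map f = B.map f ⊓ centralizer ((B.map f : Subgroup P) : Set P) := by
  ext y
  constructor
  · rintro ⟨x, ⟨hx, hxc⟩, rfl⟩
    refine mem_inf.2 ⟨mem_map_of_mem f hx, mem_centralizer_iff.2 ?_⟩
    rintro _ ⟨b, hb, rfl⟩
    rw [← map_mul, ← map_mul, mem_centralizer_iff.1 hxc b hb]
  · rintro ⟨⟨x, hx, rfl⟩, hc⟩
    refine ⟨x, ⟨hx, mem_centralizer_iff.2 fun b hb => hf ?_⟩, rfl⟩
    rw [map_mul, map_mul]
    exact mem_centralizer_iff.1 hc (f b) (mem_map_of_mem f hb)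

theorem map_le_normalizer_map_iff (hf : Function.Injective f) {A B : Subgroup Q} :
    A.map f ≤ normalizer ((B.map f : Subgroup P) : Set P) ↔ A ≤ normalizer (B : Set Q) := by
  rw [le_normalizer_iff_commutator_le_right, le_normalizer_iff_commutator_le_right, ← map_commutator,
    map_le_map_iff_of_injective hf]

theorem classTwo_map_iff (hf : Function.Injective f) {B : Subgroup Q} :
    B.map f ∈ classTwoSubgroups P ↔ B ∈ classTwoSubgroups Q := by
  show ⁅B.map f, B.map f⁆ ≤ centralizer ((B.map f : Subgroup P) : Set P) ↔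
    ⁅B, B⁆ ≤ centralizer (B : Set Q)
  rw [← commutator_eq_bot_iff_le_centralizer, ← commutator_eq_bot_iff_le_centralizer,
    ← map_commutator, ← map_commutator, map_eq_bot_iff_of_injective _ hf]

theorem upper_map_iff (hf : Function.Injective f) {B X : Subgroup Q} :
    B.map f ∈ kUpperStarFamily (X.map f) ↔ B ∈ kUpperStarFamily X := by
  refine and_congr (classTwo_map_iff hf) ?_
  rw [← map_commutator, ← map_inf_centralizer hf, map_le_map_iff_of_injective hf]

theorem lower_map_iff (hf : Function.Injective f) {B X : Subgroup Q} :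
    B.map f ∈ kLowerStarFamily (X.map f) ↔ B ∈ kLowerStarFamily X := by
  refine and_congr (classTwo_map_iff hf) (and_congr (map_le_normalizer_map_iff hf) ?_)
  constructor
  · intro h A hA hAX hBA h3 h4
    have := h (A.map f) ((classTwo_map_iff hf).2 hA) (map_mono hAX)
      ((map_le_normalizer_map_iff hf).2 hBA)
      (by rw [← map_commutator, ← map_commutator, h3, Subgroup.map_bot])
      (by rw [← map_inf_centralizer hf, ← map_commutator, ← map_commutator, h4, Subgroup.map_bot])
    rwa [← map_commutator, ← map_inf_centralizer hf, map_le_map_iff_of_injective hf] at this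
  · intro h A hA hAX hBA h3 h4
    obtain ⟨A, rfl⟩ : ∃ A' : Subgroup Q, A'.map f = A :=
      ⟨A.comap f, map_comap_eq_self (hAX.trans (map_le_range f X))⟩
    rw [← map_commutator, ← map_inf_centralizer hf, map_le_map_iff_of_injective hf]
    refine h A ((classTwo_map_iff hf).1 hA) ((map_le_map_iff_of_injective hf).1 hAX)
      ((map_le_normalizer_map_iff hf).1 hBA) ?_ ?_
    · rwa [← map_commutator, ← map_commutator, map_eq_bot_iff_of_injective _ hf] at h3
    · rwa [← map_inf_centralizer hf, ← map_commutator, ← map_commutator,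
        map_eq_bot_iff_of_injective _ hf] at h4

theorem seq_squeeze (hf : Function.Injective f)
    (hE : ∀ n, kSeqEven P n ≤ f.range) (hO : ∀ n, kSeqOdd P (n + 1) ≤ f.range) (n : ℕ) :
    (kSeqOdd P (n + 1) ≤ (kSeqOdd Q n).map f ∧ (kSeqOdd Q n).map f ≤ kSeqOdd P n) ∧
      (kSeqEven P n ≤ (kSeqEven Q n).map f ∧ (kSeqEven Q n).map f ≤ kSeqEven P (n + 1)) := by
  have step : ∀ n, kSeqOdd P (n + 1) ≤ (kSeqOdd Q n).map f →
      (kSeqOdd Q n).map f ≤ kSeqOdd P n →
      kSeqEven P n ≤ (kSeqEven Q n).map f ∧ (kSeqEven Q n).map f ≤ kSeqEven P (n + 1) := by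
    intro n h1 h2
    constructor
    · refine sSup_le fun B hB => ?_
      obtain ⟨B, rfl⟩ : ∃ B' : Subgroup Q, B'.map f = B :=
        ⟨B.comap f, map_comap_eq_self ((le_sSup hB).trans (hE n))⟩
      exact map_mono (le_sSup ((lower_map_iff hf).1 (lower_antitone h2 hB)))
    · rw [map_le_iff_le_comap]
      refine sSup_le fun B hB => map_le_iff_le_comap.1 ?_
      exact le_sSup (lower_antitone h1 ((lower_map_iff hf).2 hB))
  suffices h : kSeqOdd P (n + 1) ≤ (kSeqOdd Q n).map f ∧ (kSeqOdd Q n).map f ≤ kSeqOdd P n from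
    ⟨h, step n h.1 h.2⟩
  induction n with
  | zero => exact ⟨(hO 0).trans (MonoidHom.range_eq_map f).le, le_top⟩
  | succ k ih =>
    obtain ⟨h3, h4⟩ := step k ih.1 ih.2
    constructor
    · refine sSup_le fun B hB => ?_
      obtain ⟨B, rfl⟩ : ∃ B' : Subgroup Q, B'.map f = B :=
        ⟨B.comap f, map_comap_eq_self ((le_sSup hB).trans (hO (k + 1)))⟩
      rw [odd_succ]
      exact map_mono (le_sSup ((upper_map_iff hf).1 (upper_antitone h4 hB)))
    · rw [odd_succ, map_le_iff_le_comap]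
      refine sSup_le fun B hB => map_le_iff_le_comap.1 ?_
      exact le_sSup (upper_antitone h3 ((upper_map_iff hf).2 hB))

theorem map_kInf (hf : Function.Injective f)
    (hE : ∀ n, kSeqEven P n ≤ f.range) (hO : ∀ n, kSeqOdd P (n + 1) ≤ f.range) :
    (kInfLower Q).map f = kInfLower P ∧ (kInfUpper Q).map f = kInfUpper P := by
  have h := seq_squeeze hf hE hO
  constructor
  · refine le_antisymm ?_ (iSup_le fun n => (h n).2.1.trans (map_mono (le_iSup (kSeqEven Q) n)))
    rw [kInfLower, Subgroup.map_iSup]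
    exact iSup_le fun n => (h n).2.2.trans (le_iSup (kSeqEven P) (n + 1))
  · have hmap : (kInfUpper Q).map f = ⨅ n, (kSeqOdd Q n).map f := Subgroup.map_iInf f hf _
    rw [hmap]
    exact le_antisymm (le_iInf fun n => (iInf_le _ n).trans (h n).1.2)
      (le_iInf fun n => (iInf_le _ (n + 1)).trans (h n).1.1)

theorem map_kInf_equiv (e : Q ≃* P) :
    (kInfLower Q).map e.toMonoidHom = kInfLower P ∧
      (kInfUpper Q).map e.toMonoidHom = kInfUpper P :=
  map_kInf (f := e.toMonoidHom) e.injective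
    (fun _ x _ => ⟨e.symm x, e.apply_symm_apply x⟩) (fun _ x _ => ⟨e.symm x, e.apply_symm_apply x⟩)

theorem isCharPFunctor_kInfLower (p : ℕ) [Fact p.Prime] : IsCharPFunctor.{u} p kInfLower := by
  refine ⟨fun R _ _ hR _ h => ?_, fun R T _ _ _ _ e => (map_kInf_equiv e).1⟩
  have hle := centralizer_kInfLower_le hR
  rw [h] at hle
  have : (⊤ : Subgroup R) ≤ ⊥ := fun x _ => hle (mem_centralizer_iff.2 fun g hg => by
    rw [mem_bot.1 hg]; simp)
  exact bot_ne_top (le_antisymm bot_le this)

theorem isCharPFunctor_kInfUpper (p : ℕ) [Fact p.Prime] : IsCharPFunctor.{u} p kInfUpper := by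
  refine ⟨fun R _ _ hR _ h => ?_, fun R T _ _ _ _ e => (map_kInf_equiv e).2⟩
  have hle := centralizer_kInfUpper_le hR
  rw [h] at hle
  have : (⊤ : Subgroup R) ≤ ⊥ := fun x _ => hle (mem_centralizer_iff.2 fun g hg => by
    rw [mem_bot.1 hg]; simp)
  exact bot_ne_top (le_antisymm bot_le this)

end CfsgLib.Techniques.KSeq
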