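import Cfsg.Prelude.Def_PLocal
import Mathlib.Tactic.FinCases
import Mathlib.Tactic.LinearCombination
import Mathlib.LinearAlgebra.Matrix.Determinant.Basic
import Mathlib.RingTheory.Noetherian.Basic
import Mathlib.Algebra.Field.ZMod

/-!
Elementary facts about `Qd(p)` as a group of 3 by 3 matrices.
-/

set_option autoImplicit false

namespace CfsgLib.Techniques.Qd

open Matrix

variable {p : ℕ}

local notation "SL3" p => Matrix.SpecialLinearGroup (Fin 3) (ZMod p)

/-- Affine matrix with linear part `!![a, b; c, d]` of determinant one and translation `(x, y)`. -/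
def mk (a b c d x y : ZMod p) (h : a * d - b * c = 1) : SL3 p :=
  ⟨!![a, b, x; c, d, y; 0, 0, 1], by simp [Matrix.det_fin_three]; linear_combination h⟩

theorem mk_mem (a b c d x y : ZMod p) (h : a * d - b * c = 1) : mk a b c d x y h ∈ Cfsg.qd p :=
  Subgroup.subset_closure ⟨by simp [mk], by simp [mk], by simp [mk]⟩

theorem mk_mul (a b c d x y : ZMod p) (h : a * d - b * c = 1) (a' b' c' d' x' y' : ZMod p)
    (h' : a' * d' - b' * c' = 1) :
    mk a b c d x y h * mk a' b' c' d' x' y' h' =
      mk (a * a' + b * c') (a * b' + b * d') (c * a' + d * c') (c * b' + d * d')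
        (a * x' + b * y' + x) (c * x' + d * y' + y)
        (by linear_combination (a' * d' - b' * c') * h + h') := by
  apply Subtype.ext
  rw [Matrix.SpecialLinearGroup.coe_mul]
  simp only [mk]
  ext i j
  fin_cases i <;> fin_cases j <;> simp [Matrix.mul_apply, Fin.sum_univ_three]

theorem mk_one (h : (1 : ZMod p) * 1 - 0 * 0 = 1) : mk 1 0 0 1 0 0 h = (1 : SL3 p) := by
  apply Subtype.ext
  simp only [mk, Matrix.SpecialLinearGroup.coe_one]
  ext i j
  fin_cases i <;> fin_cases j <;> simp

theorem exists_mk {M : SL3 p} (hM : M ∈ Cfsg.qd p) :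
    ∃ a b c d x y h, M = mk a b c d x y h := by
  induction hM using Subgroup.closure_induction with
  | mem M hM =>
    obtain ⟨h0, h1, h2⟩ := hM
    have hdet := M.2
    rw [Matrix.det_fin_three] at hdet
    simp only [h0, h1, h2] at hdet
    refine ⟨M.1 0 0, M.1 0 1, M.1 1 0, M.1 1 1, M.1 0 2, M.1 1 2,
      by linear_combination hdet, ?_⟩
    apply Subtype.ext
    ext i j
    fin_cases i <;> fin_cases j <;> simp [mk, h0, h1, h2]
  | one => exact ⟨1, 0, 0, 1, 0, 0, by ring, (mk_one _).symm⟩
  | mul M N _ _ hM hN =>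
    obtain ⟨a, b, c, d, x, y, h, rfl⟩ := hM
    obtain ⟨a', b', c', d', x', y', h', rfl⟩ := hN
    rw [mk_mul]
    exact ⟨_, _, _, _, _, _, _, rfl⟩
  | inv M _ hM =>
    obtain ⟨a, b, c, d, x, y, h, rfl⟩ := hM
    refine ⟨d, -b, -c, a, b * y - d * x, c * x - a * y, by linear_combination h, ?_⟩
    apply inv_eq_of_mul_eq_one_right
    rw [mk_mul, ← mk_one (p := p) (by ring)]
    congr 1
    all_goals first
      | linear_combination h
      | linear_combination (x * 0 : ZMod p) * h
      | linear_combination (-x : ZMod p) * h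
      | linear_combination (-y : ZMod p) * h

/-- The translation subgroup. -/
def translations (p : ℕ) : Subgroup ↥(Cfsg.qd p) where
  carrier := {M | ∃ x y : ZMod p, (M : SL3 p) = mk 1 0 0 1 x y (by ring)}
  one_mem' := ⟨0, 0, (mk_one _).symm⟩
  mul_mem' := by
    rintro M N ⟨x, y, hM⟩ ⟨x', y', hN⟩
    refine ⟨x + x', y + y', ?_⟩
    rw [Subgroup.coe_mul, hM, hN, mk_mul]
    congr 1 <;> ring
  inv_mem' := by
    rintro M ⟨x, y, hM⟩
    refine ⟨-x, -y, ?_⟩
    rw [Subgroup.coe_inv, hM]
    apply inv_eq_of_mul_eq_one_right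
    rw [mk_mul, ← mk_one (p := p) (by ring)]
    congr 1 <;> ring

theorem translations_normal : (translations p).Normal := by
  refine ⟨fun M hM N => ?_⟩
  obtain ⟨x, y, hM⟩ := hM
  obtain ⟨a, b, c, d, x', y', h, hN⟩ := exists_mk N.2
  refine ⟨a * x + b * y, c * x + d * y, ?_⟩
  rw [Subgroup.coe_mul, Subgroup.coe_mul, Subgroup.coe_inv, mul_inv_eq_iff_eq_mul, hM, hN, mk_mul, mk_mul]
  congr 1 <;> ring

theorem card_translations [NeZero p] : Nat.card (translations p) = p ^ 2 := by
  have : Nat.card (translations p) = Nat.card (ZMod p × ZMod p) := by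
    refine (Nat.card_congr (Equiv.ofBijective
      (fun v : ZMod p × ZMod p => (⟨⟨mk 1 0 0 1 v.1 v.2 (by ring), mk_mem _ _ _ _ _ _ _⟩,
        v.1, v.2, rfl⟩ : translations p)) ⟨?_, ?_⟩)).symm
    · intro v w h
      have h' := congrArg (fun M : translations p => ((M : ↥(Cfsg.qd p)) : SL3 p).1) h
      ext
      · simpa [mk] using congrFun (congrFun h' 0) 2
      · simpa [mk] using congrFun (congrFun h' 1) 2
    · rintro ⟨M, x, y, hM⟩
      exact ⟨(x, y), Subtype.ext (Subtype.ext hM.symm)⟩
  rw [this, Nat.card_prod, Nat.card_zmod, pow_two]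

/-- The upper unitriangular transvection with parameter `a`. -/
def up (a : ZMod p) : ↥(Cfsg.qd p) := ⟨mk 1 a 0 1 0 0 (by ring), mk_mem _ _ _ _ _ _ _⟩

/-- The lower unitriangular transvection with parameter `a`. -/
def low (a : ZMod p) : ↥(Cfsg.qd p) := ⟨mk 1 0 a 1 0 0 (by ring), mk_mem _ _ _ _ _ _ _⟩

theorem up_zero : up (0 : ZMod p) = 1 := Subtype.ext (mk_one (by ring))

theorem up_mul (a b : ZMod p) : up a * up b = up (a + b) := by
  apply Subtype.ext
  simp only [up, Subgroup.coe_mul, mk_mul]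
  congr 1 <;> ring

theorem up_one_pow (n : ℕ) : (up 1 : ↥(Cfsg.qd p)) ^ n = up (n : ZMod p) := by
  induction n with
  | zero => simp [up_zero]
  | succ n ih => rw [pow_succ, ih, up_mul]; push_cast; rfl

theorem up_one_pow_self : (up 1 : ↥(Cfsg.qd p)) ^ p = 1 := by
  rw [up_one_pow, ZMod.natCast_self, up_zero]

theorem up_one_not_mem_translations [Fact (1 < p)] : (up 1 : ↥(Cfsg.qd p)) ∉ translations p := by
  rintro ⟨x, y, h⟩
  have := congrFun (congrFun (congrArg Subtype.val h) 0) 1
  simp [up, mk] at this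

theorem up_mem_normalClosure [NeZero p] (a : ZMod p) :
    up a ∈ Subgroup.normalClosure ({up 1} : Set ↥(Cfsg.qd p)) := by
  have := Subgroup.pow_mem _ (Subgroup.subset_normalClosure (Set.mem_singleton (up (1 : ZMod p)))) a.val
  rwa [up_one_pow, ZMod.natCast_zmod_val] at this

theorem low_mem_normalClosure [NeZero p] (a : ZMod p) :
    low a ∈ Subgroup.normalClosure ({up 1} : Set ↥(Cfsg.qd p)) := by
  set w : ↥(Cfsg.qd p) := ⟨mk 0 1 (-1) 0 0 0 (by ring), mk_mem _ _ _ _ _ _ _⟩
  have h : low a = w * up (-a) * w⁻¹ := by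
    rw [eq_mul_inv_iff_mul_eq]
    apply Subtype.ext
    simp only [w, up, low, Subgroup.coe_mul, mk_mul]
    congr 1 <;> ring
  rw [h]
  exact Subgroup.normalClosure_normal.conj_mem _ (up_mem_normalClosure _) _

/-- The diagonal element with entries `a`, `b`. -/
def diag (a b : ZMod p) (h : a * b = 1) : ↥(Cfsg.qd p) :=
  ⟨mk a 0 0 b 0 0 (by linear_combination h), mk_mem _ _ _ _ _ _ _⟩

theorem diag_mem_normalClosure [NeZero p] (a b : ZMod p) (h : a * b = 1) :
    diag a b h ∈ Subgroup.normalClosure ({up 1} : Set ↥(Cfsg.qd p)) := by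
  have e : diag a b h = up a * low (-b) * up a * (up (-1) * low 1 * up (-1)) := by
    apply Subtype.ext
    simp only [diag, up, low, Subgroup.coe_mul, mk_mul]
    congr 1 <;> first
      | ring1
      | linear_combination h
      | linear_combination (-1 : ZMod p) * h
      | linear_combination (a : ZMod p) * h

  rw [e]
  exact Subgroup.mul_mem _ (Subgroup.mul_mem _ (Subgroup.mul_mem _ (up_mem_normalClosure _) (low_mem_normalClosure _))
    (up_mem_normalClosure _)) (Subgroup.mul_mem _ (Subgroup.mul_mem _ (up_mem_normalClosure _) (low_mem_normalClosure _))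
    (up_mem_normalClosure _))

/-- The central involution of the linear part. -/
def negOne : ↥(Cfsg.qd p) := diag (-1) (-1) (by ring)

theorem negOne_mul_self : (negOne : ↥(Cfsg.qd p)) * negOne = 1 := by
  apply Subtype.ext
  simp only [negOne, diag, Subgroup.coe_mul, mk_mul, Subgroup.coe_one]
  rw [← mk_one (p := p) (by ring)]
  congr 1 <;> ring

theorem negOne_comm_up (a : ZMod p) : negOne * up a = up a * negOne := by
  apply Subtype.ext
  simp only [negOne, diag, up, Subgroup.coe_mul, mk_mul]
  congr 1 <;> ring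

theorem negOne_comm_diag (a b : ZMod p) (h : a * b = 1) : negOne * diag a b h = diag a b h * negOne := by
  apply Subtype.ext
  simp only [negOne, diag, Subgroup.coe_mul, mk_mul]
  congr 1 <;> ring

theorem diag_conj_up (a b : ZMod p) (h : a * b = 1) (c : ZMod p) :
    diag a b h * up c * (diag a b h)⁻¹ = up (a * a * c) := by
  rw [mul_inv_eq_iff_eq_mul]
  apply Subtype.ext
  simp only [diag, up, Subgroup.coe_mul, mk_mul]
  congr 1 <;> first
    | ring1
    | linear_combination (-a * c : ZMod p) * h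


theorem negOne_conj_translations (M : ↥(Cfsg.qd p)) (hM : M ∈ translations p) :
    negOne * M * negOne⁻¹ = M⁻¹ := by
  obtain ⟨x, y, hM⟩ := hM
  rw [mul_inv_eq_iff_eq_mul, eq_inv_mul_iff_mul_eq]
  apply Subtype.ext
  simp only [negOne, diag, Subgroup.coe_mul, hM, mk_mul]
  congr 1 <;> ring

end CfsgLib.Techniques.Qd
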