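import Cfsg.Agent.Lib.Transfer.AlperinTame
import Cfsg.Agent.Lib.Cores.Coprime

/-!
Alperin's fusion theorem with tame intersections and with the conjugating elements `p`-elements.
-/

namespace CfsgLib.Techniques.AlperinPElements

open Subgroup Cfsg
open CfsgLib.Fusion (conjSub mem_conjSub conjSub_conjSub conjSub_one conjSub_mono card_conjSub
  conjSub_eq_iff_mem_normalizer)
open CfsgLib.Techniques.Functor
open CfsgLib.Transfer (tameInter fam_tame)

variable {G : Type*} [Group G] [Finite G] {p : ℕ} [Fact p.Prime]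

/-- Stepwise conjugation in tame intersections, by `p`-elements except inside `N(P)`. -/
inductive PFam (P : Sylow p G) : Subgroup G → G → Prop
  | nil (A : Subgroup G) : PFam P A 1
  | cons {A : Subgroup G} {Q : Sylow p G} {x g : G} :
      Full p (P : Subgroup G) ((P : Subgroup G) ⊓ Q) → Full p (Q : Subgroup G) ((P : Subgroup G) ⊓ Q) →
      A ≤ (P : Subgroup G) ⊓ Q → x ∈ normalizer (((P : Subgroup G) ⊓ Q : Subgroup G) : Set G) →
      ((Q : Subgroup G) = P ∨ ∃ k : ℕ, orderOf x = p ^ k) →
      PFam P (conjSub x⁻¹ A) g → PFam P A (x * g)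

variable {P : Sylow p G}

omit [Finite G] in
theorem PFam.restrict {A : Subgroup G} {g : G} (h : PFam P A g) :
    ∀ {B : Subgroup G}, B ≤ A → PFam P B g := by
  induction h with
  | nil A => exact fun _ => PFam.nil _
  | cons h1 h2 hA hx hk _ ih => exact fun hBA => PFam.cons h1 h2 (hBA.trans hA) hx hk (ih (conjSub_mono _ hBA))

omit [Finite G] in
theorem PFam.append {A : Subgroup G} {g h : G} (h₁ : PFam P A g) (h₂ : PFam P (conjSub g⁻¹ A) h) :
    PFam P A (g * h) := by
  induction h₁ with
  | nil A => simpa [conjSub_one] using h₂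
  | @cons A Q x g h1 h2' hA hx hk _ ih =>
    rw [mul_assoc]
    refine PFam.cons h1 h2' hA hx hk (ih ?_)
    rwa [conjSub_conjSub, ← mul_inv_rev]

omit [Finite G] in
theorem PFam.single {A : Subgroup G} {Q : Sylow p G} {x : G}
    (h1 : Full p (P : Subgroup G) ((P : Subgroup G) ⊓ Q)) (h2 : Full p (Q : Subgroup G) ((P : Subgroup G) ⊓ Q))
    (hA : A ≤ (P : Subgroup G) ⊓ Q) (hx : x ∈ normalizer (((P : Subgroup G) ⊓ Q : Subgroup G) : Set G))
    (hk : (Q : Subgroup G) = P ∨ ∃ k : ℕ, orderOf x = p ^ k) : PFam P A x := by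
  simpa using PFam.cons h1 h2 hA hx hk (PFam.nil _)

/-- An element of the subgroup generated by the `p`-elements of `N(P ∩ Q)`. -/
theorem pfam_of_mem_closure {Q : Sylow p G}
    (h1 : Full p (P : Subgroup G) ((P : Subgroup G) ⊓ Q)) (h2 : Full p (Q : Subgroup G) ((P : Subgroup G) ⊓ Q))
    {u : G} (hu : u ∈ CfsgLib.Cores.pElemClosure p (normalizer (((P : Subgroup G) ⊓ Q : Subgroup G) : Set G))) :
    PFam P ((P : Subgroup G) ⊓ Q) u := by
  set T := (P : Subgroup G) ⊓ Q with hT
  suffices PFam P T u ∧ PFam P T u⁻¹ ∧ u ∈ normalizer (T : Set G) from this.1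
  induction hu using closure_induction with
  | mem x hx =>
    obtain ⟨hxN, k, hk⟩ := hx
    exact ⟨PFam.single h1 h2 le_rfl hxN (Or.inr ⟨k, hk⟩),
      PFam.single h1 h2 le_rfl (inv_mem hxN) (Or.inr ⟨k, by rwa [orderOf_inv]⟩), hxN⟩
  | one => exact ⟨PFam.nil _, by rw [inv_one]; exact PFam.nil _, one_mem _⟩
  | mul a b _ _ ha hb =>
    refine ⟨ha.1.append ?_, ?_, mul_mem ha.2.2 hb.2.2⟩
    · rw [conjSub_eq_iff_mem_normalizer.2 (inv_mem ha.2.2)]
      exact hb.1
    · rw [mul_inv_rev]
      refine hb.2.1.append ?_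
      rw [inv_inv, conjSub_eq_iff_mem_normalizer.2 hb.2.2]
      exact ha.2.1
  | inv a _ ha => exact ⟨ha.2.1, by rw [inv_inv]; exact ha.1, inv_mem ha.2.2⟩

theorem pfam (P : Sylow p G) : ∀ A ≤ (P : Subgroup G), ∀ g, conjSub g⁻¹ A ≤ (P : Subgroup G) → PFam P A g := by
  suffices key : ∀ d, ∀ A ≤ (P : Subgroup G), Nat.card ↥(P : Subgroup G) - Nat.card A = d →
      ∀ g, conjSub g⁻¹ A ≤ (P : Subgroup G) → PFam P A g from fun A hA => key _ A hA rfl
  intro d
  induction d using Nat.strong_induction_on with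
  | _ d ih =>
    intro A hA hd g hgA
    have step : ∀ {T : Subgroup G} {x : G}, T ∈ tameInter P → Nat.card A ≤ Nat.card T →
        x ∈ normalizer (T : Set G) → PFam P T x := by
      rintro T x ⟨Q, rfl, h1, h2⟩ hcard hx
      by_cases hTP : (P : Subgroup G) ⊓ Q = P
      · refine PFam.single h1 h2 le_rfl hx (Or.inl ?_)
        exact P.3 Q.2 (hTP.ge.trans inf_le_right)
      set T := (P : Subgroup G) ⊓ Q with hTdef
      set N := normalizer (T : Set G) with hN
      set S := (P : Subgroup G) ⊓ N with hS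
      set K := CfsgLib.Cores.pElemClosure p N with hK
      have hTS : T < S := lt_norm P.2 (lt_of_le_of_ne inf_le_left hTP)
      have hSp : IsPGroup p ↥S := isPGroup_norm P T
      have hSK : S ≤ K := fun s hs => by
        obtain ⟨k, hk⟩ := IsPGroup.iff_orderOf.1 hSp ⟨s, hs⟩
        rw [Subgroup.orderOf_mk] at hk
        exact CfsgLib.Cores.mem_pElemClosure hs.2 hk
      have hxN : x ∈ N := hx
      have hKx : conjSub x S ≤ K := by
        rintro _ ⟨s, hs, rfl⟩
        obtain ⟨k, hk⟩ := IsPGroup.iff_orderOf.1 hSp ⟨s, hs⟩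
        rw [Subgroup.orderOf_mk] at hk
        refine CfsgLib.Cores.mem_pElemClosure (mul_mem (mul_mem hxN hs.2) (inv_mem hxN)) (k := k) ?_
        show orderOf (MulAut.conj x s) = p ^ k
        rw [MulEquiv.orderOf_eq, hk]
      have hi : ¬ p ∣ S.relIndex K := fun h => h1 (h.trans (Dvd.intro _
        (relIndex_mul_relIndex S K N hSK (CfsgLib.Cores.pElemClosure_le p N))))
      obtain ⟨k, hkK, hkS⟩ := exists_conjSub_eq (H := K) (hSp.map (MulAut.conj x).toMonoidHom) hKx
        (by
          intro h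
          refine h1 ?_
          have h3 : (conjSub x S).relIndex K ∣ (conjSub x S).relIndex N :=
            Dvd.intro _ (relIndex_mul_relIndex _ K N hKx (CfsgLib.Cores.pElemClosure_le p N))
          have h4 : (conjSub x S).relIndex N = S.relIndex N := by
            conv_lhs => rw [← conjSub_eq_iff_mem_normalizer.2 (le_normalizer hxN)]
            exact relIndex_map_map_of_injective S N (MulAut.conj x).injective
          exact (h.trans h3).trans (dvd_of_eq h4))
        hSp hSK hi
      change conjSub k (conjSub x S) = S at hkS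
      rw [conjSub_conjSub] at hkS
      have hkN : k ∈ N := CfsgLib.Cores.pElemClosure_le p N hkK
      have hlt : Nat.card A < Nat.card S := lt_of_le_of_lt hcard (card_lt_of_lt hTS)
      have hSP : Nat.card S ≤ Nat.card ↥(P : Subgroup G) := card_le_of_le inf_le_left
      have hh : PFam P S (k * x) := ih _ (by omega) S inf_le_left rfl (k * x) (by
        rw [conjSub_eq_iff_mem_normalizer.2 (inv_mem (conjSub_eq_iff_mem_normalizer.1 hkS))]
        exact inf_le_left)
      have hu : PFam P T k⁻¹ := pfam_of_mem_closure h1 h2 (inv_mem hkK)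
      have := hu.append (h := k * x) (by
        rw [inv_inv, conjSub_eq_iff_mem_normalizer.2 hkN]
        exact hh.restrict hTS.le)
      rwa [inv_mul_cancel_left] at this
    have chain : ∀ {B : Subgroup G} {h : G}, Fam (tameInter P) B h → Nat.card A ≤ Nat.card B → PFam P B h := by
      intro B h hf
      induction hf with
      | nil B => exact fun _ => PFam.nil _
      | @cons B T x h hT hB hx _ ih2 =>
        intro hc
        exact ((step hT (hc.trans (card_le_of_le hB)) hx).restrict hB).append (ih2 (by rwa [card_conjSub]))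
    exact chain (fam_tame P hA hgA) le_rfl

theorem PFam.spec {A : Subgroup G} {g : G} (h : PFam P A g) :
    ∃ (n : ℕ) (Q : Fin n → Sylow p G) (x : Fin n → G), (List.ofFn x).prod = g ∧
      (∀ i, x i ∈ normalizer ((((P : Subgroup G) ⊓ (Q i : Subgroup G)) : Subgroup G) : Set G) ∧
        Full p (P : Subgroup G) ((P : Subgroup G) ⊓ (Q i : Subgroup G)) ∧
        Full p (Q i : Subgroup G) ((P : Subgroup G) ⊓ (Q i : Subgroup G)) ∧
        ((Q i : Subgroup G) = P ∨ ∃ k : ℕ, orderOf (x i) = p ^ k)) ∧
      (∀ h : 0 < n, A ≤ (P : Subgroup G) ⊓ Q ⟨0, h⟩) ∧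
      ∀ (i : Fin n) (h : i.val + 1 < n),
        conjSub (((List.ofFn x).take (i.val + 1)).prod)⁻¹ A ≤ (P : Subgroup G) ⊓ Q ⟨i.val + 1, h⟩ := by
  induction h with
  | nil A => exact ⟨0, Fin.elim0, Fin.elim0, rfl, fun i => i.elim0,
      fun h => absurd h (lt_irrefl 0), fun i => i.elim0⟩
  | @cons A Q x g h1 h2 hA hx hk _ ih =>
    obtain ⟨n, Qs, xs, e1, e2, e4, e5⟩ := ih
    refine ⟨n + 1, Fin.cons Q Qs, Fin.cons x xs, ?_, ?_, fun _ => hA, ?_⟩
    · rw [List.ofFn_cons, List.prod_cons, e1]
    · intro i; cases i using Fin.cases with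
      | zero => exact ⟨hx, h1, h2, hk⟩
      | succ i => simpa using e2 i
    · intro i hi
      have hi' : i.val < n := by omega
      rw [show (⟨i.val + 1, hi⟩ : Fin (n + 1)) = Fin.succ ⟨i.val, hi'⟩ from rfl, Fin.cons_succ,
        List.ofFn_cons]
      simp only [List.take_succ_cons, List.prod_cons, mul_inv_rev]
      rw [← conjSub_conjSub]
      obtain ⟨iv, hiv⟩ := i
      cases iv with
      | zero =>
        simp only [List.take_zero, List.prod_nil, inv_one, conjSub_one]
        exact e4 (by omega)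
      | succ k => exact e5 ⟨k, by omega⟩ (by show k + 1 < n; omega)

end CfsgLib.Techniques.AlperinPElements
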