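import Cfsg.Agent.Lib.Techniques.QdFreeConstrained
import Cfsg.Agent.Lib.Techniques.AlperinGoldschmidtCore
import Cfsg.Agent.Lib.Techniques.Qd.Converse
import Cfsg.Agent.Lib.Fusion.GroupSystem
import Cfsg.Agent.Lib.Solvable.NilpotentParts
import Cfsg.Agent.Lib.Transfer.QdFreeGroup

/-!
For odd `p`, when no automizer of a `p`-subgroup involves `SL(2, p)`, there is a least centric radical
subgroup, and its normalizer controls fusion.
-/

set_option autoImplicit false

namespace CfsgLib.Techniques.CentricRadicalLeast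

open Subgroup Cfsg

universe u

section Qd

open CfsgLib.LocalEven

variable {p : ℕ} [hp : Fact p.Prime]

/-- If `Qd(p)` is involved, some automizer of a `p`-subgroup has an `SL(2, p)` section. -/
theorem exists_automizer_sl2 {G : Type u} [Group G] [Finite G] (h : Cfsg.Involves ↥(Cfsg.qd p) G) :
    ∃ Q : Subgroup G, IsPGroup p ↥Q ∧ ∃ (H K : Subgroup G) (_ : (K.subgroupOf H).Normal),
      centralizer (Q : Set G) ≤ K ∧ K ≤ H ∧ H ≤ normalizer (Q : Set G) ∧
      Nonempty ((↥H ⧸ K.subgroupOf H) ≃* Matrix.SpecialLinearGroup (Fin 2) (ZMod p)) := by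
  classical
  obtain ⟨X, φ, hφ⟩ : ∃ (X : Subgroup G) (f : X →* ↥(Cfsg.qdOver (ZMod p))), Function.Surjective f :=
    Offender.exists_hom_of_involves h
  let g : X →* Matrix.SpecialLinearGroup (Fin 2) (ZMod p) := QdOver.lin.comp φ
  have hg : Function.Surjective g := QdOver.lin_surjective.comp hφ
  set W := (QdOver.trans : Subgroup ↥(Cfsg.qdOver (ZMod p))).comap φ with hW
  haveI hWn : W.Normal := QdOver.trans_normal.comap φ
  let S : Sylow p W := default
  set Qm := (S : Subgroup W).map W.subtype with hQm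
  have hfr : normalizer (Qm : Set X) ⊔ W = ⊤ := Sylow.normalizer_sup_eq_top S
  let fW : W →* (QdOver.trans : Subgroup ↥(Cfsg.qdOver (ZMod p))) := φ.subgroupComap _
  have hfW : Function.Surjective fW := fun t => by
    obtain ⟨x, hx⟩ := hφ t
    refine ⟨⟨x, ?_⟩, Subtype.ext hx⟩
    show φ x ∈ (QdOver.trans : Subgroup ↥(Cfsg.qdOver (ZMod p)))
    rw [hx]; exact t.2
  have htop : (S : Subgroup W).map fW = ⊤ := by
    have h1 := ((S.mapSurjective hfW).3 (QdOver.isPGroup_trans.to_subgroup ⊤) le_top).symm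
    rw [Sylow.coe_mapSurjective] at h1
    exact h1
  set Q := Qm.map X.subtype with hQ
  have hN : ∀ y ∈ normalizer (Qm : Set X), (y : G) ∈ normalizer (Q : Set G) := fun y hy =>
    le_normalizer_map X.subtype ⟨y, hy, rfl⟩
  have hker : ∀ y : X, (y : G) ∈ centralizer (Q : Set G) → g y = 1 := by
    intro y hy
    have hcomm : ∀ t ∈ (QdOver.trans : Subgroup ↥(Cfsg.qdOver (ZMod p))), φ y * t = t * φ y := by
      intro t ht
      obtain ⟨s, hs, hst⟩ := htop.ge (mem_top (⟨t, ht⟩ : (QdOver.trans : Subgroup ↥(Cfsg.qdOver (ZMod p)))))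
      have e : φ (s : X) = t := congrArg Subtype.val hst
      have h2 : y * (s : X) = (s : X) * y := Subtype.ext
        (mem_centralizer_iff.1 hy _ ⟨(s : X), ⟨s, hs, rfl⟩, rfl⟩).symm
      rw [← e, ← map_mul, ← map_mul, h2]
    apply Subtype.ext
    apply Matrix.ext_iff_mulVec.2
    intro v
    have h3 := congrArg QdOver.tr (hcomm (QdOver.aff 1 v) (QdOver.mem_trans.2 (QdOver.lin_aff _ _)))
    rw [QdOver.tr_mul, QdOver.tr_mul, QdOver.tr_aff, QdOver.lin_aff, Matrix.SpecialLinearGroup.coe_one,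
      Matrix.one_mulVec, add_comm (QdOver.tr (φ y)) v] at h3
    show (QdOver.lin (φ y)).1.mulVec v = (1 : Matrix (Fin 2) (Fin 2) (ZMod p)).mulVec v
    rw [Matrix.one_mulVec]
    exact add_right_cancel h3
  set N := normalizer (Qm : Set X) with hNdef
  set C := centralizer (Q : Set G) with hC
  set H := C ⊔ N.map X.subtype with hH
  set K := C ⊔ (N ⊓ g.ker).map X.subtype with hK
  have hNN : N.map X.subtype ≤ normalizer (Q : Set G) := by
    rintro _ ⟨y, hy, rfl⟩; exact hN y hy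
  have hCn : normalizer (Q : Set G) ≤ normalizer (C : Set G) :=
    CfsgLib.Fusion.normalizer_le_normalizer_centralizer Q
  have hKle : K ≤ H := sup_le_sup_left (map_mono inf_le_left) _
  have hHN : H ≤ normalizer (Q : Set G) := sup_le (CfsgLib.Fusion.centralizer_le_normalizer' Q) hNN
  have hKsplit : ∀ x ∈ K, ∃ c ∈ C, ∃ y ∈ (N ⊓ g.ker), c * (y : G) = x := by
    intro x hx
    have hx' : x ∈ ((C ⊔ (N ⊓ g.ker).map X.subtype : Subgroup G) : Set G) := hx
    rw [coe_mul_of_right_le_normalizer_left C _ (((map_mono inf_le_left).trans hNN).trans hCn)] at hx'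
    obtain ⟨c, hc, _, ⟨y, hy, rfl⟩, hcy⟩ := hx'
    exact ⟨c, hc, y, hy, hcy⟩
  have hKn : (K.subgroupOf H).Normal := by
    refine (normal_subgroupOf_iff_le_normalizer hKle).2 (sup_le ?_ ?_)
    · exact le_sup_left.trans le_normalizer
    · rintro _ ⟨n, hn, rfl⟩
      refine CfsgLib.Fusion.mem_normalizer_of_forall fun x hx => ?_
      obtain ⟨c, hc, y, hy, rfl⟩ := hKsplit x hx
      show (n : G) * (c * (y : G)) * (n : G)⁻¹ ∈ K
      rw [show (n : G) * (c * (y : G)) * (n : G)⁻¹ = ((n : G) * c * (n : G)⁻¹) * ((n * y * n⁻¹ : X) : G) by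
        push_cast; group]
      refine mul_mem_sup ((mem_normalizer_iff.1 (hCn (hNN ⟨n, hn, rfl⟩)) c).1 hc)
        ⟨_, ⟨N.mul_mem (N.mul_mem hn hy.1) (N.inv_mem hn), ?_⟩, rfl⟩
      show g (n * y * n⁻¹) = 1
      rw [map_mul, map_mul, show g y = 1 from hy.2, mul_one, ← map_mul, mul_inv_cancel, map_one]
  refine ⟨Q, (S.2.map W.subtype).map X.subtype, H, K, hKn, le_sup_left, hKle, hHN, ⟨?_⟩⟩
  let j : N →* ↥H ⧸ K.subgroupOf H := (QuotientGroup.mk' (K.subgroupOf H)).comp
    ((X.subtype.comp N.subtype).codRestrict H fun y => mem_sup_right ⟨_, y.2, rfl⟩)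
  have hj : Function.Surjective j := by
    intro q
    obtain ⟨⟨x, hx⟩, rfl⟩ := QuotientGroup.mk'_surjective (K.subgroupOf H) q
    have hx' : x ∈ ((C ⊔ N.map X.subtype : Subgroup G) : Set G) := hx
    rw [coe_mul_of_right_le_normalizer_left C _ (hNN.trans hCn)] at hx'
    obtain ⟨c, hc, _, ⟨y, hy, rfl⟩, hcy⟩ := hx'
    refine ⟨⟨y, hy⟩, (QuotientGroup.eq (s := K.subgroupOf H)).2 ?_⟩
    show ((y : G))⁻¹ * x ∈ K
    rw [← hcy]
    show ((y : G))⁻¹ * (c * (y : G)) ∈ K
    rw [← mul_assoc]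
    have := (mem_normalizer_iff.1 (hCn (hNN ⟨y, hy, rfl⟩)) (((y : G))⁻¹ * c * (y : G))).2 (by
      show (y : G) * (((y : G))⁻¹ * c * (y : G)) * ((y : G))⁻¹ ∈ C
      rw [show (y : G) * (((y : G))⁻¹ * c * (y : G)) * ((y : G))⁻¹ = c by group]; exact hc)
    exact mem_sup_left this
  let f : N →* Matrix.SpecialLinearGroup (Fin 2) (ZMod p) := g.comp N.subtype
  have hf : Function.Surjective f := fun M => by
    obtain ⟨x, rfl⟩ := hg M
    obtain ⟨n, hn, w, hw, rfl⟩ := mem_sup_of_normal_right.1 (show x ∈ N ⊔ W by rw [hfr]; trivial)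
    refine ⟨⟨n, hn⟩, ?_⟩
    show g n = g (n * w)
    rw [map_mul, show g w = 1 from QdOver.mem_trans.1 hw, mul_one]
  have hjk : j.ker = f.ker := by
    ext n
    constructor
    · intro hn
      have h1 : ((n : X) : G) ∈ K := (QuotientGroup.eq_one_iff (N := K.subgroupOf H)
        (⟨((n : X) : G), mem_sup_right ⟨_, n.2, rfl⟩⟩ : H)).1 (MonoidHom.mem_ker.1 hn)
      obtain ⟨c, hc, y, hy, hcy⟩ := hKsplit _ h1
      have h2 : g ((n : X) * y⁻¹) = 1 := hker _ (by
        show ((n : X) : G) * ((y : G))⁻¹ ∈ C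
        rw [← hcy, mul_inv_cancel_right]; exact hc)
      rw [map_mul, map_inv, show g y = 1 from hy.2, inv_one, mul_one] at h2
      exact h2
    · intro hn
      exact (QuotientGroup.eq_one_iff (N := K.subgroupOf H)
        (⟨((n : X) : G), mem_sup_right ⟨_, n.2, rfl⟩⟩ : H)).2 (mem_sup_right ⟨_, ⟨n.2, hn⟩, rfl⟩)
  exact (QuotientGroup.quotientKerEquivOfSurjective j hj).symm.trans
    ((QuotientGroup.quotientMulEquivOfEq hjk).trans (QuotientGroup.quotientKerEquivOfSurjective f hf))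

end Qd

open CfsgLib.Fusion (conjSub)

variable {G : Type u} [Group G] [Finite G] {p : ℕ} [Fact p.Prime] (P : Sylow p G)

/-- Centric radical, spelled out in the group. -/
def CR (Q : Subgroup G) : Prop :=
  Q ≤ (P : Subgroup G) ∧
    (∃ R : Sylow p ↥(centralizer (Q : Set G)),
      (R : Subgroup ↥(centralizer (Q : Set G))).map (centralizer (Q : Set G)).subtype = Q ⊓ centralizer (Q : Set G)) ∧
    ∀ X : Subgroup G, X ≤ normalizer (Q : Set G) →
      (∀ n ∈ normalizer (Q : Set G), X.map (MulAut.conj n).toMonoidHom = X) →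
      Q ⊔ centralizer (Q : Set G) ≤ X → (∃ k : ℕ, (Q ⊔ centralizer (Q : Set G)).relIndex X = p ^ k) →
      X = Q ⊔ centralizer (Q : Set G)

variable {P}

theorem inf_centralizer_le {R : Subgroup G} (hR : CR P R) : (P : Subgroup G) ⊓ centralizer (R : Set G) ≤ R := by
  set C := centralizer (R : Set G) with hC
  obtain ⟨hRP, ⟨S, hS⟩, -⟩ := hR
  have hle : (S : Subgroup ↥C) ≤ ((P : Subgroup G) ⊓ C).subgroupOf C := fun x hx =>
    ⟨hRP ((hS.le ⟨x, hx, rfl⟩).1), x.2⟩
  have heq := S.3 (P.2.to_le inf_le_left).comap_subtype hle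
  intro x hx
  have h1 : (⟨x, hx.2⟩ : ↥C) ∈ (S : Subgroup ↥C) := heq ▸ (show (⟨x, hx.2⟩ : ↥C) ∈ ((P : Subgroup G) ⊓ C).subgroupOf C from hx)
  exact (hS.le ⟨_, h1, rfl⟩).1

/-- A strongly controlling subgroup lies in every centric radical one. -/
theorem le_of_cr {Q : Subgroup G} (hQP : Q ≤ (P : Subgroup G)) (hQn : (P : Subgroup G) ≤ normalizer (Q : Set G))
    (hctrl : ∀ A ≤ (P : Subgroup G), ∀ g : G, conjSub g A ≤ (P : Subgroup G) →
      ∃ h ∈ normalizer (Q : Set G), h⁻¹ * g ∈ centralizer (A : Set G))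
    {R : Subgroup G} (hR : CR P R) : Q ≤ R := by
  set C := centralizer (R : Set G) with hC
  set N := normalizer (R : Set G) with hN
  have hCN : C ≤ N := CfsgLib.Fusion.centralizer_le_normalizer' R
  have hCn : N ≤ normalizer (C : Set G) := CfsgLib.Fusion.normalizer_le_normalizer_centralizer R
  set RC := R ⊔ C with hRC
  set Y := (Q ⊓ N) ⊔ RC with hY
  have hRCN : RC ≤ N := sup_le le_normalizer hCN
  have hfix : ∀ n ∈ N, conjSub n RC = RC := by
    intro n hn
    rw [hRC, conjSub, Subgroup.map_sup]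
    congr 1
    · exact CfsgLib.Fusion.conjSub_eq_iff_mem_normalizer.2 hn
    · exact CfsgLib.Fusion.conjSub_eq_iff_mem_normalizer.2 (hCn hn)
  have hinv : ∀ n ∈ N, Y.map (MulAut.conj n).toMonoidHom = Y := by
    intro n hn
    obtain ⟨h, hh, hc⟩ := hctrl R hR.1 n (by
      rw [CfsgLib.Fusion.conjSub_eq_iff_mem_normalizer.2 hn]; exact hR.1)
    have hhN : h ∈ N := by
      have : n * (h⁻¹ * n)⁻¹ ∈ N := mul_mem hn (inv_mem (hCN hc))
      simpa using this
    have h1 : conjSub h Y = Y := by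
      rw [hY, conjSub, Subgroup.map_sup, Subgroup.map_inf _ _ _ (MulAut.conj h).injective]
      congr 1
      · congr 1
        · exact CfsgLib.Fusion.conjSub_eq_iff_mem_normalizer.2 hh
        · exact CfsgLib.Fusion.conjSub_eq_iff_mem_normalizer.2 (le_normalizer hhN)
      · exact hfix h hhN
    have h2 : conjSub (h⁻¹ * n) Y = Y :=
      CfsgLib.Fusion.conjSub_eq_iff_mem_normalizer.2 (le_normalizer (show h⁻¹ * n ∈ Y from mem_sup_right (mem_sup_right hc)))
    show conjSub n Y = Y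
    rw [show n = h * (h⁻¹ * n) by group, ← CfsgLib.Fusion.conjSub_conjSub, h2, h1]
  have hpow : ∃ k : ℕ, RC.relIndex Y = p ^ k := by
    obtain ⟨k, hk⟩ := (P.2.to_le ((inf_le_left : Q ⊓ N ≤ Q).trans hQP)).exists_card_eq
    have h1 : Nat.card Y ∣ Nat.card ↥RC * Nat.card ↥(Q ⊓ N) := by
      rw [hY, sup_comm]
      refine CfsgLib.Solvable.card_sup_dvd_of_le_normalizer ?_
      intro x hx
      exact CfsgLib.Fusion.conjSub_eq_iff_mem_normalizer.1 (hfix x hx.2)
    have h2 : Nat.card RC * RC.relIndex Y = Nat.card Y := by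
      rw [← Nat.card_congr (subgroupOfEquivOfLe (le_sup_right : RC ≤ Y)).toEquiv]
      exact card_mul_index _
    rw [← h2, hk] at h1
    obtain ⟨j, -, hj⟩ := (Nat.dvd_prime_pow (Fact.out : p.Prime)).1 (Nat.dvd_of_mul_dvd_mul_left Nat.card_pos h1)
    exact ⟨j, hj⟩
  have hYeq := hR.2.2 Y (sup_le inf_le_right hRCN) hinv le_sup_right hpow
  refine CfsgLib.Fusion.le_of_normalizer_inter_le P.2 hR.1 hQP hQn fun x hx hxn => ?_
  have hx' : x ∈ ((R ⊔ C : Subgroup G) : Set G) := hYeq.le (mem_sup_left ⟨hx, hxn⟩)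
  rw [coe_mul_of_right_le_normalizer_left R C hCN] at hx'
  obtain ⟨r, hr, c, hc, hrc⟩ := hx'
  change r * c = x at hrc
  have hcP : c ∈ (P : Subgroup G) := by
    rw [show c = r⁻¹ * x by rw [← hrc, inv_mul_cancel_left]]
    exact mul_mem (inv_mem (hR.1 hr)) (hQP hx)
  rw [← hrc]
  exact mul_mem hr (inf_centralizer_le hR ⟨hcP, hc⟩)

theorem cr_of_good {D : Subgroup G} (hD : D ∈ AlperinGoldschmidtCore.good P) : CR P D := by
  classical
  obtain ⟨hDP, hfull, hC1, hdp⟩ := hD
  set N := normalizer (D : Set G) with hN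
  set C := centralizer (D : Set G) with hC
  set O := (pPrimeCore p ↥N).map N.subtype with hO
  set M := (pPrimePCore p ↥N).map N.subtype with hM
  obtain ⟨hOM, hDM, hcomm, hinf, hsup⟩ := hdp
  have hOC : O ≤ C := fun o ho => mem_centralizer_iff.2 fun d hd => (hcomm o ho d hd).symm
  have hPC : (P : Subgroup G) ⊓ C ≤ D := by
    rintro x ⟨hxP, hxC⟩
    have hx' : x ∈ ((O ⊔ D : Subgroup G) : Set G) := hsup.ge (hC1 hxC)
    rw [coe_mul_of_left_le_normalizer_right O D (hOM.trans (map_subtype_le _))] at hx'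
    obtain ⟨o, ho, d, hd, rfl⟩ := hx'
    have hoP : o ∈ (P : Subgroup G) := by
      simpa using (P : Subgroup G).mul_mem hxP ((P : Subgroup G).inv_mem (hDP hd))
    obtain ⟨k, hk⟩ := IsPGroup.iff_orderOf.1 P.2 ⟨o, hoP⟩
    rw [orderOf_mk] at hk
    have h1 : orderOf o ∣ Nat.card O := by
      rw [← orderOf_mk o ho]; exact orderOf_dvd_natCard _
    rw [card_map_of_injective N.subtype_injective] at h1
    have ho1 : o = 1 := orderOf_eq_one_iff.1 (Nat.eq_one_of_dvd_coprimes
      (Nat.Coprime.pow_left k (CfsgLib.Cores.coprime_card_pPrimeCore p).symm) (dvd_of_eq hk) h1)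
    show o * d ∈ D
    rw [ho1, one_mul]; exact hd
  refine ⟨hDP, ?_, fun X hXN hXinv hDCX hpow => le_antisymm ?_ hDCX⟩
  · haveI : (C.subgroupOf N).Normal := (normal_subgroupOf_iff_le_normalizer (CfsgLib.Fusion.centralizer_le_normalizer' D)).2
      (CfsgLib.Fusion.normalizer_le_normalizer_centralizer D)
    refine ⟨IsPGroup.toSylow (P := ((P : Subgroup G) ⊓ C).subgroupOf C) (P.2.to_le (inf_le_left : (P : Subgroup G) ⊓ C ≤ _)).comap_subtype ?_, ?_⟩
    · exact CfsgLib.Fusion.not_dvd_relIndex_inf (P.2.to_le inf_le_left) inf_le_right hfull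
        (CfsgLib.Fusion.centralizer_le_normalizer' D) (CfsgLib.Fusion.normalizer_le_normalizer_centralizer D) ∘
          fun h => h.trans (relIndex_dvd_of_le_left _ (le_inf (inf_le_left.trans inf_le_left) inf_le_right))
    · show (((P : Subgroup G) ⊓ C).subgroupOf C).map C.subtype = D ⊓ C
      rw [subgroupOf_map_subtype]
      exact le_antisymm (le_inf (inf_le_left.trans hPC) inf_le_right)
        (le_inf (le_inf (inf_le_left.trans hDP) inf_le_right) inf_le_right)
  · have hDC : D ⊔ C = M := le_antisymm (sup_le hDM hC1) (hsup.ge.trans (sup_le (hOC.trans le_sup_right) le_sup_left))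
    rw [hDC] at hDCX hpow ⊢
    haveI hXn : (X.subgroupOf N).Normal := (normal_subgroupOf_iff_le_normalizer hXN).2 fun n hn =>
      CfsgLib.Fusion.conjSub_eq_iff_mem_normalizer.1 (hXinv n hn)
    set O' := pPrimeCore p ↥N with hO'
    haveI : ((pPrimePCore p ↥N).subgroupOf (X.subgroupOf N)).Normal := by
      haveI : (pPrimePCore p ↥N).Normal := by rw [pPrimePCore]; infer_instance
      infer_instance
    have hle : (X.subgroupOf N).map (QuotientGroup.mk' O') ≤ pCore p (↥N ⧸ O') := by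
      refine CfsgLib.Cores.le_pCore (hn := hXn.map _ (QuotientGroup.mk'_surjective O')) ?_
      rintro ⟨y, x, hx, rfl⟩
      obtain ⟨k, hk⟩ := hpow
      have h2 : x ^ p ^ k ∈ pPrimePCore p ↥N := by
        have h3 := Subgroup.pow_index_mem ((pPrimePCore p ↥N).subgroupOf (X.subgroupOf N)) (⟨x, hx⟩ : ↥(X.subgroupOf N))
        have h4 : ((pPrimePCore p ↥N).subgroupOf (X.subgroupOf N)).index = p ^ k := by
          show (pPrimePCore p ↥N).relIndex (X.subgroupOf N) = p ^ k
          rw [← relIndex_map_map_of_injective _ _ N.subtype_injective, subgroupOf_map_subtype,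
            inf_eq_left.2 hXN]
          exact hk
        rw [h4] at h3
        exact h3
      obtain ⟨j, hj⟩ := CfsgLib.Cores.isPGroup_pCore p (⟨QuotientGroup.mk' O' (x ^ p ^ k), h2⟩ : pCore p (↥N ⧸ O'))
      refine ⟨k + j, Subtype.ext ?_⟩
      have := congrArg Subtype.val hj
      simp only [SubmonoidClass.coe_pow, OneMemClass.coe_one] at this ⊢
      rw [pow_add, pow_mul, ← map_pow]
      exact this
    intro x hx
    exact ⟨⟨x, hXN hx⟩, hle ⟨⟨x, hXN hx⟩, hx, rfl⟩, rfl⟩

/-- A controlling subgroup with small centralizer is centric radical when it is the largest controlling one. -/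
theorem exists_least (hp : p ≠ 2) (hqd : ¬ Involves ↥(Cfsg.qd p) G) :
    ∃ Q : Subgroup G, CR P Q ∧ (∀ R, CR P R → Q ≤ R) ∧
      (P : Subgroup G) ≤ normalizer (Q : Set G) ∧
      ∀ A ≤ (P : Subgroup G), ∀ g : G, conjSub g A ≤ (P : Subgroup G) →
        ∃ h ∈ normalizer (Q : Set G), h⁻¹ * g ∈ centralizer (A : Set G) := by
  classical
  set F := groupFusionSystem (P : Subgroup G) with hF
  have hsat : F.IsSaturated p := CfsgLib.Fusion.isSaturated_groupFusion P
  set Q := F.core with hQ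
  have hQn : F.IsNormal Q := CfsgLib.Fusion.isNormal_core
  have hcQ : (P : Subgroup G) ⊓ centralizer (Q : Set G) ≤ Q :=
    QdFreeConstrained.centralizerIn_core_le hp _ F rfl P.2 hsat
      ((CfsgLib.Transfer.isSectionFree_qd_iff P hp).2 hqd)
  have hQP : Q ≤ (P : Subgroup G) := hQn.1
  have hPQ : (P : Subgroup G) ≤ normalizer (Q : Set G) :=
    CfsgLib.Fusion.le_normalizer_of_stronglyClosed (CfsgLib.Fusion.stronglyClosed_of_isNormal hQn)
  have hctrl : ∀ A ≤ (P : Subgroup G), ∀ g : G, conjSub g A ≤ (P : Subgroup G) →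
      ∃ h ∈ normalizer (Q : Set G), h⁻¹ * g ∈ centralizer (A : Set G) := by
    intro A hA g hg
    obtain ⟨ψ, ⟨-, -, h, hh⟩, hψe, hψQ⟩ := hQn.2 A (conjHom A g)
      ⟨hA, fun x => hg ⟨x, x.2, rfl⟩, g, fun _ => rfl⟩
    refine ⟨h, CfsgLib.Fusion.mem_normalizer_of_forall fun q hq => ?_, mem_centralizer_iff.2 fun a ha => ?_⟩
    · have h1 : ψ ⟨q, mem_sup_right hq⟩ ∈ Q := hψQ.le ⟨⟨q, mem_sup_right hq⟩, hq, rfl⟩
      rwa [hh] at h1
    · have h1 := hψe ⟨a, ha⟩
      rw [hh] at h1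
      change h * a * h⁻¹ = g * a * g⁻¹ at h1
      calc a * (h⁻¹ * g) = h⁻¹ * (h * a * h⁻¹) * g := by group
        _ = h⁻¹ * (g * a * g⁻¹) * g := by rw [h1]
        _ = h⁻¹ * g * a := by group
  refine ⟨Q, ⟨hQP, ?_, fun X hXN hXinv hQCX hpow => ?_⟩, fun R hR => le_of_cr hQP hPQ hctrl hR, hPQ, hctrl⟩
  all_goals set C := centralizer (Q : Set G) with hC
  · refine ⟨IsPGroup.toSylow (P := ((P : Subgroup G) ⊓ C).subgroupOf C) (P.2.to_le (inf_le_left : (P : Subgroup G) ⊓ C ≤ _)).comap_subtype ?_, ?_⟩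
    · exact CfsgLib.Fusion.not_dvd_relIndex_inf P.2 hPQ
        (fun h => P.not_dvd_index (h.trans (Dvd.intro _ (relIndex_mul_index hPQ))))
        (CfsgLib.Fusion.centralizer_le_normalizer' Q) (CfsgLib.Fusion.normalizer_le_normalizer_centralizer Q)
    · show (((P : Subgroup G) ⊓ C).subgroupOf C).map C.subtype = Q ⊓ C
      rw [subgroupOf_map_subtype]
      exact le_antisymm (le_inf (inf_le_left.trans hcQ) inf_le_right)
        (le_inf (le_inf (inf_le_left.trans hQP) inf_le_right) inf_le_right)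
  set T := (P : Subgroup G) ⊓ X with hT
  -- the part of `C(Q)` of order prime to `p`
  set K := (pPrimeCore p ↥C).map C.subtype with hK
  have hKinv : ∀ n ∈ normalizer (Q : Set G), ∀ x ∈ K, n * x * n⁻¹ ∈ K := by
    rintro n hn _ ⟨y, hy, rfl⟩
    have hCn := CfsgLib.Fusion.normalizer_le_normalizer_centralizer Q hn
    have h1 := Subgroup.characteristic_iff_map_eq.1 (CfsgLib.Cores.pPrimeCore_characteristic (G := ↥C) p)
      (C.normalizerMonoidHom ⟨n, hCn⟩)
    exact ⟨C.normalizerMonoidHom ⟨n, hCn⟩ y, h1.le ⟨y, hy, rfl⟩, rfl⟩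
  have hCK : ∀ c ∈ C, ∃ k : ℕ, c ^ p ^ k ∈ K := by
    intro c hc
    let S : Sylow p ↥C := IsPGroup.toSylow (P := ((P : Subgroup G) ⊓ C).subgroupOf C) (P.2.to_le (inf_le_left : (P : Subgroup G) ⊓ C ≤ _)).comap_subtype
      (CfsgLib.Fusion.not_dvd_relIndex_inf P.2 hPQ
        (fun h => P.not_dvd_index (h.trans (Dvd.intro _ (relIndex_mul_index hPQ))))
        (CfsgLib.Fusion.centralizer_le_normalizer' Q) (CfsgLib.Fusion.normalizer_le_normalizer_centralizer Q))
    have hcen : ∀ z ∈ (S : Subgroup ↥C), ∀ y : ↥C, z * y = y * z := fun z hz y => by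
      have hz : z ∈ ((P : Subgroup G) ⊓ C).subgroupOf C := hz
      exact Subtype.ext (mem_centralizer_iff.1 y.2 (z : G) (hcQ hz))
    obtain ⟨S', L, hL, hcompl⟩ := CfsgLib.Transfer.hasNormalPComplement_of_normalizer_le_centralizer S
      (fun y _ => mem_centralizer_iff.2 fun z hz => hcen z hz y)
    have hLO : L ≤ pPrimeCore p ↥C := CfsgLib.Cores.le_pPrimeCore_of_not_dvd (hp := inferInstance) fun h =>
      S'.not_dvd_index (by rw [hcompl.index_eq_card]; exact h)
    obtain ⟨k, hk⟩ := S'.2.exists_card_eq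
    refine ⟨k, ⟨(⟨c, hc⟩ : ↥C) ^ p ^ k, hLO ?_, rfl⟩⟩
    rw [← hk, ← hcompl.symm.index_eq_card]
    haveI := hL
    exact Subgroup.pow_index_mem L _
  have hXn : ∀ n ∈ normalizer (Q : Set G), n ∈ normalizer (X : Set G) := fun n hn =>
    CfsgLib.Fusion.conjSub_eq_iff_mem_normalizer.1 (hXinv n hn)
  have hTP : T ≤ (P : Subgroup G) := inf_le_left
  have hTn : (P : Subgroup G) ≤ normalizer (T : Set G) := fun x hx =>
    CfsgLib.Fusion.mem_normalizer_of_forall fun t ht =>
      ⟨(P : Subgroup G).mul_mem ((P : Subgroup G).mul_mem hx ht.1) ((P : Subgroup G).inv_mem hx), (mem_normalizer_iff.1 (hXn x (hPQ hx)) t).1 ht.2⟩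
  have hgood : ∀ D ∈ AlperinGoldschmidtCore.good P, normalizer (D : Set G) ≤ normalizer (T : Set G) := by
    intro D hD
    have hQD : Q ≤ D := le_of_cr hQP hPQ hctrl (cr_of_good hD)
    set N := normalizer (D : Set G) with hN
    have hNQ : N ≤ normalizer (Q : Set G) := by
      intro n hn
      obtain ⟨h, hh, hc⟩ := hctrl D hD.1 n (by
        rw [CfsgLib.Fusion.conjSub_eq_iff_mem_normalizer.2 hn]; exact hD.1)
      rw [show n = h * (h⁻¹ * n) by group]
      exact mul_mem hh (CfsgLib.Fusion.centralizer_le_normalizer' Q (centralizer_le hQD hc))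
    set O' := pPrimeCore p ↥N with hO'
    haveI hXNn : (X.subgroupOf N).Normal := ⟨fun x hx n =>
      (mem_normalizer_iff.1 (hXn n (hNQ n.2)) x).1 hx⟩
    have hKO : K.subgroupOf N ≤ O' := by
      haveI : (K.subgroupOf N).Normal := ⟨fun x hx n => hKinv n (hNQ n.2) x hx⟩
      refine CfsgLib.Cores.le_pPrimeCore ?_
      refine Nat.Coprime.coprime_dvd_left ?_ (CfsgLib.Cores.coprime_card_pPrimeCore (G := ↥C) p)
      rw [← card_map_of_injective C.subtype_injective, ← hK]
      exact card_comap_dvd_of_injective K N.subtype N.subtype_injective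
    have hle : (X.subgroupOf N).map (QuotientGroup.mk' O') ≤ pCore p (↥N ⧸ O') := by
      refine CfsgLib.Cores.le_pCore (hn := hXNn.map _ (QuotientGroup.mk'_surjective O')) ?_
      rintro ⟨y, x, hx, rfl⟩
      obtain ⟨k, hk⟩ := hpow
      haveI : ((Q ⊔ C).subgroupOf X).Normal := (normal_subgroupOf_iff_le_normalizer hQCX).2 fun a ha => by
        refine CfsgLib.Fusion.conjSub_eq_iff_mem_normalizer.1 ?_
        rw [conjSub, Subgroup.map_sup]
        congr 1
        · exact CfsgLib.Fusion.conjSub_eq_iff_mem_normalizer.2 (hXN ha)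
        · exact CfsgLib.Fusion.conjSub_eq_iff_mem_normalizer.2
            (CfsgLib.Fusion.normalizer_le_normalizer_centralizer Q (hXN ha))
      have h3 : ((x : G)) ^ p ^ k ∈ Q ⊔ C := by
        have h4 := Subgroup.pow_index_mem ((Q ⊔ C).subgroupOf X) (⟨(x : G), hx⟩ : ↥X)
        rw [show ((Q ⊔ C).subgroupOf X).index = p ^ k from hk] at h4
        exact h4
      have h5 : ((x : G)) ^ p ^ k ∈ ((Q ⊔ C : Subgroup G) : Set G) := h3
      rw [coe_mul_of_right_le_normalizer_left Q C (CfsgLib.Fusion.centralizer_le_normalizer' Q)] at h5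
      obtain ⟨q, hq, c, hc, hqc⟩ := h5
      change q * c = _ at hqc
      obtain ⟨i, hi⟩ := hCK c hc
      obtain ⟨j, hj⟩ := P.2.to_le hQP ⟨q, hq⟩
      have hq1 : q ^ p ^ j = 1 := congrArg Subtype.val hj
      have hcq : Commute q c := mem_centralizer_iff.1 hc q hq
      refine ⟨k + (j + i), Subtype.ext ?_⟩
      simp only [SubmonoidClass.coe_pow, OneMemClass.coe_one]
      rw [← map_pow]
      refine (QuotientGroup.eq_one_iff (N := O') _).2 (hKO ?_)
      show ((x ^ p ^ (k + (j + i)) : ↥N) : G) ∈ K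
      rw [SubmonoidClass.coe_pow, pow_add p k, pow_mul, ← hqc, hcq.mul_pow,
        pow_add p j i, pow_mul q, hq1, one_pow, one_mul, mul_comm, pow_mul]
      exact K.pow_mem hi _
    have hTD : T ≤ D := by
      refine CfsgLib.Fusion.le_of_normalizer_inter_le P.2 hD.1 hTP hTn fun x hx hxn => ?_
      have h1 : x ∈ (pPrimePCore p ↥N).map N.subtype := ⟨⟨x, hxn⟩, hle ⟨⟨x, hxn⟩, hx.2, rfl⟩, rfl⟩
      have hDP := hD.1
      obtain ⟨-, -, -, hOM, -, hcomm, -, hsup⟩ := hD
      set O := (pPrimeCore p ↥N).map N.subtype with hO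
      have hx' : x ∈ ((O ⊔ D : Subgroup G) : Set G) := hsup.ge h1
      rw [coe_mul_of_left_le_normalizer_right O D (map_subtype_le _)] at hx'
      obtain ⟨o, ho, d, hd, rfl⟩ := hx'
      have hdo : Commute o d := hcomm o ho d hd
      have hoP : o ∈ (P : Subgroup G) := by
        simpa using (P : Subgroup G).mul_mem hx.1 ((P : Subgroup G).inv_mem (hDP hd))
      obtain ⟨i, hi⟩ := IsPGroup.iff_orderOf.1 P.2 ⟨o, hoP⟩
      rw [orderOf_mk] at hi
      have h2 : orderOf o ∣ Nat.card O := by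
        rw [← orderOf_mk o ho]; exact orderOf_dvd_natCard _
      rw [card_map_of_injective N.subtype_injective] at h2
      have ho1 : o = 1 := orderOf_eq_one_iff.1 (Nat.eq_one_of_dvd_coprimes
        (Nat.Coprime.pow_left i (CfsgLib.Cores.coprime_card_pPrimeCore p).symm) (dvd_of_eq hi) h2)
      show o * d ∈ D
      rw [ho1, one_mul]; exact hd
    intro n hn
    refine CfsgLib.Fusion.mem_normalizer_of_forall fun t ht => ?_
    have h1 : n * t * n⁻¹ ∈ D := (mem_normalizer_iff.1 hn t).1 (hTD ht)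
    exact ⟨hD.1 h1, (mem_normalizer_iff.1 (hXn n (hNQ hn)) t).1 ht.2⟩
  have hTn' : F.IsNormal T := by
    refine ⟨hTP, ?_⟩
    rintro A φ ⟨hA, hφP, g, hg⟩
    obtain ⟨n, D, x, c, -, hD, hx, -, -, hc, hgx⟩ :=
      AlperinGoldschmidtCore.conjugation P (A := (A : Set G)) (g := g⁻¹) hA (by
        rintro _ ⟨a, ha, rfl⟩
        simp only [inv_inv]
        rw [show g * a * g⁻¹ = φ ⟨a, ha⟩ from (hg ⟨a, ha⟩).symm]
        exact hφP _)
    have hprod : (List.ofFn x).prod ∈ normalizer (T : Set G) := by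
      refine list_prod_mem fun y hy => ?_
      obtain ⟨i, rfl⟩ := List.mem_ofFn.1 hy
      exact hgood _ (hD i) (hx i)
    set h := ((List.ofFn x).prod)⁻¹ with hh
    have hhT : h ∈ normalizer (T : Set G) := inv_mem hprod
    have heq : ∀ a ∈ A, h * a * h⁻¹ = g * a * g⁻¹ := by
      intro a ha
      have hg' : g = h * c⁻¹ := by rw [hh, ← mul_inv_rev, ← hgx, inv_inv]
      have hca : a * c⁻¹ = c⁻¹ * a := mem_centralizer_iff.1 (inv_mem hc) a ha
      rw [hg', mul_assoc h c⁻¹ a, ← hca]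
      group
    have hval : ∀ y ∈ A ⊔ T, h * y * h⁻¹ ∈ (P : Subgroup G) := by
      have : A ⊔ T ≤ (P : Subgroup G).comap (MulAut.conj h).toMonoidHom := sup_le
        (fun a ha => by
          show h * a * h⁻¹ ∈ (P : Subgroup G)
          rw [heq a ha, show g * a * g⁻¹ = φ ⟨a, ha⟩ from (hg ⟨a, ha⟩).symm]
          exact hφP _)
        (fun t ht => hTP ((mem_normalizer_iff.1 hhT t).1 ht))
      exact fun y hy => this hy
    refine ⟨conjHom (A ⊔ T) h, ⟨sup_le hA hTP, fun y => hval y y.2, h, fun _ => rfl⟩, fun a => ?_, ?_⟩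
    · show h * (a : G) * h⁻¹ = φ a
      rw [hg a, heq a a.2]
    · exact (CfsgLib.Fusion.range_comp_inclusion (conjHom (A ⊔ T) h) le_sup_right).symm.trans
        ((CfsgLib.Fusion.range_conjHom T h).trans (CfsgLib.Fusion.conjSub_eq_iff_mem_normalizer.2 hhT))
  have hTQ : T ≤ Q := le_sSup hTn'
  -- `X = QC` as `T` is a Sylow subgroup of `X`
  refine le_antisymm ?_ hQCX
  obtain ⟨k, hk⟩ := hpow
  have hTi : ¬ p ∣ T.relIndex X := CfsgLib.Fusion.not_dvd_relIndex_inf P.2 hPQ
    (fun h => P.not_dvd_index (h.trans (Dvd.intro _ (relIndex_mul_index hPQ)))) hXN hXn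
  rw [← relIndex_eq_one, hk]
  rcases Nat.eq_zero_or_pos k with h0 | h0
  · rw [h0, pow_zero]
  · exfalso
    refine hTi ((dvd_pow_self p h0.ne').trans ?_)
    rw [← hk]
    exact relIndex_dvd_of_le_left _ (hTQ.trans le_sup_left)

end CfsgLib.Techniques.CentricRadicalLeast
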