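import Cfsg.Agent.Lib.Techniques.KInfCritical
import Mathlib.GroupTheory.PGroup

/-!
Nilpotency degree on the chief factors below a `p`-group from those below a critical subgroup, and
irreducibility of chief factors for `p`-groups of operators.
-/

namespace CfsgLib.Techniques.HomChief

open Subgroup Cfsg CfsgLib.Techniques CfsgLib.Techniques.KInfCritical
open scoped commutatorElement

variable {G : Type*} [Group G]

theorem f_conj (g x : G) (k : ℕ) :
    (fun x => ⁅x, g⁆)^[k] (g⁻¹ * x * g) = g⁻¹ * (fun x => ⁅x, g⁆)^[k] x * g := by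
  induction k with
  | zero => rfl
  | succ k ih =>
    simp only [Function.iterate_succ_apply']
    rw [ih]
    simp only [commutatorElement_def]; group

theorem iter_one (g : G) (k : ℕ) : (fun x => ⁅x, g⁆)^[k] 1 = 1 := by
  induction k with
  | zero => rfl
  | succ k ih => rw [Function.iterate_succ_apply', ih, commutatorElement_one_left]

theorem iter_mem_of_le {V : Subgroup G} [V.Normal] {g x : G} {i n : ℕ}
    (h : (fun x => ⁅x, g⁆)^[i] x ∈ V) (hin : i ≤ n) : (fun x => ⁅x, g⁆)^[n] x ∈ V := by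
  obtain ⟨d, rfl⟩ := Nat.exists_eq_add_of_le hin
  rw [Nat.add_comm, Function.iterate_add_apply]
  exact iter_mem (Chief.mem_normalizer_of_normal V g) h d

/-- A normal subgroup whose `p'`-elements act trivially on a `p`-chief factor acts trivially. -/
theorem fixed_of_coprime [Finite G] {p : ℕ} [hp : Fact p.Prime] {U V : Subgroup G}
    (h : IsChiefFactor U V) (hU : IsPGroup p U) {R : Subgroup G} [R.Normal]
    (hR : ∀ r ∈ R, (orderOf r).Coprime p → ∀ u ∈ U, ⁅u, r⁆ ∈ V) :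
    ∀ u ∈ U, ∀ r ∈ R, ⁅u, r⁆ ∈ V := by
  obtain ⟨hlt, hUn, hVn, hch⟩ := h
  let π := QuotientGroup.mk' V
  have hUbn : (U.map π).Normal := hUn.map π (QuotientGroup.mk'_surjective V)
  let φ : G →* MulAut ↥(U.map π) := (MulAut.conjNormal (H := U.map π)).comp π
  have hΓ : IsPGroup p (R.map φ) := Chief.isPGroup_map_of_coprime φ fun r hr hc => by
    ext ⟨_, u, hu, rfl⟩
    show π r * π u * (π r)⁻¹ = π u
    have h1 : π ⁅u, r⁆ = 1 := (QuotientGroup.eq_one_iff _).2 (hR r hr hc u hu)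
    rw [map_commutatorElement, commutatorElement_eq_one_iff_mul_comm] at h1
    rw [← h1, mul_inv_cancel_right]
  let W : Subgroup G :=
    { carrier := {u | u ∈ U ∧ ∀ r ∈ R, ⁅u, r⁆ ∈ V}
      one_mem' := ⟨one_mem U, fun r _ => by simp⟩
      mul_mem' := fun {x y} hx hy => ⟨mul_mem hx.1 hy.1, fun r hr => by
        rw [Chief.elt_mul_left]
        exact mul_mem (hVn.conj_mem _ (hy.2 r hr) x) (hx.2 r hr)⟩
      inv_mem' := fun {x} hx => ⟨inv_mem hx.1, fun r hr => by
        have := hVn.conj_mem _ (inv_mem (hx.2 r hr)) x⁻¹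
        rwa [show x⁻¹ * ⁅x, r⁆⁻¹ * x⁻¹⁻¹ = ⁅x⁻¹, r⁆ by
          simp only [commutatorElement_def]; group] at this⟩ }
  have hWn : W.Normal := ⟨fun u hu g => ⟨hUn.conj_mem u hu.1 g, fun r hr => by
    have hr' : g⁻¹ * r * g ∈ R := by simpa using (inferInstance : R.Normal).conj_mem r hr g⁻¹
    have := hVn.conj_mem _ (hu.2 _ hr') g
    rwa [Chief.elt_conj, show g * (g⁻¹ * r * g) * g⁻¹ = r by group] at this⟩⟩
  have hVW : V ≤ W := fun v hv => ⟨hlt.le hv, fun r _ =>
    comm_elt_mem (Chief.mem_normalizer_of_normal V r) hv⟩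
  rcases hch W hWn hVW (fun x hx => hx.1) with h | h
  · exfalso
    have hne : U.map π ≠ ⊥ := by
      rw [Ne, Subgroup.map_eq_bot_iff, QuotientGroup.ker_mk']
      exact hlt.not_ge
    have hdvd : p ∣ Nat.card ↥(U.map π) := by
      obtain ⟨n, hn⟩ := IsPGroup.iff_card.1 (hU.map π)
      rcases n with _ | n
      · exact absurd (card_eq_one.1 (by simpa using hn)) hne
      · rw [hn]; exact dvd_pow_self p (by omega)
    have h1 := hΓ.card_modEq_card_fixedPoints (α := ↥(U.map π))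
    have hfix : (1 : ↥(U.map π)) ∈ MulAction.fixedPoints (R.map φ) ↥(U.map π) := fun γ =>
      map_one (γ : MulAut ↥(U.map π))
    obtain ⟨⟨_, u, hu, rfl⟩, hxfix, hx1⟩ :=
      hΓ.exists_fixed_point_of_prime_dvd_card_of_fixed_point _ hdvd hfix
    refine hx1 (Subtype.ext (?_ : (1 : G ⧸ V) = π u))
    symm
    refine (QuotientGroup.eq_one_iff u).2 (h.le ⟨hu, fun r hr => ?_⟩)
    have h2 := congrArg Subtype.val (hxfix ⟨φ r, mem_map_of_mem φ hr⟩)
    have h3 : π r * π u * (π r)⁻¹ = π u := h2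
    rw [← QuotientGroup.eq_one_iff, ← QuotientGroup.mk'_apply, map_commutatorElement,
      commutatorElement_eq_one_iff_mul_comm]
    calc π u * π r = π r * π u * (π r)⁻¹ * π r := by rw [h3]
      _ = π r * π u := by group
  · exact fun u hu r hr => (h.ge hu).2 r hr

theorem degree_add [Finite G] {p : ℕ} [Fact p.Prime] (P : Subgroup G) [P.Normal]
    (hP : IsPGroup p ↥P) (Q : Subgroup G) (hQP : Q ≤ P) (hQn : Q.Normal)
    (hQ3 : ⁅P, Q⁆ ≤ Q ⊓ centralizer (Q : Set G))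
    (hQ4 : P ⊓ centralizer (Q : Set G) = Q ⊓ centralizer (Q : Set G)) (g : G) (i j : ℕ)
    (hi : 1 ≤ i)
    (hQi : ∀ U V : Subgroup G, IsChiefFactor U V → U ≤ Q → iterCommutator U (zpowers g) i ≤ V)
    (hZj : ∀ U V : Subgroup G, IsChiefFactor U V → U ≤ Q ⊓ centralizer (Q : Set G) →
      iterCommutator U (zpowers g) j ≤ V) :
    ∀ U V : Subgroup G, IsChiefFactor U V → U ≤ P →
      iterCommutator U (zpowers g) (i + j - 1) ≤ V := by
  intro X Y hXY hXP
  set Z := Q ⊓ centralizer (Q : Set G)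
  have hZn : Z.Normal := inferInstance
  obtain ⟨hlt, hXn, hYn, hch⟩ := hXY
  have hXX := Chief.chief_comm ⟨hlt, hXn, hYn, hch⟩ (hP.to_le hXP)
  refine (Chief.iter_le_iff_normal hlt.le hXX g _).2 ?_
  have reduce : ∀ X0 : Subgroup G, X ≤ Y ⊔ X0 →
      (∀ x ∈ X0, (fun x => ⁅x, g⁆)^[i + j - 1] x ∈ Y) →
      ∀ x ∈ X, (fun x => ⁅x, g⁆)^[i + j - 1] x ∈ Y := by
    intro X0 hle h x hx
    obtain ⟨y, hy, x0, hx0, rfl⟩ := mem_sup_of_normal_left.1 (hle hx)
    rw [mem_iff_mk, iter_congr g _ (show QuotientGroup.mk' Y (y * x0) = QuotientGroup.mk' Y x0 by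
      rw [map_mul, mem_iff_mk.1 hy, one_mul])]
    exact mem_iff_mk.1 (h x0 hx0)
  by_cases hXZ : X ⊓ Z ≤ Y
  · obtain ⟨X0, -, hX0⟩ := Finite.exists_le_minimal
      (p := fun N : Subgroup G => N.Normal ∧ N ≤ X ∧ X ≤ Y ⊔ N) (a := X) ⟨hXn, le_rfl, le_sup_right⟩
    obtain ⟨hX0n, hX0X, hX0sup⟩ := hX0.prop
    refine reduce X0 hX0sup ?_
    have hsmall : ∀ N : Subgroup G, N.Normal → N ≤ X0 → N ≠ X0 → N ≤ Y := by
      intro N hN hle hne
      rcases hch (Y ⊔ N) inferInstance le_sup_left (sup_le hlt.le (hle.trans hX0X)) with h | h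
      · exact le_sup_right.trans h.le
      · exact absurd (hX0.eq_of_le ⟨hN, hle.trans hX0X, h.ge⟩ hle) hne
    have hcomm : ⁅Q, X0⁆ ≠ ⊥ := by
      intro h0
      have h1 : X0 ≤ Z := by
        rw [← hQ4]
        refine le_inf (hX0X.trans hXP) ?_
        exact commutator_eq_bot_iff_le_centralizer.1 (by rw [commutator_comm]; exact h0)
      have h2 : X ≤ Y := hX0sup.trans (sup_le le_rfl ((le_inf hX0X h1).trans hXZ))
      exact hlt.not_ge h2
    obtain ⟨Qa, -, hQa⟩ := Finite.exists_le_minimal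
      (p := fun N : Subgroup G => N.Normal ∧ N ≤ Q ∧ ⁅N, X0⁆ ≠ ⊥) (a := Q) ⟨hQn, le_rfl, hcomm⟩
    obtain ⟨hQan, hQaQ, hQane⟩ := hQa.prop
    obtain ⟨Qb, -, hQab⟩ := Chief.exists_chief_top normal_bot hQan
      (bot_lt_iff_ne_bot.2 fun h => hQane (by rw [h, commutator_bot_left]))
    haveI := hQab.2.2.1
    have hQb : ⁅Qb, X0⁆ = ⊥ := by
      by_contra h
      exact hQab.1.ne (hQa.eq_of_le ⟨hQab.2.2.1, hQab.1.le.trans hQaQ, h⟩ hQab.1.le)
    obtain ⟨Zc, -, hZbc⟩ := Chief.exists_chief_top normal_bot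
      (inferInstance : (⁅Qa, X0⁆).Normal) (bot_lt_iff_ne_bot.2 hQane)
    haveI := hZbc.2.2.1
    set Zb := ⁅Qa, X0⁆
    have hZbZ : Zb ≤ Z := by
      refine le_trans ?_ hQ3
      rw [commutator_comm P Q]
      exact commutator_mono hQaQ (hX0X.trans hXP)
    have hZbP : IsPGroup p Zb := hP.to_le ((hZbZ.trans inf_le_left).trans hQP)
    have hZbb : ⁅Zb, Zb⁆ ≤ Zc := Chief.chief_comm hZbc hZbP
    have hZbPP : ⁅Zb, P⁆ ≤ Zc := Chief.commutator_le_of_chief hZbc hZbP hP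
    let π := QuotientGroup.mk' Zc
    have hmem : ∀ q ∈ Qa, ∀ x ∈ X0, ⁅q, x⁆ ∈ Zb := fun q hq x hx =>
      commutator_mem_commutator hq hx
    have bil_right : ∀ q ∈ Qa, ∀ x ∈ X0, ∀ y ∈ X0,
        π ⁅q, x * y⁆ = π ⁅q, x⁆ * π ⁅q, y⁆ := by
      intro q hq x hx y hy
      have h1 : π ⁅⁅q, y⁆, x⁆ = 1 := mem_iff_mk.1
        (hZbPP (commutator_mem_commutator (hmem q hq y hy) (hXP (hX0X hx))))
      rw [map_commutatorElement, commutatorElement_eq_one_iff_mul_comm] at h1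
      rw [Chief.elt_mul_right, map_mul, map_mul, map_mul, map_inv, ← h1, mul_inv_cancel_right]
    have bil_left : ∀ q ∈ Qa, ∀ q' ∈ Qa, ∀ x ∈ X0, ⁅q * q', x⁆ = ⁅q', x⁆ * ⁅q, x⁆ := by
      intro q hq q' hq' x hx
      rw [Chief.elt_mul_left,
        mem_centralizer_iff.1 (hZbZ (hmem q' hq' x hx)).2 q (hQaQ hq), mul_inv_cancel_right]
    have hqi : ∀ q ∈ Qa, (fun x => ⁅x, g⁆)^[i] q ∈ Qb :=
      (Chief.iter_le_iff_normal hQab.1.le (Chief.chief_comm hQab (hP.to_le (hQaQ.trans hQP))) g i).1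
        (hQi Qa Qb hQab hQaQ)
    have hzj : ∀ z ∈ Zb, (fun x => ⁅x, g⁆)^[j] z ∈ Zc :=
      (Chief.iter_le_iff_normal hZbc.1.le hZbb g j).1 (hZj Zb Zc hZbc hZbZ)
    have hgZb : g ∈ normalizer (Zb : Set G) := Chief.mem_normalizer_of_normal Zb g
    have key : ∀ n m k : ℕ, ∀ q ∈ Qa, ∀ x ∈ X0, (fun x => ⁅x, g⁆)^[k] q ∈ Qb →
        k + j ≤ n + m + 1 →
        (fun x => ⁅x, g⁆)^[m] ⁅q, (fun x => ⁅x, g⁆)^[n] x⁆ ∈ Zc := by
      intro n
      induction n with
      | zero =>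
        intro m k q hq x hx hk hle
        rcases k with _ | k
        · have : ⁅q, x⁆ = 1 := mem_bot.1 (hQb.le (commutator_mem_commutator hk hx))
          show (fun x => ⁅x, g⁆)^[m] ⁅q, x⁆ ∈ Zc
          rw [this, iter_one]; exact one_mem _
        · exact iter_mem_of_le (hzj _ (hmem q hq x hx)) (by omega)
      | succ n ih =>
        intro m k q hq x hx hk hle
        rw [Function.iterate_succ_apply']
        set y := (fun x => ⁅x, g⁆)^[n] x with hy
        have hyX : y ∈ X0 := iter_mem (Chief.mem_normalizer_of_normal X0 g) hx n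
        rcases k with _ | k
        · have : ⁅q, ⁅y, g⁆⁆ = 1 := mem_bot.1 (hQb.le (commutator_mem_commutator hk
            (comm_elt_mem (Chief.mem_normalizer_of_normal X0 g) hyX)))
          rw [this, iter_one]; exact one_mem _
        set q' := g⁻¹ * q * g with hq'
        have hq'Qa : q' ∈ Qa := by simpa [hq'] using hQan.conj_mem q hq g⁻¹
        have hfq : ⁅q', g⁆ ∈ Qa := comm_elt_mem (Chief.mem_normalizer_of_normal Qa g) hq'Qa
        have hA : (fun x => ⁅x, g⁆)^[m + 1] ⁅q', y⁆ ∈ Zc := ih (m + 1) (k + 1) q' hq'Qa x hx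
          (by rw [hq', f_conj]; simpa using hQab.2.2.1.conj_mem _ hk g⁻¹) (by omega)
        have hB : (fun x => ⁅x, g⁆)^[m] ⁅⁅q', g⁆, y⁆ ∈ Zc := ih m k ⁅q', g⁆ hfq x hx
          (by
            rw [← Function.iterate_succ_apply (fun x => ⁅x, g⁆) k q', hq', f_conj]
            simpa using hQab.2.2.1.conj_mem _ hk g⁻¹) (by omega)
        rw [Function.iterate_succ_apply] at hA
        have hid : π ⁅q, ⁅y, g⁆⁆ = π (⁅⁅q', g⁆, y⁆⁻¹ * ⁅⁅q', y⁆, g⁆) := by
          have hgy : g * y⁻¹ * g⁻¹ ∈ X0 := hX0n.conj_mem _ (inv_mem hyX) g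
          have hgy' : g * y * g⁻¹ ∈ X0 := hX0n.conj_mem _ hyX g
          have e1 : π ⁅q, ⁅y, g⁆⁆ = π ⁅q, y⁆ * π ⁅q, g * y⁻¹ * g⁻¹⁆ := by
            rw [show ⁅y, g⁆ = y * (g * y⁻¹ * g⁻¹) by simp only [commutatorElement_def]; group]
            exact bil_right q hq y hyX _ hgy
          have e2 : π ⁅q, g * y⁻¹ * g⁻¹⁆ = (π ⁅q, g * y * g⁻¹⁆)⁻¹ := by
            refine eq_inv_of_mul_eq_one_left ?_
            rw [← bil_right q hq _ hgy _ hgy',
              show g * y⁻¹ * g⁻¹ * (g * y * g⁻¹) = 1 by group, commutatorElement_one_right, map_one]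
          have e3 : ⁅⁅q', g⁆, y⁆ = ⁅q⁻¹, y⁆ * ⁅q', y⁆ := by
            rw [show ⁅q', g⁆ = q' * q⁻¹ by rw [hq']; simp only [commutatorElement_def]; group]
            exact bil_left q' hq'Qa _ (inv_mem hq) y hyX
          have e4 : ⁅q⁻¹, y⁆ = ⁅q, y⁆⁻¹ := by
            refine eq_inv_of_mul_eq_one_left ?_
            rw [← bil_left q hq _ (inv_mem hq) y hyX, mul_inv_cancel, commutatorElement_one_left]
          have e5 : ⁅⁅q', y⁆, g⁆ = ⁅q', y⁆ * ⁅q, g * y * g⁻¹⁆⁻¹ := by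
            rw [hq']; simp only [commutatorElement_def]; group
          rw [e1, e2, e3, e4, e5]
          have hab := mk_comm_mul (V := Zc) hZbb (hmem q hq y hyX) (hmem q' hq'Qa y hyX)
          simp only [map_mul, map_inv, π]
          generalize QuotientGroup.mk' Zc ⁅q, y⁆ = a at hab ⊢
          generalize QuotientGroup.mk' Zc ⁅q', y⁆ = b at hab ⊢
          generalize QuotientGroup.mk' Zc ⁅q, g * y * g⁻¹⁆ = c
          calc a * c⁻¹ = b⁻¹ * (b * a) * c⁻¹ := by group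
            _ = b⁻¹ * (a * b) * c⁻¹ := by rw [hab]
            _ = (a⁻¹ * b)⁻¹ * (b * c⁻¹) := by group
        rw [mem_iff_mk, iter_congr g m hid, iter_mul hgZb hZbb m (inv_mem (hmem _ hfq y hyX))
          (comm_elt_mem hgZb (hmem q' hq'Qa y hyX)), mem_iff_mk.1 hA, mul_one]
        have h2 := iter_mul (V := Zc) hgZb hZbb m (inv_mem (hmem _ hfq y hyX)) (hmem _ hfq y hyX)
        rw [inv_mul_cancel, iter_one, map_one, mem_iff_mk.1 hB, mul_one] at h2
        exact h2.symm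
    let K : Subgroup G :=
      { carrier := {x | x ∈ X0 ∧ ∀ q ∈ Qa, ⁅q, x⁆ ∈ Zc}
        one_mem' := ⟨one_mem X0, fun q _ => by simp⟩
        mul_mem' := fun {x y} hx hy => ⟨mul_mem hx.1 hy.1, fun q hq => by
          rw [Chief.elt_mul_right]
          exact mul_mem (hx.2 q hq) (hZbc.2.2.1.conj_mem _ (hy.2 q hq) x)⟩
        inv_mem' := fun {x} hx => ⟨inv_mem hx.1, fun q hq => by
          have := hZbc.2.2.1.conj_mem _ (inv_mem (hx.2 q hq)) x⁻¹
          rwa [show x⁻¹ * ⁅q, x⁆⁻¹ * x⁻¹⁻¹ = ⁅q, x⁻¹⁆ by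
            simp only [commutatorElement_def]; group] at this⟩ }
    have hKn : K.Normal := ⟨fun x hx c => ⟨hX0n.conj_mem x hx.1 c, fun q hq => by
      have hq' : c⁻¹ * q * c ∈ Qa := by simpa using hQan.conj_mem q hq c⁻¹
      have := hZbc.2.2.1.conj_mem _ (hx.2 _ hq') c
      rwa [Chief.elt_conj, show c * (c⁻¹ * q * c) * c⁻¹ = q by group] at this⟩⟩
    intro x hx
    refine hsmall K hKn (fun x hx => hx.1) (fun hK => ?_)
      ⟨iter_mem (Chief.mem_normalizer_of_normal X0 g) hx _, fun q hq =>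
        key (i + j - 1) 0 i q hq x hx (hqi q hq) (by omega)⟩
    refine hZbc.1.not_ge ?_
    rw [commutator_le]
    exact fun q hq x hx => (hK.ge hx).2 q hq
  · have hsup : X ≤ Y ⊔ X ⊓ Z := by
      rcases hch (Y ⊔ X ⊓ Z) inferInstance le_sup_left (sup_le hlt.le inf_le_left) with h | h
      · exact absurd (le_sup_right.trans h.le) hXZ
      · exact h.ge
    refine reduce _ hsup fun x hx => ?_
    have hchief : IsChiefFactor (X ⊓ Z) (Y ⊓ Z) := by
      refine ⟨lt_of_le_of_ne (inf_le_inf_right Z hlt.le) fun h => hXZ (h.ge.trans inf_le_left),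
        inferInstance, inferInstance, fun N hN h1 h2 => ?_⟩
      rcases hch (Y ⊔ N) inferInstance le_sup_left (sup_le hlt.le (h2.trans inf_le_left)) with h | h
      · exact Or.inl (le_antisymm (le_inf (le_sup_right.trans h.le) (h2.trans inf_le_right)) h1)
      · refine Or.inr (le_antisymm h2 fun a ha => ?_)
        obtain ⟨y, hy, n, hn, rfl⟩ := mem_sup_of_normal_left.1 (h.ge ha.1)
        refine mul_mem (h1 (mem_inf.2 ⟨hy, ?_⟩)) hn
        have h5 : y * n ∈ Z := ha.2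
        have h6 : n ∈ Z := (h2 hn).2
        have := mul_mem h5 (inv_mem h6)
        rwa [mul_inv_cancel_right] at this
    haveI := hchief.2.1
    haveI := hchief.2.2.1
    exact (iter_mem_of_le ((Chief.iter_le_iff_normal hchief.1.le (Chief.chief_comm hchief
      (hP.to_le (inf_le_left.trans hXP))) g j).1 (hZj _ _ hchief inf_le_right) x hx) (by omega)).1

end CfsgLib.Techniques.HomChief
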