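import Cfsg.Prelude.Def_CaseTheorems
import Cfsg.Agent.Lib.Cores.Basic
import Cfsg.Agent.Lib.Solvable.Generation

/-!
In a group of characteristic 2 type a normal four-subgroup of a Sylow 2-subgroup (central when the centre
is not cyclic) centralizes every subgroup of odd order that it normalizes.
-/

namespace CfsgLib.Techniques.FourGroupCentralizes

open Subgroup Cfsg CfsgLib.Cores

variable {G : Type*} [Group G] [Finite G]

/-- `O_2` of the normalizer of `⟨a⟩`, inside `G`. -/
abbrev coreAt (a : G) : Subgroup G :=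
  (pCore 2 ↥(normalizer (zpowers a : Set G))).map (normalizer (zpowers a : Set G)).subtype

theorem mem_normalizer_zpowers {a x : G} (ha : orderOf a = 2) :
    x ∈ normalizer (zpowers a : Set G) ↔ x * a = a * x := by
  have hmem : ∀ y ∈ zpowers a, y = 1 ∨ y = a := by
    rintro y ⟨n, rfl⟩
    rcases Int.emod_two_eq_zero_or_one n with h | h
    · refine Or.inl ?_
      show a ^ n = 1
      rw [← zpow_mod_orderOf, ha, Nat.cast_two, h, zpow_zero]
    · refine Or.inr ?_
      show a ^ n = a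
      rw [← zpow_mod_orderOf, ha, Nat.cast_two, h, zpow_one]
  constructor
  · intro hx
    rcases hmem _ ((mem_normalizer_iff.1 hx a).1 (mem_zpowers a)) with h | h
    · have : a = 1 := by simpa using h
      rw [this, orderOf_one] at ha
      exact absurd ha (by norm_num)
    · exact mul_inv_eq_iff_eq_mul.1 h
  · intro hx
    refine centralizer_le_normalizer _ (mem_centralizer_iff.2 ?_)
    rintro y hy
    rcases hmem y hy with rfl | rfl
    · simp
    · exact hx.symm

omit [Finite G] in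
theorem coreAt_le (a : G) : coreAt a ≤ normalizer (zpowers a : Set G) := map_subtype_le _

theorem isPGroup_coreAt (a : G) : IsPGroup 2 (coreAt a) := (isPGroup_pCore 2).map _

omit [Finite G] in
theorem conj_mem_coreAt {a x q : G} (hx : x ∈ normalizer (zpowers a : Set G)) (hq : q ∈ coreAt a) :
    x * q * x⁻¹ ∈ coreAt a := by
  obtain ⟨q, hq, rfl⟩ := hq
  haveI := pCore_characteristic (G := ↥(normalizer (zpowers a : Set G))) 2
  exact ⟨⟨x, hx⟩ * q * ⟨x, hx⟩⁻¹, (inferInstance : (pCore 2 _).Normal).conj_mem q hq ⟨x, hx⟩, rfl⟩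

theorem mem_coreAt (h2 : IsCharacteristicTwoType G) {a x : G} (ha : orderOf a = 2)
    (hx : x ∈ normalizer (zpowers a : Set G)) (hc : ∀ q ∈ coreAt a, q * x = x * q) : x ∈ coreAt a := by
  have hp : IsPGroup 2 (zpowers a) := IsPGroup.of_card (n := 1) (by rw [Nat.card_zpowers, ha, pow_one])
  have hne : zpowers a ≠ ⊥ := fun h => by
    rw [zpowers_eq_bot] at h
    rw [h, orderOf_one] at ha
    exact absurd ha (by norm_num)
  refine ⟨⟨x, hx⟩, h2.2 _ hp hne (mem_centralizer_iff.2 fun q hq => Subtype.ext ?_), rfl⟩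
  exact hc q (mem_map_of_mem _ hq)

/-- A 2-subgroup normalized by `C_G(a)` lies in the core. -/
theorem le_coreAt {a : G} {N : Subgroup G} (hN : N ≤ normalizer (zpowers a : Set G)) (hp : IsPGroup 2 N)
    (hn : ∀ x ∈ normalizer (zpowers a : Set G), ∀ y ∈ N, x * y * x⁻¹ ∈ N) : N ≤ coreAt a := by
  haveI : (N.subgroupOf (normalizer (zpowers a : Set G))).Normal := ⟨fun y hy x => hn x x.2 y hy⟩
  intro y hy
  exact ⟨⟨y, hN hy⟩, le_pCore (hp.of_equiv (subgroupOfEquivOfLe hN).symm) hy, rfl⟩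

/-- The core lies in each maximal 2-subgroup of the centralizer. -/
theorem coreAt_le_of_max {a : G} {P : Subgroup G} (hP : IsPGroup 2 P) (hPa : P ≤ normalizer (zpowers a : Set G))
    (hmax : ∀ Q : Subgroup G, Q ≤ normalizer (zpowers a : Set G) → IsPGroup 2 Q → P ≤ Q → Q = P) :
    coreAt a ≤ P := by
  refine le_trans le_sup_left (hmax (coreAt a ⊔ P) (sup_le (coreAt_le a) hPa) ?_ le_sup_right).le
  refine IsPGroup.to_sup_of_normal_left' (isPGroup_coreAt a) hP fun x hx => ?_
  rw [mem_normalizer_iff]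
  refine fun y => ⟨conj_mem_coreAt (hPa hx), fun h => ?_⟩
  have := conj_mem_coreAt (inv_mem (hPa hx)) h
  simpa [mul_assoc] using this

theorem pow_two_of_klein {U : Subgroup G} (hU : IsKleinFour U) {u : G} (hu : u ∈ U) : u * u = 1 :=
  congrArg Subtype.val (IsKleinFour.mul_self (⟨u, hu⟩ : U))

theorem orderOf_of_klein {U : Subgroup G} (hU : IsKleinFour U) {u : G} (hu : u ∈ U) (h1 : u ≠ 1) :
    orderOf u = 2 := orderOf_eq_prime (by rw [pow_two, pow_two_of_klein hU hu]) h1

theorem comm_of_klein {U : Subgroup G} (hU : IsKleinFour U) {u v : G} (hu : u ∈ U) (hv : v ∈ U) :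
    u * v = v * u :=
  congrArg Subtype.val (mul_comm_of_exponent_two IsKleinFour.exponent_two ⟨u, hu⟩ ⟨v, hv⟩)

theorem cases_of_klein {U : Subgroup G} (hU : IsKleinFour U) {z b u : G} (hz : z ∈ U) (hb : b ∈ U) (hu : u ∈ U)
    (hz1 : z ≠ 1) (hb1 : b ≠ 1) (hzb : z ≠ b) : u = 1 ∨ u = z ∨ u = b ∨ u = z * b := by
  by_contra hc
  push Not at hc
  have := IsKleinFour.eq_mul_of_ne_all (x := (⟨z, hz⟩ : U)) (y := ⟨b, hb⟩) (z := ⟨u, hu⟩)
    (by simpa [Subtype.ext_iff] using hz1) (by simpa [Subtype.ext_iff] using hb1)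
    (by simpa [Subtype.ext_iff] using hzb) (by simpa [Subtype.ext_iff] using hc.1)
    (by simpa [Subtype.ext_iff] using hc.2.1) (by simpa [Subtype.ext_iff] using hc.2.2.1)
  exact hc.2.2.2 (congrArg Subtype.val this)

theorem main (h2 : IsCharacteristicTwoType G) (P : Sylow 2 G) (U : Subgroup G) (hUP : U ≤ (P : Subgroup G))
    (hUn : (P : Subgroup G) ≤ normalizer (U : Set G)) (hU4 : IsKleinFour U)
    (hUZ : ¬ IsCyclic ↥((P : Subgroup G) ⊓ centralizer ((P : Subgroup G) : Set G)) →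
      U ≤ centralizer ((P : Subgroup G) : Set G))
    (K : Subgroup G) (hK : Odd (Nat.card K)) (hUK : U ≤ normalizer (K : Set G)) :
    U ≤ centralizer (K : Set G) := by
  suffices hall : ∀ a ∈ U, a ≠ 1 → U ≤ coreAt a by
    have hgen := CfsgLib.Solvable.iSup_centralizer_eq (A := U) (K := K) (fun x hx y hy => comm_of_klein hU4 hx hy)
      IsKleinFour.not_isCyclic hUK (by
        rw [IsKleinFour.card_four]
        exact (Nat.coprime_two_left.2 hK).pow_left 2)
    rw [Subgroup.le_centralizer_iff, ← hgen]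
    refine iSup₂_le fun a ha c hc => ?_
    obtain ⟨haU, ha1⟩ := ha
    refine mem_centralizer_iff.2 fun u hu => ?_
    have hcN : c ∈ normalizer (zpowers a : Set G) :=
      (mem_normalizer_zpowers (orderOf_of_klein hU4 haU ha1)).2 (mem_centralizer_singleton_iff.1 hc.2)
    have h1 : u * c * u⁻¹ * c⁻¹ ∈ K :=
      mul_mem ((mem_normalizer_iff.1 (hUK hu) c).1 hc.1) (inv_mem hc.1)
    have hQ : u * c * u⁻¹ * c⁻¹ ∈ coreAt a := by
      have := mul_mem (hall a haU ha1 hu) (conj_mem_coreAt hcN (inv_mem (hall a haU ha1 hu)))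
      simpa [mul_assoc] using this
    have hcop : Nat.Coprime (Nat.card K) (Nat.card (coreAt a)) := by
      obtain ⟨n, hn⟩ := IsPGroup.iff_card.1 (isPGroup_coreAt a)
      rw [hn]
      exact ((Nat.coprime_two_left.2 hK).pow_left n).symm
    have h3 : u * c * u⁻¹ * c⁻¹ ∈ (⊥ : Subgroup G) := inf_eq_bot_of_coprime hcop ▸ mem_inf.2 ⟨h1, hQ⟩
    exact commutatorElement_eq_one_iff_mul_comm.1 h3
  have hPfix : ∀ a : G, ∀ Q : Subgroup G, Q ≤ normalizer (zpowers a : Set G) → IsPGroup 2 Q →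
      (P : Subgroup G) ≤ Q → Q = P := fun a Q _ hQ hle => P.3 hQ hle
  by_cases hcyc : IsCyclic ↥((P : Subgroup G) ⊓ centralizer ((P : Subgroup G) : Set G))
  swap
  · intro a haU ha1 u hu
    have hc := hUZ hcyc
    have ha2 := orderOf_of_klein hU4 haU ha1
    have hPa : (P : Subgroup G) ≤ normalizer (zpowers a : Set G) := fun x hx =>
      (mem_normalizer_zpowers ha2).2 (mem_centralizer_iff.1 (hc haU) x hx)
    refine mem_coreAt h2 ha2 ((mem_normalizer_zpowers ha2).2 (comm_of_klein hU4 hu haU)) fun q hq => ?_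
    exact mem_centralizer_iff.1 (hc hu) q (coreAt_le_of_max P.2 hPa (hPfix a) hq)
  -- the involution `z` of `U` central in `P`
  obtain ⟨z, hzU, hz1, hzP⟩ : ∃ z ∈ U, z ≠ 1 ∧ ∀ x ∈ (P : Subgroup G), x * z = z * x := by
    haveI : (U.subgroupOf (P : Subgroup G)).Normal := normal_subgroupOf_of_le_normalizer hUn
    have hne : U.subgroupOf (P : Subgroup G) ≠ ⊥ := by
      rw [Ne, subgroupOf_eq_bot, disjoint_iff, inf_of_le_left hUP]
      intro h
      have := IsKleinFour.card_four (G := U)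
      rw [Subgroup.card_eq_one.2 h] at this
      omega
    obtain ⟨w, hw, hw1⟩ := (bot_or_exists_ne_one _).resolve_left
      (CfsgLib.PGroup.inf_center_ne_bot P.2 _ hne)
    refine ⟨(w : G), hw.1, fun h => hw1 (Subtype.ext h), fun x hx => ?_⟩
    exact congrArg Subtype.val (mem_center_iff.1 hw.2 ⟨x, hx⟩)
  have hz2 := orderOf_of_klein hU4 hzU hz1
  have hcent : ∀ v ∈ (P : Subgroup G), (∀ x ∈ (P : Subgroup G), x * v = v * x) → v * v = 1 → v = 1 ∨ v = z := by
    intro v hvP hvc hv2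
    by_contra hc
    push Not at hc
    set Z := (P : Subgroup G) ⊓ centralizer ((P : Subgroup G) : Set G)
    have hvZ : v ∈ Z := ⟨hvP, mem_centralizer_iff.2 hvc⟩
    have hzZ : z ∈ Z := ⟨hUP hzU, mem_centralizer_iff.2 hzP⟩
    classical
    haveI := Fintype.ofFinite Z
    have h := IsCyclic.card_pow_eq_one_le (α := Z) (n := 2) two_pos
    have hsub : ({1, ⟨z, hzZ⟩, ⟨v, hvZ⟩} : Finset Z) ⊆ (Finset.univ.filter fun a : Z => a ^ 2 = 1) := by
      intro y hy
      simp only [Finset.mem_insert, Finset.mem_singleton] at hy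
      simp only [Finset.mem_filter, Finset.mem_univ, true_and]
      rcases hy with rfl | rfl | rfl
      · simp
      · exact Subtype.ext (by simpa [pow_two] using pow_two_of_klein hU4 hzU)
      · exact Subtype.ext (by simpa [pow_two] using hv2)
    have h3 := (Finset.card_le_card hsub).trans h
    rw [Finset.card_insert_of_notMem (by simp [Subtype.ext_iff, Ne.symm hz1, Ne.symm hc.1]),
      Finset.card_pair (by simp [Subtype.ext_iff, Ne.symm hc.2])] at h3
    omega
  have hmove : ∀ b ∈ U, b ≠ 1 → b ≠ z → ∃ x ∈ (P : Subgroup G), x * b * x⁻¹ = z * b := by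
    intro b hb hb1 hbz
    by_contra hc
    push Not at hc
    refine (hcent b (hUP hb) (fun x hx => ?_) (pow_two_of_klein hU4 hb)).elim hb1 hbz
    rcases cases_of_klein hU4 hzU hb ((mem_normalizer_iff.1 (hUn hx) b).1 hb) hz1 hb1 (Ne.symm hbz) with h | h | h | h
    · exact absurd (by simpa using h) hb1
    · refine absurd ?_ hbz
      have h' := mul_inv_eq_iff_eq_mul.1 h
      rw [← hzP x hx] at h'
      exact mul_left_cancel h'
    · exact mul_inv_eq_iff_eq_mul.1 h
    · exact absurd h (hc x hx)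
  -- `U ≤ O_2(C(z))`
  have hUz : U ≤ coreAt z := by
    have hPz : (P : Subgroup G) ≤ normalizer (zpowers z : Set G) := fun x hx => (mem_normalizer_zpowers hz2).2 (hzP x hx)
    have hQP := coreAt_le_of_max P.2 hPz (hPfix z)
    have hCz : ∀ c ∈ normalizer (zpowers z : Set G), ∀ w ∈ zpowers z, c * w * c⁻¹ = w := by
      rintro c hc w ⟨n, rfl⟩
      rw [← conj_zpow, mul_inv_eq_iff_eq_mul.2 ((mem_normalizer_zpowers hz2).1 hc)]
    let N : Subgroup G :=
      { carrier := {c | c ∈ normalizer (zpowers z : Set G) ∧ ∀ q ∈ coreAt z, c * q * c⁻¹ * q⁻¹ ∈ zpowers z}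
        one_mem' := ⟨one_mem _, fun q _ => by simp⟩
        mul_mem' := by
          rintro c d ⟨hc, hc'⟩ ⟨hd, hd'⟩
          refine ⟨mul_mem hc hd, fun q hq => ?_⟩
          have := mul_mem (hd' q hq) (hc' q hq)
          rw [← hCz c hc _ (hd' q hq)] at this
          simpa [mul_assoc] using this
        inv_mem' := by
          rintro c ⟨hc, hc'⟩
          refine ⟨inv_mem hc, fun q hq => ?_⟩
          have := inv_mem (hc' _ (conj_mem_coreAt (inv_mem hc) hq))
          simpa [mul_assoc] using this }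
    have hNn : ∀ x ∈ normalizer (zpowers z : Set G), ∀ y ∈ N, x * y * x⁻¹ ∈ N := by
      rintro x hx y ⟨hy, hy'⟩
      refine ⟨mul_mem (mul_mem hx hy) (inv_mem hx), fun q hq => ?_⟩
      have h1 := hy' _ (conj_mem_coreAt (inv_mem hx) hq)
      rw [← hCz x hx _ h1] at h1
      simpa [mul_assoc] using h1
    have hN2 : IsPGroup 2 N := by
      rintro ⟨c, hc, hc'⟩
      have hcQ : c * c ∈ coreAt z := by
        refine mem_coreAt h2 hz2 (mul_mem hc hc) fun q hq => ?_
        have h1 := hc' q hq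
        obtain ⟨w, hw⟩ : ∃ w, w = c * q * c⁻¹ * q⁻¹ := ⟨_, rfl⟩
        rw [← hw] at h1
        have e : c * q * c⁻¹ = w * q := by rw [hw]; group
        have hww : w * w = 1 := by
          obtain ⟨n, rfl⟩ := h1
          rw [← zpow_add, ← two_mul, zpow_mul, zpow_two, pow_two_of_klein hU4 hzU, one_zpow]
        have : c * c * q * (c * c)⁻¹ = q := by
          calc c * c * q * (c * c)⁻¹ = c * (c * q * c⁻¹) * c⁻¹ := by group
            _ = c * (w * q) * c⁻¹ := by rw [e]
            _ = (c * w * c⁻¹) * (c * q * c⁻¹) := by group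
            _ = q := by rw [hCz c hc w h1, e, ← mul_assoc, hww, one_mul]
        exact (mul_inv_eq_iff_eq_mul.1 this).symm
      obtain ⟨k, hk⟩ := isPGroup_coreAt z ⟨c * c, hcQ⟩
      refine ⟨k + 1, Subtype.ext ?_⟩
      have := congrArg Subtype.val hk
      push_cast at this ⊢
      rw [pow_succ', pow_mul, pow_two]
      exact this
    refine le_trans ?_ (le_coreAt (N := N) (fun c hc => hc.1) hN2 hNn)
    intro u hu
    refine ⟨(mem_normalizer_zpowers hz2).2 (comm_of_klein hU4 hu hzU), fun q hq => ?_⟩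
    rcases eq_or_ne u 1 with rfl | hu1
    · simp
    rcases eq_or_ne u z with rfl | huz
    · rw [mul_inv_eq_iff_eq_mul.2 (hzP q (hQP hq)).symm, mul_inv_cancel]; exact one_mem _
    rcases cases_of_klein hU4 hzU hu ((mem_normalizer_iff.1 (hUn (hQP hq)) u).1 hu) hz1 hu1 (Ne.symm huz)
      with h | h | h | h
    · exact absurd (by simpa using h) hu1
    · exfalso
      refine huz ?_
      have h' := mul_inv_eq_iff_eq_mul.1 h
      rw [← hzP q (hQP hq)] at h'
      exact mul_left_cancel h'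
    · have h' : q * u = u * q := mul_inv_eq_iff_eq_mul.1 h
      rw [← h', mul_inv_cancel_right, mul_inv_cancel]; exact one_mem _
    · have h' : q * u = z * u * q := mul_inv_eq_iff_eq_mul.1 h
      have : u * q * u⁻¹ * q⁻¹ = z⁻¹ := by
        have hu' : u * q = z⁻¹ * (q * u) := by rw [h']; group
        rw [hu']; group
      rw [this]; exact inv_mem (mem_zpowers z)
  intro b hbU hb1
  rcases eq_or_ne b z with rfl | hbz
  · exact hUz
  have hb2 := orderOf_of_klein hU4 hbU hb1
  obtain ⟨x₀, hx₀P, hx₀⟩ := hmove b hbU hb1 hbz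
  set P₀ := (P : Subgroup G) ⊓ normalizer (zpowers b : Set G)
  have hP₀b : ∀ x ∈ P₀, x * b = b * x := fun x hx => (mem_normalizer_zpowers hb2).1 hx.2
  obtain ⟨R, hR⟩ := (P.2.to_le (inf_le_left : P₀ ≤ P) |>.of_equiv
    (subgroupOfEquivOfLe (inf_le_right : P₀ ≤ normalizer (zpowers b : Set G))).symm).exists_le_sylow
  set R' := (R : Subgroup ↥(normalizer (zpowers b : Set G))).map (normalizer (zpowers b : Set G)).subtype
  have hP₀R : P₀ ≤ R' := fun x hx => ⟨⟨x, hx.2⟩, hR hx, rfl⟩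
  have hR'b : R' ≤ normalizer (zpowers b : Set G) := map_subtype_le _
  have hR2 : IsPGroup 2 R' := R.2.map _
  have hQR : coreAt b ≤ R' := map_mono (pCore_le_sylow R)
  have hbQ : b ∈ coreAt b :=
    mem_coreAt h2 hb2 ((mem_normalizer_zpowers hb2).2 rfl) fun q hq => (mem_normalizer_zpowers hb2).1 (coreAt_le b hq)
  suffices hzQ : z ∈ coreAt b by
    intro u hu
    rcases cases_of_klein hU4 hzU hbU hu hz1 hb1 (Ne.symm hbz) with rfl | rfl | rfl | rfl
    exacts [one_mem _, hzQ, hbQ, mul_mem hzQ hbQ]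
  by_cases hcomm : ∀ r ∈ R', r * z = z * r
  · exact mem_coreAt h2 hb2 ((mem_normalizer_zpowers hb2).2 (comm_of_klein hU4 hzU hbU)) fun q hq => hcomm q (hQR hq)
  push Not at hcomm
  obtain ⟨r, hr, hrz⟩ := hcomm
  -- `P₀` has index two in `P` and in `R'`
  have hP₀ : ∀ x ∈ (P : Subgroup G), x ∈ P₀ ∨ x₀ * x ∈ P₀ := by
    intro x hx
    have hm : x * b * x⁻¹ ∈ U := (mem_normalizer_iff.1 (hUn hx) b).1 hbU
    have hx₀b : x₀ * (z * b) * x₀⁻¹ = b := by
      calc x₀ * (z * b) * x₀⁻¹ = (x₀ * z) * b * x₀⁻¹ := by group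
        _ = z * (x₀ * b * x₀⁻¹) := by rw [hzP x₀ hx₀P]; group
        _ = b := by rw [hx₀, ← mul_assoc, pow_two_of_klein hU4 hzU, one_mul]
    rcases cases_of_klein hU4 hzU hbU hm hz1 hb1 (Ne.symm hbz) with h | h | h | h
    · exact absurd (by simpa using h) hb1
    · refine absurd ?_ hbz
      have h' := mul_inv_eq_iff_eq_mul.1 h
      rw [← hzP x hx] at h'
      exact mul_left_cancel h'
    · exact Or.inl ⟨hx, (mem_normalizer_zpowers hb2).2 (mul_inv_eq_iff_eq_mul.1 h)⟩
    · refine Or.inr ⟨mul_mem hx₀P hx, (mem_normalizer_zpowers hb2).2 (mul_inv_eq_iff_eq_mul.1 ?_)⟩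
      calc x₀ * x * b * (x₀ * x)⁻¹ = x₀ * (x * b * x⁻¹) * x₀⁻¹ := by group
        _ = b := by rw [h, hx₀b]
  have hx₀P₀ : x₀ ∉ P₀ := fun h => by
    have := mul_inv_eq_iff_eq_mul.2 (hP₀b x₀ h)
    rw [hx₀] at this
    exact hz1 (mul_eq_right.1 this)
  have hidx : P₀.relIndex (P : Subgroup G) = 2 := by
    refine index_eq_two_iff.2 ⟨⟨x₀, hx₀P⟩, fun y => ?_⟩
    simp only [mem_subgroupOf, coe_mul]
    rcases hP₀ y y.2 with h | h
    · refine Or.inr ⟨h, fun h' => hx₀P₀ ?_⟩
      have h'' : (y : G) * x₀ * 1 ∈ P₀ := by simpa using h'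
      simpa [mul_assoc] using mul_mem (inv_mem h) h''
    · by_cases hy : (y : G) ∈ P₀
      · exact absurd (by simpa [mul_assoc] using mul_mem h (inv_mem hy)) hx₀P₀
      refine Or.inl ⟨?_, hy⟩
      rcases hP₀ ((y : G) * x₀) (mul_mem y.2 hx₀P) with h' | h'
      · exact h'
      · exact absurd (by simpa [mul_assoc] using mul_mem (inv_mem h) (mul_mem h' (one_mem _))) hx₀P₀
  have hcardP : Nat.card P₀ * 2 = Nat.card (P : Subgroup G) := by
    have hmul := relIndex_mul_relIndex ⊥ P₀ (P : Subgroup G) bot_le inf_le_left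
    rwa [hidx, relIndex_bot_left, relIndex_bot_left] at hmul
  have hrP₀ : r ∉ P₀ := fun h => hrz (hzP r h.1)
  have hidxR : P₀.relIndex R' = 2 := by
    obtain ⟨T, hT⟩ := hR2.exists_le_sylow
    have hle : Nat.card R' ≤ Nat.card (P : Subgroup G) := by
      rw [Nat.card_congr (P.equiv T).toEquiv]; exact card_le_of_le hT
    have hmul : Nat.card P₀ * P₀.relIndex R' = Nat.card R' := by
      rw [← relIndex_bot_left, relIndex_mul_relIndex ⊥ _ _ bot_le hP₀R, relIndex_bot_left]
    rw [← hmul, ← hcardP] at hle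
    have h1 : P₀.relIndex R' ≠ 1 := fun h => hrP₀ (relIndex_eq_one.1 h hr)
    have h0 : P₀.relIndex R' ≠ 0 := fun h => by rw [h, mul_zero] at hmul; exact Nat.card_pos.ne' hmul.symm
    have := Nat.le_of_mul_le_mul_left hle Nat.card_pos
    omega
  have hrn : r ∈ normalizer (P₀ : Set G) := by
    haveI := normal_of_index_eq_two hidxR
    have := le_normalizer_of_normal_subgroupOf (H := P₀) (K := R') hP₀R
    exact this hr
  -- `U` is the set of involutions of `Z(P₀)`, and 1
  have hUP₀ : ∀ u ∈ U, u ∈ P₀ := fun u hu => ⟨hUP hu, (mem_normalizer_zpowers hb2).2 (comm_of_klein hU4 hu hbU)⟩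
  have hW : ∀ w ∈ P₀, (∀ x ∈ P₀, x * w = w * x) → w * w = 1 → w ∈ U := by
    intro w hw hwc hw2
    obtain ⟨w', hw'⟩ : ∃ w', w' = x₀ * w * x₀⁻¹ := ⟨_, rfl⟩
    have hw'P : w' ∈ (P : Subgroup G) := hw' ▸ mul_mem (mul_mem hx₀P hw.1) (inv_mem hx₀P)
    have hx₀n : x₀ ∈ normalizer (P₀ : Set G) := by
      haveI := normal_of_index_eq_two hidx
      exact le_normalizer_of_normal_subgroupOf (H := P₀) (K := (P : Subgroup G)) inf_le_left hx₀P
    have hsq : x₀ * x₀ ∈ P₀ := by
      have hh := (mul_mem_iff_of_index_two hidx (a := (⟨x₀, hx₀P⟩ : (P : Subgroup G))) (b := ⟨x₀, hx₀P⟩)).2 Iff.rfl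
      exact hh
    have hw'c : ∀ x ∈ P₀, x * w' = w' * x := by
      intro x hx
      have h := hwc _ ((mem_normalizer_iff.1 (inv_mem hx₀n) x).1 hx)
      calc x * w' = x₀ * ((x₀⁻¹ * x * x₀⁻¹⁻¹) * w) * x₀⁻¹ := by rw [hw']; group
        _ = w' * x := by rw [h, hw']; group
    have hw'P₀ : w' ∈ P₀ := hw' ▸ (mem_normalizer_iff.1 hx₀n w).1 hw
    have hfix : x₀ * w' * x₀⁻¹ = w := by
      calc x₀ * w' * x₀⁻¹ = (x₀ * x₀) * w * (x₀ * x₀)⁻¹ := by rw [hw']; group
        _ = w := by rw [hwc _ hsq]; group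
    have hv : ∀ x ∈ (P : Subgroup G), x * (w * w') = w * w' * x := by
      intro x hx
      have hx₀v : x₀ * (w * w') = w * w' * x₀ := by
        calc x₀ * (w * w') = (x₀ * w * x₀⁻¹) * (x₀ * w' * x₀⁻¹) * x₀ := by group
          _ = w * w' * x₀ := by rw [← hw', hfix, hw'c w hw]
      have hc0 : ∀ y ∈ P₀, y * (w * w') = w * w' * y := fun y hy => by
        rw [← mul_assoc, hwc y hy, mul_assoc, hw'c y hy, mul_assoc]
      rcases hP₀ x hx with h | h
      · exact hc0 x h
      · have h1 := hc0 _ h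
        have hx' : x = x₀⁻¹ * (x₀ * x) := by group
        have hi : x₀⁻¹ * (w * w') = w * w' * x₀⁻¹ := by
          rw [inv_mul_eq_iff_eq_mul, ← mul_assoc, hx₀v, mul_inv_cancel_right]
        rw [hx', mul_assoc, h1, ← mul_assoc x₀⁻¹, hi, mul_assoc]
    have hv2 : w * w' * (w * w') = 1 := by
      have : w' * w' = 1 := by
        calc w' * w' = x₀ * (w * w) * x₀⁻¹ := by rw [hw']; group
          _ = 1 := by rw [hw2]; group
      calc w * w' * (w * w') = w * (w' * w) * w' := by group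
        _ = w * w * (w' * w') := by rw [← hw'c w hw]; group
        _ = 1 := by rw [hw2, this, one_mul]
    have hfix_mem : ∀ y ∈ P₀, (∀ x ∈ P₀, x * y = y * x) → y * y = 1 → x₀ * y * x₀⁻¹ = y → y ∈ U := by
      intro y hy hyc hy2 hyx
      refine (hcent y hy.1 (fun x hx => ?_) hy2).elim (fun h => h ▸ one_mem _) (fun h => h ▸ hzU)
      rcases hP₀ x hx with h | h
      · exact hyc x h
      · have h1 := hyc _ h
        have hx' : x = x₀⁻¹ * (x₀ * x) := by group
        have hi : x₀⁻¹ * y = y * x₀⁻¹ := by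
          rw [inv_mul_eq_iff_eq_mul, ← mul_assoc, mul_inv_eq_iff_eq_mul.1 hyx, mul_inv_cancel_right]
        rw [hx', mul_assoc, h1, ← mul_assoc x₀⁻¹, hi, mul_assoc]
    have hw'eq : w' = w * (w * w') := by rw [← mul_assoc, hw2, one_mul]
    rcases hcent _ (mul_mem hw.1 hw'P) hv hv2 with h | h
    · exact hfix_mem w hw hwc hw2 (by rw [← hw', hw'eq, h, mul_one])
    · have hbP₀ := hUP₀ b hbU
      have hbc : ∀ x ∈ P₀, x * b = b * x := hP₀b
      have : w * b ∈ U := by
        refine hfix_mem _ (mul_mem hw hbP₀) (fun x hx => by rw [← mul_assoc, hwc x hx, mul_assoc, hbc x hx, mul_assoc]) ?_ ?_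
        · calc w * b * (w * b) = w * (b * w) * b := by group
            _ = w * w * (b * b) := by rw [hwc b hbP₀]; group
            _ = 1 := by rw [hw2, pow_two_of_klein hU4 hbU, one_mul]
        · calc x₀ * (w * b) * x₀⁻¹ = w' * (x₀ * b * x₀⁻¹) := by rw [hw']; group
            _ = (w * z) * (z * b) := by rw [hx₀, hw'eq, h]
            _ = w * (z * z) * b := by group
            _ = w * b := by rw [pow_two_of_klein hU4 hzU, mul_one]
      have := mul_mem this hbU
      rwa [mul_assoc, pow_two_of_klein hU4 hbU, mul_one] at this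
  have hrU : ∀ u ∈ U, r * u * r⁻¹ ∈ U := by
    intro u hu
    refine hW _ ((mem_normalizer_iff.1 hrn u).1 (hUP₀ u hu)) (fun x hx => ?_) ?_
    · have hy : r⁻¹ * x * r⁻¹⁻¹ ∈ P₀ := (mem_normalizer_iff.1 (inv_mem hrn) x).1 hx
      have hc : r⁻¹ * x * r⁻¹⁻¹ * u = u * (r⁻¹ * x * r⁻¹⁻¹) := by
        rcases cases_of_klein hU4 hzU hbU hu hz1 hb1 (Ne.symm hbz) with rfl | rfl | rfl | rfl
        · simp
        · exact hzP _ hy.1
        · exact hP₀b _ hy
        · rw [← mul_assoc, hzP _ hy.1, mul_assoc, hP₀b _ hy, ← mul_assoc]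
      calc x * (r * u * r⁻¹) = r * ((r⁻¹ * x * r⁻¹⁻¹) * u) * r⁻¹ := by group
        _ = r * u * r⁻¹ * x := by rw [hc]; group
    · calc r * u * r⁻¹ * (r * u * r⁻¹) = r * (u * u) * r⁻¹ := by group
        _ = 1 := by rw [pow_two_of_klein hU4 hu]; group
  have hrb : r * b = b * r := (mem_normalizer_zpowers hb2).1 (hR'b hr)
  have hrzb : r * z * r⁻¹ = z * b := by
    rcases cases_of_klein hU4 hzU hbU (hrU z hzU) hz1 hb1 (Ne.symm hbz) with h | h | h | h
    · exact absurd (by simpa using h) hz1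
    · exact absurd (mul_inv_eq_iff_eq_mul.1 h) hrz
    · refine absurd ?_ hbz
      have h' := mul_inv_eq_iff_eq_mul.1 h
      rw [← hrb] at h'
      exact (mul_left_cancel h').symm
    · exact h
  set g := x₀ * r
  have hgU : ∀ u ∈ U, g * u * g⁻¹ ∈ U := fun u hu => by
    have := (mem_normalizer_iff.1 (hUn hx₀P) _).1 (hrU u hu)
    simpa [g, mul_assoc] using this
  have hgz : g * z * g⁻¹ = b := by
    calc g * z * g⁻¹ = (x₀ * (r * z * r⁻¹) * x₀⁻¹) := by simp only [g]; group
      _ = (x₀ * z) * b * x₀⁻¹ := by rw [hrzb]; group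
      _ = z * (x₀ * b * x₀⁻¹) := by rw [hzP x₀ hx₀P]; group
      _ = b := by rw [hx₀, ← mul_assoc, pow_two_of_klein hU4 hzU, one_mul]
  have hNg : ∀ y, y ∈ normalizer (zpowers b : Set G) ↔ g⁻¹ * y * g ∈ normalizer (zpowers z : Set G) := fun y => by
    rw [mem_normalizer_zpowers hb2, mem_normalizer_zpowers hz2, ← hgz]
    constructor <;> intro h
    · calc g⁻¹ * y * g * z = g⁻¹ * (y * (g * z * g⁻¹)) * g := by group
        _ = z * (g⁻¹ * y * g) := by rw [h]; group
    · calc y * (g * z * g⁻¹) = g * ((g⁻¹ * y * g) * z) * g⁻¹ := by group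
        _ = g * z * g⁻¹ * y := by rw [h]; group
  have hle : (coreAt z).map (MulAut.conj g).toMonoidHom ≤ coreAt b := by
    refine le_coreAt ?_ ((isPGroup_coreAt z).map _) ?_
    · rintro _ ⟨y, hy, rfl⟩
      rw [hNg]
      have := coreAt_le z hy
      simpa [MulAut.conj_apply, mul_assoc] using this
    · rintro x hx _ ⟨y, hy, rfl⟩
      refine ⟨_, conj_mem_coreAt ((hNg x).1 hx) hy, ?_⟩
      simp [MulAut.conj_apply, mul_assoc]
  obtain ⟨u, hu, hgu⟩ : ∃ u ∈ U, g * u * g⁻¹ = z := by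
    have hinj : Function.Injective (fun u : U => (⟨g * u * g⁻¹, hgU u u.2⟩ : U)) := fun u v h => Subtype.ext <| by
      have := congrArg Subtype.val h
      simpa using this
    obtain ⟨u, hu⟩ := (Finite.injective_iff_surjective.1 hinj) ⟨z, hzU⟩
    exact ⟨u, u.2, congrArg Subtype.val hu⟩
  exact hle ⟨u, hUz hu, hgu⟩

end CfsgLib.Techniques.FourGroupCentralizes
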