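import Cfsg.Prelude.Def_Transfer
import Cfsg.Agent.Lib.PGroup.Basic
import Mathlib.GroupTheory.Transfer
import Mathlib.GroupTheory.SpecificGroups.Cyclic
import Mathlib.LinearAlgebra.Matrix.GeneralLinearGroup.Defs
import Mathlib.LinearAlgebra.Matrix.ToLin
import Mathlib.LinearAlgebra.Dimension.Finrank

/-!
A Sylow 2-subgroup embedded in `GL₃` of odd characteristic containing `E₈`, in a group without subgroups
of index 2, is abelian.
-/

namespace CfsgLib.Techniques.GLThreeSylow

open Subgroup

section Eigen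

variable {F V : Type*} [Field F] [AddCommGroup V] [Module F V]

/-- Common eigenvectors of commuting involutions span everything. -/
theorem span_common_eigen (h2 : (2 : F) ≠ 0) (L : List (Module.End F V))
    (hinv : ∀ a ∈ L, a * a = 1) (hc : ∀ a ∈ L, ∀ b ∈ L, a * b = b * a) :
    Submodule.span F {w : V | ∀ a ∈ L, a w = w ∨ a w = -w} = ⊤ := by
  induction L with
  | nil => simp
  | cons a L ih =>
    rw [eq_top_iff, ← ih (fun b hb => hinv b (List.mem_cons_of_mem _ hb))
      (fun b hb c hc' => hc b (List.mem_cons_of_mem _ hb) c (List.mem_cons_of_mem _ hc')), Submodule.span_le]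
    intro w hw
    have haa : a (a w) = w := by
      rw [← Module.End.mul_apply, hinv a List.mem_cons_self]; rfl
    have hp : w + a w ∈ {w : V | ∀ b ∈ a :: L, b w = w ∨ b w = -w} := by
      intro b hb
      rcases List.mem_cons.1 hb with rfl | hb'
      · left; rw [map_add, haa, add_comm]
      · have hba : b (a w) = a (b w) := by
          rw [← Module.End.mul_apply, hc b hb a List.mem_cons_self]; rfl
        rcases hw b hb' with h | h
        · left; rw [map_add, hba, h]
        · right; rw [map_add, hba, h, map_neg, neg_add]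
    have hm : w - a w ∈ {w : V | ∀ b ∈ a :: L, b w = w ∨ b w = -w} := by
      intro b hb
      rcases List.mem_cons.1 hb with rfl | hb'
      · right; rw [map_sub, haa, neg_sub]
      · have hba : b (a w) = a (b w) := by
          rw [← Module.End.mul_apply, hc b hb a List.mem_cons_self]; rfl
        rcases hw b hb' with h | h
        · left; rw [map_sub, hba, h]
        · right; rw [map_sub, hba, h, map_neg, neg_sub]; abel
    have hw2 : w = (2 : F)⁻¹ • ((w + a w) + (w - a w)) := by
      rw [add_add_sub_cancel, ← two_smul F w, smul_smul, inv_mul_cancel₀ h2, one_smul]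
    rw [hw2]
    exact Submodule.smul_mem _ _ (add_mem (Submodule.subset_span hp) (Submodule.subset_span hm))

end Eigen

variable {G : Type*} [Group G] [Finite G]

theorem exists_index_two_of_hom {A : Type*} [CommGroup A] (hA : ∀ R : Subgroup A, Finite R → IsCyclic R)
    (V : G →* A) {z : G} (hz : V z ≠ 1) (hz2 : V z * V z = 1) : ∃ H : Subgroup G, H.index = 2 := by
  haveI : Finite V.range := Finite.of_surjective _ V.rangeRestrict_surjective
  haveI := hA V.range inferInstance
  refine ⟨(powMonoidHom 2 : V.range →* V.range).range.comap V.rangeRestrict, ?_⟩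
  rw [index_comap_of_surjective _ V.rangeRestrict_surjective, IsCyclic.index_powMonoidHom_range]
  have ho : orderOf (⟨V z, z, rfl⟩ : V.range) = 2 := orderOf_eq_prime (Subtype.ext (by simpa [pow_two] using hz2))
    (fun h => hz (congrArg Subtype.val h))
  exact Nat.gcd_eq_right (ho ▸ orderOf_dvd_natCard _)

/-- Transfer of a central involution of a Sylow 2-subgroup all whose conjugates in the centre have value `-1`. -/
theorem exists_index_two {H : Subgroup G} (hXp : IsPGroup 2 H) (hidx : ¬ 2 ∣ H.index) {F : Type*} [Field F] (h2 : (2 : F) ≠ 0)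
    (lam : H →* Fˣ) {z : G} (hzX : z ∈ H) (hz2 : z * z = 1)
    (hzc : ∀ x ∈ H, x * z = z * x)
    (hN : ∀ g ∈ normalizer (H : Set G), ∀ h : g⁻¹ * z * g ∈ H, lam ⟨g⁻¹ * z * g, h⟩ = -1) :
    ∃ H : Subgroup G, H.index = 2 := by
  classical
  haveI : Fact (Nat.Prime 2) := ⟨Nat.prime_two⟩
  haveI : Fintype (G ⧸ H) := Fintype.ofFinite _
  have hneg : (-1 : Fˣ) ≠ 1 := fun h => h2 (by
    have := congrArg Units.val h
    simp only [Units.val_neg, Units.val_one] at this
    linear_combination -this)
  refine exists_index_two_of_hom (fun R hR => isCyclic_subgroup_units R) (MonoidHom.transfer lam) (z := z) ?_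
    (by rw [← map_mul, hz2, map_one])
  suffices hT : MonoidHom.transfer lam z = -1 by rw [hT]; exact hneg
  letI := Fintype.ofFinite (Quotient (MulAction.orbitRel (zpowers z) (G ⧸ H)))
  rw [MonoidHom.transfer_eq_prod_quotient_orbitRel_zpowers_quot]
  have hzz : ∀ q : G ⧸ H, z • (z • q) = q := fun q => by rw [← mul_smul, hz2, one_smul]
  let psi : (G ⧸ H) → Prop := fun q =>
    ∃ g : G, (g : G ⧸ H) = q ∧ ∃ h : g⁻¹ * z * g ∈ H, lam ⟨_, h⟩ = -1
  have hpsi : ∀ (g : G) (h : g⁻¹ * z * g ∈ H), psi (g : G ⧸ H) → lam ⟨_, h⟩ = -1 := by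
    rintro g h ⟨g', hg', h', e⟩
    obtain ⟨k, rfl⟩ : ∃ k : H, g' * k = g := ⟨⟨g'⁻¹ * g, QuotientGroup.eq.1 hg'⟩, by simp⟩
    have heq : (⟨_, h⟩ : H) = k⁻¹ * ⟨_, h'⟩ * k := Subtype.ext (by simp [mul_assoc])
    rw [heq, map_mul, map_mul, map_inv, e, mul_comm _ (-1 : Fˣ), inv_mul_cancel_right]
  have hsign : ∀ (g : G) (h : g⁻¹ * z * g ∈ H), lam ⟨_, h⟩ = 1 ∨ lam ⟨_, h⟩ = -1 := by
    intro g h
    have hsq : lam ⟨_, h⟩ * lam ⟨_, h⟩ = 1 := by
      rw [← map_mul, ← map_one lam]
      congr 1
      refine Subtype.ext ?_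
      show g⁻¹ * z * g * (g⁻¹ * z * g) = 1
      calc g⁻¹ * z * g * (g⁻¹ * z * g) = g⁻¹ * (z * z) * g := by group
        _ = 1 := by rw [hz2]; group
    rcases mul_self_eq_one_iff.1 (show ((lam ⟨_, h⟩ : Fˣ) : F) * (lam ⟨_, h⟩ : Fˣ) = 1 by
      rw [← Units.val_mul, hsq, Units.val_one]) with e | e
    · exact Or.inl (Units.ext e)
    · exact Or.inr (Units.ext (by simpa using e))
  -- the fixed cosets of value `-1`
  let S : SubMulAction H (G ⧸ H) :=
    { carrier := {q | z • q = q ∧ psi q}
      smul_mem' := by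
        rintro ⟨x, hx⟩ q ⟨hq, g, rfl, h, e⟩
        have hxg : (x * g)⁻¹ * z * (x * g) = g⁻¹ * z * g := by
          calc (x * g)⁻¹ * z * (x * g) = g⁻¹ * x⁻¹ * (z * x) * g := by group
            _ = g⁻¹ * z * g := by rw [← hzc x hx]; group
        refine ⟨?_, x * g, rfl, hxg ▸ h, ?_⟩
        · show z • (x • (g : G ⧸ H)) = x • (g : G ⧸ H)
          rw [← mul_smul, ← hzc x hx, mul_smul, hq]
        · rw [← e]; congr 1; exact Subtype.ext hxg }
  have hperiod : ∀ q : G ⧸ H, z • q = q → Function.minimalPeriod (z • ·) q = 1 := fun q hq =>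
    Function.minimalPeriod_eq_one_iff_isFixedPt.2 hq
  have hfix_of : ∀ q : G ⧸ H, z • q = q → ∀ g : G, (g : G ⧸ H) = q → g⁻¹ * z * g ∈ H := by
    rintro _ hq g rfl
    have : ((z * g : G) : G ⧸ H) = (g : G) := hq
    simpa [mul_assoc] using QuotientGroup.eq.1 this.symm
  have hterm : ∀ q : Quotient (MulAction.orbitRel (zpowers z) (G ⧸ H)),
      lam ⟨q.out.out⁻¹ * z ^ Function.minimalPeriod (z • ·) q.out * q.out.out,
        QuotientGroup.out_conj_pow_minimalPeriod_mem H z q.out⟩ = if q.out ∈ S then -1 else 1 := by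
    intro q
    have hg : ((q.out.out : G) : G ⧸ H) = q.out := QuotientGroup.out_eq' _
    by_cases hq : z • q.out = q.out
    · have h := hfix_of _ hq _ hg
      have e : (⟨q.out.out⁻¹ * z ^ Function.minimalPeriod (z • ·) q.out * q.out.out,
          QuotientGroup.out_conj_pow_minimalPeriod_mem H z q.out⟩ : H) = ⟨_, h⟩ :=
        Subtype.ext (by simp [hperiod _ hq])
      rw [e]
      split_ifs with hS
      · exact hpsi _ h (hg.symm ▸ hS.2)
      · exact (hsign _ h).resolve_right fun he => hS ⟨hq, _, hg, h, he⟩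
    · have hm : Function.minimalPeriod (z • ·) q.out = 2 := by
        have hd : Function.minimalPeriod (z • ·) q.out ∣ 2 :=
          Function.IsPeriodicPt.minimalPeriod_dvd (hzz q.out)
        exact ((Nat.dvd_prime Nat.prime_two).1 hd).resolve_left fun h =>
          hq (Function.minimalPeriod_eq_one_iff_isFixedPt.1 h)
      rw [if_neg fun hS => hq hS.1]
      rw [show (⟨q.out.out⁻¹ * z ^ Function.minimalPeriod (z • ·) q.out * q.out.out,
          QuotientGroup.out_conj_pow_minimalPeriod_mem H z q.out⟩ : H) = 1 from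
        Subtype.ext (by simp [hm, pow_two, hz2]), map_one]
  rw [Finset.prod_congr rfl fun q _ => hterm q, Finset.prod_ite, Finset.prod_const, Finset.prod_const_one, mul_one]
  have hcount : (Finset.univ.filter fun q : Quotient (MulAction.orbitRel (zpowers z) (G ⧸ H)) => q.out ∈ S).card
      = Nat.card S := by
    rw [Nat.card_eq_fintype_card, ← Finset.card_univ]
    refine Finset.card_bij (fun q hq => (⟨q.out, (Finset.mem_filter.1 hq).2⟩ : S)) (fun _ _ => Finset.mem_univ _)
      (fun a _ b _ h => Quotient.out_injective (congrArg Subtype.val h)) fun s _ => ?_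
    obtain ⟨q, hq⟩ : ∃ q, q = Quotient.mk (MulAction.orbitRel (zpowers z) (G ⧸ H)) (s : G ⧸ H) := ⟨_, rfl⟩
    have hout : q.out = s := by
      have hr : q.out ∈ MulAction.orbit (zpowers z) (s : G ⧸ H) := by
        rw [hq]; exact MulAction.orbitRel_apply.1 (Quotient.mk_out (s := MulAction.orbitRel (zpowers z) (G ⧸ H)) _)
      obtain ⟨⟨_, i, rfl⟩, hi⟩ := hr
      rw [← hi]
      show z ^ i • (s : G ⧸ H) = s
      exact MulAction.mem_stabilizer_iff.1 (zpow_mem (MulAction.mem_stabilizer_iff.2 s.2.1) i)
    exact ⟨q, Finset.mem_filter.2 ⟨Finset.mem_univ _, hout ▸ s.2⟩, Subtype.ext hout⟩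
  rw [hcount, Odd.neg_one_pow]
  have h1 := hXp.card_modEq_card_fixedPoints (G ⧸ H)
  have h3 := hXp.card_modEq_card_fixedPoints S
  have heq : Nat.card (MulAction.fixedPoints H S) = Nat.card (MulAction.fixedPoints H (G ⧸ H)) := by
    refine Nat.card_congr
      { toFun := fun s => ⟨(s.1 : G ⧸ H), fun x => congrArg Subtype.val (s.2 x)⟩
        invFun := fun q => ⟨⟨q.1, ?_⟩, fun x => Subtype.ext (q.2 x)⟩
        left_inv := fun s => rfl
        right_inv := fun q => rfl }
    obtain ⟨g, hg⟩ := QuotientGroup.mk_surjective q.1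
    have hgn : g ∈ normalizer (H : Set G) := by
      have hq := q.2
      rw [← hg] at hq
      exact (Sylow.mem_fixedPoints_mul_left_cosets_iff_mem_normalizer).1 hq
    have hmem : g⁻¹ * z * g ∈ H := by simpa using (mem_normalizer_iff.1 (inv_mem hgn) z).1 hzX
    refine ⟨?_, g, hg, hmem, hN g hgn hmem⟩
    rw [← hg]
    show ((z * g : G) : G ⧸ H) = (g : G)
    exact (QuotientGroup.eq.2 (by simpa [mul_assoc] using hmem)).symm
  have hodd : ¬ 2 ∣ Nat.card (G ⧸ H) := hidx
  rw [Nat.odd_iff]
  have e1 : Nat.card S % 2 = Nat.card (MulAction.fixedPoints H S) % 2 := h3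
  have e2 : Nat.card (G ⧸ H) % 2 = Nat.card (MulAction.fixedPoints H (G ⧸ H)) % 2 := h1
  rw [e1, heq, ← e2]
  omega

set_option maxHeartbeats 1000000 in
theorem main (hG : ∀ H : Subgroup G, H.index ≠ 2) {P : Subgroup G} (hP : IsPGroup 2 P) (hidx : ¬ 2 ∣ P.index)
    {F : Type*} [Field F] [Fintype F] (hF : Odd (Fintype.card F))
    (f : P →* GL (Fin 3) F) (hf : Function.Injective f)
    (E : Subgroup G) (hE : E ≤ P) (hEa : Cfsg.IsElementaryAbelian 2 E) (hE8 : Nat.card E = 8) :
    IsMulCommutative P := by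
  classical
  haveI : Fact (Nat.Prime 2) := ⟨Nat.prime_two⟩
  have h2 : (2 : F) ≠ 0 := Ring.two_ne_zero fun h => by
    have := FiniteField.even_card_of_char_two h
    rw [Nat.odd_iff] at hF
    omega
  -- simultaneous diagonalization
  let T : P →* Module.End F (Fin 3 → F) :=
    ((Matrix.toLinAlgEquiv' : Matrix (Fin 3) (Fin 3) F ≃ₐ[F] _).toMonoidHom).comp ((Units.coeHom _).comp f)
  have hTinj : Function.Injective T := fun a b h => hf (Units.ext (Matrix.toLinAlgEquiv'.injective h))
  haveI := Fintype.ofFinite E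
  let L : List (Module.End F (Fin 3 → F)) := (Finset.univ : Finset E).toList.map fun e : E => T ⟨(e : G), hE e.2⟩
  have hL : ∀ e : E, T ⟨(e : G), hE e.2⟩ ∈ L := fun e => List.mem_map.2 ⟨e, Finset.mem_toList.2 (Finset.mem_univ _), rfl⟩
  have hspan := span_common_eigen h2 L (by
      intro a ha
      obtain ⟨e, -, rfl⟩ := List.mem_map.1 ha
      rw [← map_mul, ← map_one T]; congr 1
      exact Subtype.ext (by simpa [pow_two] using hEa.2 e e.2))
    (by
      intro a ha b hb
      obtain ⟨e, -, rfl⟩ := List.mem_map.1 ha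
      obtain ⟨e', -, rfl⟩ := List.mem_map.1 hb
      rw [← map_mul, ← map_mul]; congr 1
      exact Subtype.ext (show (e : G) * e' = e' * e from congrArg Subtype.val (hEa.1.is_comm.comm e e')))
  obtain ⟨s, hs, hsp, hli⟩ := exists_linearIndependent F {w : Fin 3 → F | ∀ a ∈ L, a w = w ∨ a w = -w}
  rw [hspan] at hsp
  let B0 := Module.Basis.mk hli (by rw [Subtype.range_coe]; exact hsp.ge)
  haveI : Fintype s := Fintype.ofFinite s
  have hc3 : Fintype.card s = 3 := by
    rw [← Module.finrank_eq_card_basis B0, Module.finrank_fintype_fun_eq_card, Fintype.card_fin]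
  let B := B0.reindex (Fintype.equivFinOfCardEq hc3)
  have hBe : ∀ (e : E) (i : Fin 3), T ⟨(e : G), hE e.2⟩ (B i) = B i ∨ T ⟨(e : G), hE e.2⟩ (B i) = -B i := by
    intro e i
    have : B i ∈ {w : Fin 3 → F | ∀ a ∈ L, a w = w ∨ a w = -w} := by
      simp only [B, Module.Basis.reindex_apply, B0, Module.Basis.mk_apply]
      exact hs ((Fintype.equivFinOfCardEq hc3).symm i).2
    exact this _ (hL e)
  let M : P →* Matrix (Fin 3) (Fin 3) F := (LinearMap.toMatrixAlgEquiv B).toMonoidHom.comp T
  have hMinj : Function.Injective M := fun a b h => hTinj ((LinearMap.toMatrixAlgEquiv B).injective h)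
  let sg : E → Fin 3 → Bool := fun e i => decide (T ⟨e, hE e.2⟩ (B i) = -B i)
  let val : Bool → F := fun b => if b then -1 else 1
  have hne1 : (-1 : F) ≠ 1 := fun h => h2 (by linear_combination -h)
  have hME : ∀ e : E, M ⟨e, hE e.2⟩ = Matrix.diagonal fun i => val (sg e i) := by
    intro e
    ext i j
    show LinearMap.toMatrixAlgEquiv B (T ⟨e, hE e.2⟩) i j = _
    rw [LinearMap.toMatrixAlgEquiv_apply, Matrix.diagonal_apply]
    by_cases hs' : T ⟨e, hE e.2⟩ (B j) = -B j
    · have : sg e j = true := decide_eq_true hs'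
      rw [hs', map_neg, B.repr_self, Finsupp.neg_apply, Finsupp.single_apply]
      split_ifs with h1 h3 h3
      · subst h1; simp [val, this]
      · exact absurd h1.symm h3
      · exact absurd h3.symm h1
      · simp
    · have : sg e j = false := decide_eq_false hs'
      rw [(hBe e j).resolve_right hs', B.repr_self, Finsupp.single_apply]
      split_ifs with h1 h3 h3
      · subst h1; simp [val, this]
      · exact absurd h1.symm h3
      · exact absurd h3.symm h1
      · rfl
  have hsg : Function.Bijective sg := by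
    refine (Fintype.bijective_iff_injective_and_card _).2 ⟨fun a b h => ?_, ?_⟩
    · have : M ⟨a, hE a.2⟩ = M ⟨b, hE b.2⟩ := by rw [hME, hME, h]
      exact Subtype.ext (congrArg (fun u : P => (u : G)) (hMinj this))
    · rw [Fintype.card_eq_nat_card, hE8]; simp
  have hpat : ∀ d : Fin 3 → Bool, ∃ e : P, M e = Matrix.diagonal fun i => val (d i) := fun d => by
    obtain ⟨e, he⟩ := hsg.2 d
    exact ⟨_, by rw [hME, he]⟩
  -- elements commuting with a diagonal one
  have hzero : ∀ (x : P) (e : P) (d : Fin 3 → F), M e = Matrix.diagonal d → x * e = e * x →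
      ∀ i j, d i ≠ d j → M x i j = 0 := by
    intro x e d he hc i j hij
    have h := congrFun (congrFun (congrArg M hc) i) j
    rw [map_mul, map_mul, he, Matrix.mul_diagonal, Matrix.diagonal_mul] at h
    have : M x i j * (d i - d j) = 0 := by linear_combination -h
    exact (mul_eq_zero.1 this).resolve_right (sub_ne_zero.2 hij)
  have hcentral : ∀ w : P, (∀ x : P, x * w = w * x) → w * w = 1 →
      ∃ d : Fin 3 → F, M w = Matrix.diagonal d ∧ ∀ i, d i = 1 ∨ d i = -1 := by
    intro w hw hw2
    have hoff : ∀ i j, i ≠ j → M w i j = 0 := fun i j hij => by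
      obtain ⟨e, he⟩ := hpat (fun k => decide (k = i))
      exact hzero w e _ he (hw e).symm i j (by simpa [val, Ne.symm hij] using hne1)
    refine ⟨fun i => M w i i, Matrix.ext fun i j => ?_, fun i => ?_⟩
    · by_cases hij : i = j
      · subst hij; rw [Matrix.diagonal_apply_eq]
      · rw [Matrix.diagonal_apply_ne _ hij, hoff i j hij]
    · have h := congrFun (congrFun (congrArg M hw2) i) i
      rw [map_mul, map_one, Matrix.mul_apply, Matrix.one_apply_eq, Finset.sum_eq_single i
        (fun k _ hk => by rw [hoff i k (Ne.symm hk), zero_mul]) (fun h => absurd (Finset.mem_univ i) h)] at h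
      exact mul_self_eq_one_iff.1 h
  by_contra hnab
  have hnorm_inv : ∀ K : Subgroup P, K.Normal → K ≠ ⊥ → ∃ w ∈ K, (∀ x : P, x * w = w * x) ∧ w ≠ 1 ∧ w * w = 1 := by
    intro K hK hKne
    haveI := hK
    haveI : Nontrivial ↥(K ⊓ center P : Subgroup P) :=
      (nontrivial_iff_ne_bot _).2 (CfsgLib.PGroup.inf_center_ne_bot hP K hKne)
    obtain ⟨w, hw⟩ := exists_prime_orderOf_dvd_card' 2
      (((hP.to_subgroup (K ⊓ center P)).card_eq_or_dvd).resolve_left fun h =>
        absurd (Finite.one_lt_card (α := ↥(K ⊓ center P : Subgroup P))) (by omega))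
    refine ⟨(w : P), w.2.1, fun x => mem_center_iff.1 w.2.2 x, fun h => ?_, ?_⟩
    · rw [← orderOf_eq_one_iff, Subgroup.orderOf_coe, hw] at h; omega
    · have := congrArg Subtype.val (pow_orderOf_eq_one w)
      rw [hw] at this; simpa [pow_two] using this
  -- the central element `c`
  let dt : P →* F := (Matrix.detMonoidHom (n := Fin 3) (R := F)).comp M
  obtain ⟨e0, he0⟩ := hpat ![true, true, false]
  have he0K : e0 ∈ dt.toHomUnits.ker := by
    refine MonoidHom.mem_ker.2 (Units.ext ?_)
    show Matrix.det (M e0) = 1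
    rw [he0, Matrix.det_diagonal, Fin.prod_univ_three]; simp [val]
  obtain ⟨c, hcK, hcc, hc1, hc2⟩ := hnorm_inv dt.toHomUnits.ker inferInstance fun h => by
    rw [h, Subgroup.mem_bot] at he0K
    rw [he0K, map_one] at he0
    have := congrFun (congrFun he0 0) 0
    simp [val] at this
    exact hne1 this.symm
  obtain ⟨dc, hdc, hdc1⟩ := hcentral c hcc hc2
  have hdet : dc 0 * dc 1 * dc 2 = 1 := by
    have := congrArg Units.val (MonoidHom.mem_ker.1 hcK)
    change Matrix.det (M c) = 1 at this
    rwa [hdc, Matrix.det_diagonal, Fin.prod_univ_three] at this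
  obtain ⟨i0, hi0, hother⟩ : ∃ i0, dc i0 = 1 ∧ ∀ j, j ≠ i0 → dc j = -1 := by
    have hnot1 : ¬ (dc 0 = 1 ∧ dc 1 = 1 ∧ dc 2 = 1) := fun h => hc1 (hMinj (by
      rw [hdc, map_one]
      refine Matrix.ext fun i j => ?_
      fin_cases i <;> fin_cases j <;> simp [h.1, h.2.1, h.2.2]))
    rcases hdc1 0 with a | a <;> rcases hdc1 1 with b | b <;> rcases hdc1 2 with d | d <;>
      rw [a, b, d] at hdet <;> try (exfalso; apply hne1; linear_combination hdet)
    · exact absurd ⟨a, b, d⟩ hnot1
    · exact ⟨0, a, fun j hj => match j, hj with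
        | 0, hj => absurd rfl hj
        | 1, _ => b
        | 2, _ => d⟩
    · exact ⟨1, b, fun j hj => match j, hj with
        | 0, _ => a
        | 1, hj => absurd rfl hj
        | 2, _ => d⟩
    · exact ⟨2, d, fun j hj => match j, hj with
        | 0, _ => a
        | 1, _ => b
        | 2, hj => absurd rfl hj⟩
  have hblock : ∀ (x : P) (j : Fin 3), j ≠ i0 → M x i0 j = 0 ∧ M x j i0 = 0 := fun x j hj =>
    ⟨hzero x c dc hdc (hcc x) i0 j (by rw [hi0, hother j hj]; exact hne1.symm),
      hzero x c dc hdc (hcc x) j i0 (by rw [hi0, hother j hj]; exact hne1)⟩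
  let l0 : P →* F :=
    { toFun := fun x => M x i0 i0
      map_one' := by simp
      map_mul' := fun x y => by
        rw [map_mul, Matrix.mul_apply]
        exact Finset.sum_eq_single i0 (fun k _ hk => by rw [(hblock x k hk).1, zero_mul])
          (fun h => absurd (Finset.mem_univ i0) h) }
  let lam := l0.toHomUnits
  have huniq : ∀ w : P, (∀ x : P, x * w = w * x) → w * w = 1 → w ≠ 1 → lam w = 1 → w = c := by
    intro w hw hw2 hw1 hl
    obtain ⟨d, hd, hd1⟩ := hcentral w hw hw2
    have hdi : d i0 = 1 := by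
      have := congrArg Units.val hl
      change M w i0 i0 = 1 at this
      rwa [hd, Matrix.diagonal_apply_eq] at this
    have heq : ∀ j k, j ≠ i0 → k ≠ i0 → d j = d k := by
      intro j k hj hk
      by_contra hjk
      refine hnab ⟨⟨fun x y => hMinj ?_⟩⟩
      have hdiag : ∀ (u : P) (a b : Fin 3), a ≠ b → M u a b = 0 := by
        intro u a b hab
        rcases eq_or_ne a i0 with rfl | ha
        · exact (hblock u b hab.symm).1
        rcases eq_or_ne b i0 with rfl | hb
        · exact (hblock u a ha).2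
        refine hzero u w d hd (hw u) a b ?_
        have key : ∀ i0 a b j k : Fin 3, a ≠ b → a ≠ i0 → b ≠ i0 → j ≠ i0 → k ≠ i0 → j ≠ k →
            (a = j ∧ b = k) ∨ (a = k ∧ b = j) := by intros; omega
        rcases key i0 a b j k hab ha hb hj hk (fun h => hjk (by rw [h])) with ⟨rfl, rfl⟩ | ⟨rfl, rfl⟩
        · exact hjk
        · exact Ne.symm hjk
      have hD : ∀ u : P, M u = Matrix.diagonal fun a => M u a a := fun u => Matrix.ext fun a b => by
        by_cases hab : a = b
        · subst hab; rw [Matrix.diagonal_apply_eq]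
        · rw [Matrix.diagonal_apply_ne _ hab, hdiag u a b hab]
      rw [map_mul, map_mul, hD x, hD y, Matrix.diagonal_mul_diagonal, Matrix.diagonal_mul_diagonal]
      congr 1; funext a; exact mul_comm _ _
    by_cases hall : ∀ j, j ≠ i0 → d j = -1
    · refine hMinj ?_
      rw [hd, hdc]; congr 1; funext j
      rcases eq_or_ne j i0 with rfl | hj
      · rw [hdi, hi0]
      · rw [hall j hj, hother j hj]
    · push Not at hall
      obtain ⟨j, hj, hdj⟩ := hall
      refine absurd (hMinj ?_) hw1
      rw [hd, map_one, ← Matrix.diagonal_one]; congr 1; funext k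
      rcases eq_or_ne k i0 with rfl | hk
      · exact hdi
      · rw [heq k j hk hj]; exact (hd1 j).resolve_right hdj
  have hcC : c ∈ commutator P := by
    have hne : commutator P ≠ ⊥ := fun h => hnab ⟨⟨fun x y => commutatorElement_eq_one_iff_mul_comm.1
      (mem_bot.1 (h ▸ commutator_mem_commutator (mem_top x) (mem_top y)))⟩⟩
    obtain ⟨w, hwK, hwc, hw1, hw2⟩ := hnorm_inv (commutator P) inferInstance hne
    exact huniq w hwc hw2 hw1 (Abelianization.commutator_subset_ker lam hwK) ▸ hwK
  obtain ⟨z, hz⟩ := hpat fun i => decide (i = i0)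
  have hzl : lam z = -1 := Units.ext (show M z i0 i0 = _ by rw [hz]; simp [val])
  have hzc : ∀ x : P, x * z = z * x := fun x => hMinj (by
    refine Matrix.ext fun i j => ?_
    rw [map_mul, map_mul, hz, Matrix.mul_diagonal, Matrix.diagonal_mul]
    rcases eq_or_ne j i with rfl | hj
    · exact mul_comm _ _
    rcases eq_or_ne i i0 with rfl | hi
    · rw [(hblock x j hj).1, zero_mul, mul_zero]
    rcases eq_or_ne j i0 with rfl | hj0
    · rw [(hblock x i hi).2, zero_mul, mul_zero]
    rw [decide_eq_false hj0, decide_eq_false hi]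
    exact mul_comm _ _)
  have hz2 : z * z = 1 := hMinj (by
    rw [map_mul, map_one, hz, Matrix.diagonal_mul_diagonal, ← Matrix.diagonal_one]
    congr 1; funext i
    by_cases h : i = i0 <;> simp [val, h])
  obtain ⟨H, hH⟩ := exists_index_two hP hidx h2 lam (z := (z : G)) z.2
    (by exact_mod_cast congrArg Subtype.val hz2) (fun x hx => congrArg Subtype.val (hzc ⟨x, hx⟩))
    fun g hg h => by
      let φ : MulAut P := Subgroup.normalizerMonoidHom P ⟨g⁻¹, inv_mem hg⟩
      have hφ : φ z = ⟨g⁻¹ * (z : G) * g, h⟩ := Subtype.ext (by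
        show g⁻¹ * (z : G) * g⁻¹⁻¹ = _
        rw [inv_inv])
      rw [← hφ]
      have hw : ∀ x : P, x * φ z = φ z * x := fun x => by
        obtain ⟨y, rfl⟩ := φ.surjective x
        rw [← map_mul, ← map_mul, hzc y]
      have hs : lam (φ z) = 1 ∨ lam (φ z) = -1 := by
        have hsq : ((lam (φ z) : Fˣ) : F) * (lam (φ z) : Fˣ) = 1 := by
          rw [← Units.val_mul, ← map_mul, ← map_mul, hz2, map_one, map_one, Units.val_one]
        rcases mul_self_eq_one_iff.1 hsq with e | e
        · exact Or.inl (Units.ext e)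
        · exact Or.inr (Units.ext (by simpa using e))
      refine hs.resolve_left fun h1 => ?_
      have hzne : z ≠ 1 := fun e => by
        rw [e, map_one] at hzl
        exact hne1 (by simpa using (congrArg Units.val hzl).symm)
      have hwc := huniq _ hw (by rw [← map_mul, hz2, map_one]) (fun e => hzne (φ.injective (e.trans (map_one φ).symm))) h1
      have hzC : z ∈ commutator P := by
        have : φ z ∈ (commutator P).map φ.toMonoidHom := by
          rw [characteristic_iff_map_eq.1 inferInstance φ, hwc]; exact hcC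
        obtain ⟨u, hu, he⟩ := this
        exact φ.injective he ▸ hu
      have h1' := Abelianization.commutator_subset_ker lam hzC
      rw [MonoidHom.mem_ker, hzl] at h1'
      exact hne1 (by simpa using congrArg Units.val h1')
  exact hG H hH

end CfsgLib.Techniques.GLThreeSylow
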