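import Cfsg.Agent.Lib.Techniques.Functor.TransferStatements
import Cfsg.Agent.Lib.Techniques.KSeq
import Cfsg.Agent.S1983

/-!
The K-infinity subgroups control transfer for `p ≥ 5` and strong fusion in groups with `p`-stable
sections.
-/

namespace CfsgLib.Techniques.KInfControl

open Subgroup Cfsg CfsgLib.Techniques CfsgLib.Techniques.Functor

universe u

theorem iterCommutator_le_of_le {G : Type*} [Group G] {U V : Subgroup G} [V.Normal] (H : Subgroup G)
    {m n : ℕ} (hmn : m ≤ n) (h : iterCommutator U H m ≤ V) : iterCommutator U H n ≤ V := by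
  induction hmn with
  | refl => exact h
  | step _ ih => exact (commutator_mono ih le_rfl).trans (commutator_le_left V H)

theorem pstable_congr {Γ Δ : Type*} [Group Γ] [Group Δ] [Finite Δ] {p : ℕ} (e : Γ ≃* Δ)
    (h : IsNormalizerPStable p Γ) : IsNormalizerPStable p Δ := by
  intro P hP g hg hq
  set f : Δ →* Γ := e.symm.toMonoidHom with hf
  have hfi : Function.Injective f := e.symm.injective
  set P' := P.map f with hP'
  have hN : ∀ x ∈ normalizer (P : Set Δ), f x ∈ normalizer (P' : Set Γ) := fun x hx =>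
    le_normalizer_map f (mem_map_of_mem f hx)
  have hNinv : ∀ y ∈ normalizer (P' : Set Γ), e y ∈ normalizer (P : Set Δ) := by
    intro y hy
    have h1 := le_normalizer_map e.toMonoidHom (mem_map_of_mem e.toMonoidHom hy)
    rwa [hP', map_map, show e.toMonoidHom.comp f = MonoidHom.id Δ from
      MonoidHom.ext e.apply_symm_apply, map_id] at h1
  let a : ↥(normalizer (P : Set Δ)) →* ↥(normalizer (P' : Set Γ)) :=
    (f.comp (normalizer (P : Set Δ)).subtype).codRestrict _ fun x => hN x x.2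
  let C := (centralizer (P : Set Δ)).subgroupOf (normalizer (P : Set Δ))
  let C' := (centralizer (P' : Set Γ)).subgroupOf (normalizer (P' : Set Γ))
  have hC : ∀ x : ↥(normalizer (P : Set Δ)), x ∈ C ↔ a x ∈ C' := fun x => by
    constructor
    · intro hx
      refine mem_centralizer_iff.2 ?_
      rintro _ ⟨z, hz, rfl⟩
      show f z * f x = f x * f z
      rw [← map_mul, ← map_mul]
      exact congrArg f (mem_centralizer_iff.1 hx z hz)
    · intro hx
      refine mem_centralizer_iff.2 fun z hz => hfi ?_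
      rw [map_mul, map_mul]
      exact mem_centralizer_iff.1 hx (f z) (mem_map_of_mem f hz)
  let q : ↥(normalizer (P : Set Δ)) ⧸ C →* ↥(normalizer (P' : Set Γ)) ⧸ C' :=
    QuotientGroup.map _ _ a fun x hx => (hC x).1 hx
  have hqinj : Function.Injective q := by
    rw [injective_iff_map_eq_one]
    intro x hx
    obtain ⟨x, rfl⟩ := QuotientGroup.mk'_surjective C x
    exact (QuotientGroup.eq_one_iff x).2 ((hC x).2 ((QuotientGroup.eq_one_iff (a x)).1 hx))
  have hqsurj : Function.Surjective q := by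
    intro y
    obtain ⟨y, rfl⟩ := QuotientGroup.mk'_surjective C' y
    exact ⟨QuotientGroup.mk' C ⟨e y, hNinv y y.2⟩,
      congrArg (QuotientGroup.mk' C') (Subtype.ext (e.symm_apply_apply y))⟩
  have hmem := h P' (hP.map f) (f g) (hN g hg) (by
    rw [hP', ← MonoidHom.map_zpowers, ← map_commutator, ← map_commutator, hq, Subgroup.map_bot])
  let qe := MulEquiv.ofBijective q ⟨hqinj, hqsurj⟩
  have h2 := CfsgLib.Cores.map_pCore_equiv (p := p) qe
  have hmem' : q (QuotientGroup.mk' C ⟨g, hg⟩) ∈ (pCore p _).map qe.toMonoidHom := by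
    rw [h2]; exact hmem
  obtain ⟨z, hz, hzq⟩ := hmem'
  have h3 := hqinj hzq
  rwa [h3] at hz

variable {p : ℕ} [Fact p.Prime]

/-- The two K-infinity functors. -/
structure IsKInf (W : ∀ (Q : Type u) [Group Q], Subgroup Q) (p : ℕ) : Prop where
  functor : IsCharPFunctor.{u} p W
  good : ∀ (Γ : Type u) [Group Γ] [Finite Γ] (T : Sylow p Γ),
    ¬ (inducedFunctor (G := Γ) W (T : Subgroup Γ)).Normal →
      ¬ (inducedFunctor (G := Γ) kInfLower (T : Subgroup Γ)).Normal ∨
      ¬ (inducedFunctor (G := Γ) kInfUpper (T : Subgroup Γ)).Normal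

theorem isKInf_lower : IsKInf.{u} kInfLower p :=
  ⟨KSeq.isCharPFunctor_kInfLower p, fun _ _ _ _ h => Or.inl h⟩

theorem isKInf_upper : IsKInf.{u} kInfUpper p :=
  ⟨KSeq.isCharPFunctor_kInfUpper p, fun _ _ _ _ h => Or.inr h⟩

variable {W : ∀ (Q : Type u) [Group Q], Subgroup Q}

theorem tgtOK (hW : IsKInf W p) (hp : 5 ≤ p) (G : Type u) [Group G] [Finite G]
    (Γ : Type u) [Group Γ] [Finite Γ] (hΓ : IsSect Γ G) :
    TgtOK p ({W} : Set (∀ (Q : Type u) [Group Q], Subgroup Q)) Γ := by
  refine tgtOK_sections (by rintro _ rfl; exact hW.functor) (fun K R hR _ T hsub => ?_) Γ hΓ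
  refine step_of_good T (fun hn => ?_) hsub
  obtain ⟨g, hgT, hgP, h4, -, -⟩ := Cfsg.Agent.S1983.result T (hW.good _ T hn)
  refine ⟨g, hgT, hgP, fun U V hUV hUP => ?_⟩
  haveI := hUV.2.2.1
  exact iterCommutator_le_of_le _ (by omega) (h4 U V hUV hUP)

theorem ctrlAll (hW : IsKInf W p) {G : Type u} [Group G] [Finite G]
    (hst : ∀ (K R : Subgroup G) [hR : (R.subgroupOf K).Normal],
      IsNormalizerPStable p (↥K ⧸ R.subgroupOf K)) :
    CtrlAll p ({W} : Set (∀ (Q : Type u) [Group Q], Subgroup Q)) G := by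
  have h𝓦 : ∀ W' ∈ ({W} : Set (∀ (Q : Type u) [Group Q], Subgroup Q)), IsCharPFunctor.{u} p W' := by
    rintro _ rfl; exact hW.functor
  refine ctrlAll_of_constrained h𝓦 G fun Δ _ _ hΔ hc =>
    constrained_hyp h𝓦 (fun K R hR hc' T A g _ hA hgA => ?_) Δ hΔ hc
  refine Fus.of_mem ⟨W, rfl, rfl⟩ ?_ hgA
  by_cases hn : (inducedFunctor (G := ↥K ⧸ R.subgroupOf K) W (T : Subgroup _)).Normal
  · exact Chief.mem_normalizer_of_normal _ g
  · obtain ⟨-, -, -, -, -, hbad⟩ := Cfsg.Agent.S1983.result T (hW.good _ T hn)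
    obtain ⟨N, hN, hns⟩ := hbad hc'
    obtain ⟨K', R', hR', ⟨e⟩⟩ := ((IsSect.quotient N).trans (sect_quotient K R)).exists_quotient
    exact absurd (pstable_congr e (hst K' R')) hns

end CfsgLib.Techniques.KInfControl
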