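import Cfsg.Agent.Lib.Techniques.KSeq
import Cfsg.Agent.Lib.Techniques.ChiefTools
import Cfsg.Prelude.Def_ConjugacyFunctors

/-!
If some K-infinity subgroup of a Sylow `p`-subgroup is not normal, some element outside `O_p(G)` acts
quadratically on the centre of a critical subgroup of `O_p(G)` and cubically modulo it.
-/

namespace CfsgLib.Techniques.KInfCritical

open Subgroup Cfsg CfsgLib.Techniques
open scoped commutatorElement

variable {G : Type*} [Group G]

theorem le_normalizer_sup {L X Y : Subgroup G} (hX : L ≤ normalizer (X : Set G))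
    (hY : L ≤ normalizer (Y : Set G)) : L ≤ normalizer ((X ⊔ Y : Subgroup G) : Set G) := by
  intro c hc
  have key : ∀ c ∈ L, ∀ x ∈ X ⊔ Y, c * x * c⁻¹ ∈ X ⊔ Y := fun c hc x hx =>
    (sup_le (fun x hx => mem_sup_left ((mem_normalizer_iff.1 (hX hc) x).1 hx))
      (fun x hx => mem_sup_right ((mem_normalizer_iff.1 (hY hc) x).1 hx)) :
        X ⊔ Y ≤ (X ⊔ Y).comap (MulAut.conj c).toMonoidHom) hx
  refine mem_normalizer_iff.2 fun x => ⟨key c hc x, fun hx => ?_⟩
  simpa [mul_assoc] using key c⁻¹ (inv_mem hc) _ hx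

theorem le_normalizer_inf {L X Y : Subgroup G} (hX : L ≤ normalizer (X : Set G))
    (hY : L ≤ normalizer (Y : Set G)) : L ≤ normalizer ((X ⊓ Y : Subgroup G) : Set G) := by
  intro c hc
  refine mem_normalizer_iff.2 fun x => ?_
  rw [mem_inf, mem_inf, mem_normalizer_iff.1 (hX hc) x, mem_normalizer_iff.1 (hY hc) x]

/-- Commutation with `g` respects congruence modulo a normal subgroup. -/
theorem iter_congr {V : Subgroup G} [V.Normal] (g : G) (n : ℕ) {x y : G}
    (h : QuotientGroup.mk' V x = QuotientGroup.mk' V y) :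
    QuotientGroup.mk' V ((fun x => ⁅x, g⁆)^[n] x) = QuotientGroup.mk' V ((fun x => ⁅x, g⁆)^[n] y) := by
  induction n with
  | zero => exact h
  | succ n ih =>
    simp only [Function.iterate_succ_apply']
    rw [map_commutatorElement, map_commutatorElement, ih]

theorem mem_iff_mk {V : Subgroup G} [V.Normal] {x : G} : x ∈ V ↔ QuotientGroup.mk' V x = 1 :=
  (QuotientGroup.eq_one_iff x).symm

theorem mk_comm_mul {V U : Subgroup G} [V.Normal] (hUU : ⁅U, U⁆ ≤ V) {x y : G} (hx : x ∈ U)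
    (hy : y ∈ U) : QuotientGroup.mk' V x * QuotientGroup.mk' V y =
      QuotientGroup.mk' V y * QuotientGroup.mk' V x := by
  rw [← commutatorElement_eq_one_iff_mul_comm, ← map_commutatorElement, ← mem_iff_mk]
  exact hUU (commutator_mem_commutator hx hy)

theorem comm_elt_mem {U : Subgroup G} {g : G} (hU : g ∈ normalizer (U : Set G)) {u : G}
    (hu : u ∈ U) : ⁅u, g⁆ ∈ U := by
  have := mul_mem hu ((mem_normalizer_iff.1 hU _).1 (inv_mem hu))
  rwa [show u * (g * u⁻¹ * g⁻¹) = ⁅u, g⁆ by simp only [commutatorElement_def]; group] at this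

theorem iter_mem {U : Subgroup G} {g : G} (hU : g ∈ normalizer (U : Set G)) {u : G} (hu : u ∈ U)
    (n : ℕ) : (fun x => ⁅x, g⁆)^[n] u ∈ U := by
  induction n with
  | zero => exact hu
  | succ n ih => rw [Function.iterate_succ_apply']; exact comm_elt_mem hU ih

/-- On an abelian section the iterated commutation map is a homomorphism. -/
theorem iter_mul {U V : Subgroup G} [V.Normal] {g : G} (hU : g ∈ normalizer (U : Set G))
    (hUU : ⁅U, U⁆ ≤ V) (n : ℕ) {x y : G} (hx : x ∈ U) (hy : y ∈ U) :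
    QuotientGroup.mk' V ((fun x => ⁅x, g⁆)^[n] (x * y)) =
      QuotientGroup.mk' V ((fun x => ⁅x, g⁆)^[n] x) *
        QuotientGroup.mk' V ((fun x => ⁅x, g⁆)^[n] y) := by
  induction n with
  | zero => exact map_mul _ x y
  | succ n ih =>
    simp only [Function.iterate_succ_apply']
    have hxn := iter_mem hU hx n
    have hyn := iter_mem hU hy n
    rw [map_commutatorElement, ih, ← map_mul, ← map_commutatorElement, Chief.elt_mul_left, map_mul,
      map_mul, map_mul, mk_comm_mul hUU hxn (comm_elt_mem hU hyn), map_inv]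
    rw [mul_inv_cancel_right, mk_comm_mul hUU (comm_elt_mem hU hyn) (comm_elt_mem hU hxn)]

variable [Finite G] {p : ℕ} [Fact p.Prime]

theorem exists_nontrivial_factor {A : Subgroup G} [A.Normal] (hAT : A ≤ pCore p G)
    (hA5 : ∀ φ : MulAut ↥(pCore p G), (orderOf φ).Coprime p →
      (∀ a : ↥(pCore p G), (a : G) ∈ A → φ a = a) → φ = 1)
    (hC : centralizer ((pCore p G : Subgroup G) : Set G) ≤ pCore p G)
    {g : G} (hg : g ∉ pCore p G) :
    ∃ U V : Subgroup G, IsChiefFactor U V ∧ U ≤ A ∧ ¬ ⁅U, zpowers g⁆ ≤ V := by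
  by_contra h
  push Not at h
  refine hg ?_
  have hTn : (pCore p G).Normal := by
    have := CfsgLib.Cores.pCore_characteristic (G := G) p
    infer_instance
  have hT : IsPGroup p (pCore p G) := CfsgLib.Cores.isPGroup_pCore p
  have hgK : g ∈ Chief.chiefKer A := fun U V hUV hUA u hu =>
    h U V hUV hUA (commutator_mem_commutator hu (mem_zpowers g))
  refine CfsgLib.Cores.le_pCore (N := Chief.chiefKer A) (Chief.isPGroup_of_coprime ?_) hgK
  intro k hk hc
  have hkA := Chief.centralizes_of_coprime (hT.to_le hAT) hk hc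
  have hφ : (MulAut.conjNormal k : MulAut ↥(pCore p G)) = 1 := by
    refine hA5 _ (Nat.Coprime.coprime_dvd_left (orderOf_map_dvd _ k) hc) fun a ha => ?_
    refine Subtype.ext ?_
    rw [MulAut.conjNormal_apply, ← mem_centralizer_iff.1 hkA _ ha, mul_inv_cancel_right]
  have hkC : k ∈ centralizer ((pCore p G : Subgroup G) : Set G) := by
    refine mem_centralizer_iff.2 fun t ht => ?_
    have := congrArg (fun φ : MulAut ↥(pCore p G) => ((φ ⟨t, ht⟩ : ↥(pCore p G)) : G)) hφ
    simp only [MulAut.conjNormal_apply, MulAut.one_apply] at this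
    calc t * k = k * t * k⁻¹ * k := by rw [this]
      _ = k * t := by group
  obtain ⟨n, hn⟩ := hT ⟨k, hC hkC⟩
  rw [← orderOf_eq_one_iff]
  exact Nat.eq_one_of_dvd_coprimes (Nat.Coprime.pow_right n hc) dvd_rfl
    (orderOf_dvd_of_pow_eq_one (congrArg Subtype.val hn))

theorem kInf_normal_or_exists (S : Sylow p G) (A : Subgroup G) (hAT : A ≤ pCore p G)
    (hAchar : (A.subgroupOf (pCore p G)).Characteristic)
    (hA2 : ⁅A, A⁆ ≤ centralizer (A : Set G))
    (hA3 : ⁅pCore p G, A⁆ ≤ A ⊓ centralizer (A : Set G))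
    (hA5 : ∀ φ : MulAut ↥(pCore p G), (orderOf φ).Coprime p →
      (∀ a : ↥(pCore p G), (a : G) ∈ A → φ a = a) → φ = 1) :
    ((inducedFunctor kInfLower (S : Subgroup G)).Normal ∧
      (inducedFunctor kInfUpper (S : Subgroup G)).Normal) ∨
    ∃ g : G, g ∈ (S : Subgroup G) ∧ g ∉ pCore p G ∧
      iterCommutator A (zpowers g) 3 ≤ A ⊓ centralizer (A : Set G) ∧
      ⁅⁅A ⊓ centralizer (A : Set G), zpowers g⁆, zpowers g⁆ = ⊥ ∧
      (centralizer ((pCore p G : Subgroup G) : Set G) ≤ pCore p G →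
        ∃ U V : Subgroup G, IsChiefFactor U V ∧ U ≤ A ∧
          ⁅⁅U, zpowers g⁆, zpowers g⁆ ≤ V ∧ ¬ ⁅U, zpowers g⁆ ≤ V) := by
  rw [or_iff_not_imp_right]
  intro hno
  have hTc := CfsgLib.Cores.pCore_characteristic (G := G) p
  have hTn : (pCore p G).Normal := inferInstance
  have hAn : A.Normal := Chief.normal_of_characteristic_subgroupOf hAT hAchar
  have hT : IsPGroup p (pCore p G) := CfsgLib.Cores.isPGroup_pCore p
  have hTS : pCore p G ≤ (S : Subgroup G) := CfsgLib.Cores.pCore_le_sylow S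
  set Z := A ⊓ centralizer (A : Set G) with hZ
  have hZn : Z.Normal := inferInstance
  have hZA : Z ≤ A := inf_le_left
  have hAA : ⁅A, A⁆ ≤ Z := le_inf (commutator_le_self A) hA2
  have hAT' : ⁅A, pCore p G⁆ ≤ Z := by rw [commutator_comm]; exact hA3
  have hZZ : ⁅Z, Z⁆ = ⊥ :=
    commutator_eq_bot_iff_le_centralizer.2 (inf_le_right.trans (centralizer_le hZA))
  have zcomm : ∀ {z a : G}, z ∈ Z → a ∈ A → a * z = z * a :=
    fun hz ha => mem_centralizer_iff.1 hz.2 _ ha
  have cubic_iff : ∀ g : G, (∀ a ∈ A, ⁅⁅⁅a, g⁆, g⁆, g⁆ ∈ Z) → iterCommutator A (zpowers g) 3 ≤ Z :=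
    fun g h => (Chief.iter_le_iff_normal hZA hAA g 3).2 h
  have quadZ_iff : ∀ g : G, (∀ z ∈ Z, ⁅⁅z, g⁆, g⁆ = 1) → ⁅⁅Z, zpowers g⁆, zpowers g⁆ = ⊥ :=
    fun g h => le_bot_iff.1 ((Chief.iter_le_iff_normal (V := ⊥) bot_le hZZ.le g 2).2
      fun z hz => mem_bot.2 (h z hz))
  -- quadratic elements lie in `T`
  have G1 : ∀ x ∈ (S : Subgroup G), (∀ a ∈ A, ⁅⁅a, x⁆, x⁆ ∈ Z) → (∀ z ∈ Z, ⁅⁅z, x⁆, x⁆ = 1) →
      x ∈ pCore p G := by
    intro x hxS h1 h2
    by_contra hx
    refine hno ⟨x, hxS, hx, cubic_iff x fun a ha => comm_elt_mem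
      (Chief.mem_normalizer_of_normal Z x) (h1 a ha), quadZ_iff x h2, fun hC => ?_⟩
    obtain ⟨U, V, hUV, hUA, hnt⟩ := exists_nontrivial_factor hAT hA5 hC hx
    refine ⟨U, V, hUV, hUA, ?_, hnt⟩
    haveI := hUV.2.1
    haveI := hUV.2.2.1
    refine (Chief.iter_le_iff_normal hUV.1.le (Chief.chief_comm hUV (hT.to_le (hUA.trans hAT))) x 2).2
      fun u hu => ?_
    rcases hUV.2.2.2 (V ⊔ U ⊓ Z) inferInstance le_sup_left (sup_le hUV.1.le inf_le_left) with h | h
    · exact h.le (mem_sup_right (mem_inf.2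
        ⟨iter_mem (Chief.mem_normalizer_of_normal U x) hu 2, h1 u (hUA hu)⟩))
    · obtain ⟨v, hv, z, hz, rfl⟩ := mem_sup_of_normal_left.1 (h.ge hu)
      rw [mem_iff_mk, iter_congr x 2 (show QuotientGroup.mk' V (v * z) = QuotientGroup.mk' V z by
        rw [map_mul, mem_iff_mk.1 hv, one_mul])]
      show QuotientGroup.mk' V ⁅⁅z, x⁆, x⁆ = 1
      rw [h2 z hz.2, map_one]
  -- the sequence inside `G`
  let f := (S : Subgroup G).subtype
  have hf : Function.Injective f := Subtype.coe_injective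
  let O : ℕ → Subgroup G := fun n => (kSeqOdd ↥(S : Subgroup G) n).map f
  let E : ℕ → Subgroup G := fun n => (kSeqEven ↥(S : Subgroup G) n).map f
  have hOS : ∀ n, O n ≤ (S : Subgroup G) := fun n => map_subtype_le _
  have hES : ∀ n, E n ≤ (S : Subgroup G) := fun n => map_subtype_le _
  have hlift : ∀ {B : Subgroup G}, B ≤ (S : Subgroup G) →
      ∃ B' : Subgroup ↥(S : Subgroup G), B'.map f = B :=
    fun {B} hB => ⟨B.subgroupOf _, map_subgroupOf_eq_of_le hB⟩
  have leE : ∀ n, ∀ B : Subgroup G, B ≤ (S : Subgroup G) → B ∈ kLowerStarFamily (O n) → B ≤ E n := by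
    intro n B hBS hB
    obtain ⟨B, rfl⟩ := hlift hBS
    exact map_mono (le_sSup ((KSeq.lower_map_iff hf).1 hB))
  have leO : ∀ n, ∀ B : Subgroup G, B ≤ (S : Subgroup G) → B ∈ kUpperStarFamily (E n) →
      B ≤ O (n + 1) := by
    intro n B hBS hB
    obtain ⟨B, rfl⟩ := hlift hBS
    exact map_mono (le_sSup ((KSeq.upper_map_iff hf).1 hB))
  have E_le : ∀ (n : ℕ) (X : Subgroup G),
      (∀ B ≤ (S : Subgroup G), B ∈ kLowerStarFamily (O n) → B ≤ X) → E n ≤ X := by
    intro n X h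
    refine map_le_iff_le_comap.2 (sSup_le fun B hB => map_le_iff_le_comap.1 ?_)
    exact h _ (map_subtype_le B) ((KSeq.lower_map_iff hf).2 hB)
  have O_le : ∀ (n : ℕ) (X : Subgroup G),
      (∀ B ≤ (S : Subgroup G), B ∈ kUpperStarFamily (E n) → B ≤ X) → O (n + 1) ≤ X := by
    intro n X h
    refine map_le_iff_le_comap.2 (sSup_le fun B hB => map_le_iff_le_comap.1 ?_)
    exact h _ (map_subtype_le B) ((KSeq.upper_map_iff hf).2 hB)
  -- `A` is in every lower family
  have hAE : ∀ n, A ≤ E n := by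
    intro n
    refine leE n A (hAT.trans hTS) ⟨hA2, Chief.le_normalizer_of_normal A _,
      fun X hX hXQ hAX h3 h4 => ?_⟩
    have hXA : ⁅X, X⁆ ≤ centralizer (A : Set G) :=
      commutator_eq_bot_iff_le_centralizer.1 (by rw [commutator_comm]; exact h3)
    refine (commutator_mono le_rfl ?_).trans hAT'
    intro x hx
    refine G1 x (hOS n (hXQ hx)) (fun a ha => ?_) (fun z hz => ?_)
    · have hax : ⁅a, x⁆ ∈ X := by
        have := mul_mem ((mem_normalizer_iff.1 (hAX ha) x).1 hx) (inv_mem hx)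
        rwa [← commutatorElement_def] at this
      exact mem_inf.2 ⟨comm_elt_mem (Chief.mem_normalizer_of_normal A x)
        (comm_elt_mem (Chief.mem_normalizer_of_normal A x) ha),
        hXA (commutator_mem_commutator hax hx)⟩
    · exact mem_bot.1 (h4.le
        (commutator_mem_commutator (commutator_mem_commutator hz hx) hx))
  -- upper terms
  have hOT : ∀ n, O (n + 1) ≤ pCore p G := by
    refine fun n => O_le n _ fun B hBS hB b hb => ?_
    have key : ∀ a ∈ A, ⁅⁅a, b⁆, b⁆ = 1 := by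
      intro a ha
      have h1 := inv_mem (hB.2 (commutator_mem_commutator hb (hAE n ha)))
      rw [commutatorElement_inv] at h1
      exact commutatorElement_eq_one_iff_mul_comm.2 (mem_centralizer_iff.1 h1.2 b hb).symm
    exact G1 b (hBS hb) (fun a ha => by rw [key a ha]; exact one_mem Z)
      (fun z hz => key z (hZA hz))
  -- lower terms
  have hard : ∀ n, A ≤ O n → E n ≤ pCore p G := by
    intro n hAO
    refine E_le n _ fun B hBS hB => ?_
    obtain ⟨hB2, hBn, hBt⟩ := hB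
    set ZB := B ⊓ centralizer (B : Set G) with hZBdef
    have hBB : ∀ x ∈ B, ∀ y ∈ B, ⁅x, y⁆ ∈ ZB := fun x hx y hy => mem_inf.2
      ⟨commutator_le_self B (commutator_mem_commutator hx hy),
        hB2 (commutator_mem_commutator hx hy)⟩
    have bcomm : ∀ {z b : G}, z ∈ ZB → b ∈ B → b * z = z * b :=
      fun hz hb => mem_centralizer_iff.1 hz.2 _ hb
    have hI : ∀ a ∈ A, ∀ b ∈ B, ⁅a, b⁆ ∈ A ∧ ⁅a, b⁆ ∈ B := fun a ha b hb => by
      refine ⟨comm_elt_mem (Chief.mem_normalizer_of_normal A b) ha, ?_⟩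
      have := mul_mem ((mem_normalizer_iff.1 (hBn (hAO ha)) b).1 hb) (inv_mem hb)
      rwa [← commutatorElement_def] at this
    have hZBT : ZB ≤ pCore p G := by
      intro c hc
      have key : ∀ a ∈ A, ⁅⁅a, c⁆, c⁆ = 1 := fun a ha =>
        commutatorElement_eq_one_iff_mul_comm.2 (bcomm hc (hI a ha c hc.1).2)
      exact G1 c (hBS hc.1) (fun a ha => by rw [key a ha]; exact one_mem Z)
        (fun z hz => key z (hZA hz))
    have hBZ : ⁅B, Z⁆ ≤ ZB := by
      refine hBt Z ?_ (hZA.trans hAO) (Chief.le_normalizer_of_normal Z B) ?_ ?_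
      · show ⁅Z, Z⁆ ≤ centralizer (Z : Set G)
        rw [hZZ]; exact bot_le
      · rw [hZZ, commutator_bot_right]
      · exact le_bot_iff.1 ((commutator_mono (commutator_le_right _ Z) le_rfl).trans hZZ.le)
    have qZ : ∀ b ∈ B, ∀ z ∈ Z, ⁅⁅z, b⁆, b⁆ = 1 := fun b hb z hz => by
      have h1 := inv_mem (hBZ (commutator_mem_commutator hb hz))
      rw [commutatorElement_inv] at h1
      exact commutatorElement_eq_one_iff_mul_comm.2 (bcomm h1 hb).symm
    have cub : ∀ b ∈ B, iterCommutator A (zpowers b) 3 ≤ Z := fun b hb =>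
      cubic_iff b fun a ha => by
        rw [commutatorElement_eq_one_iff_mul_comm.2
          (bcomm (hBB _ (hI a ha b hb).2 b hb) hb).symm]
        exact one_mem Z
    by_contra hBT
    obtain ⟨b, hb, hbT⟩ := SetLike.not_le_iff_exists.1 hBT
    have hBK : B ≤ Chief.chiefKer Z := by
      intro x hx
      by_contra hxK
      have hxT : x ∉ pCore p G := fun h => hxK (Chief.pGroup_le_chiefKer
        (hT.to_le (hZA.trans hAT)) hT h)
      obtain ⟨U, V, hUV, hUZ, u, hu, hnu⟩ : ∃ U V : Subgroup G, IsChiefFactor U V ∧ U ≤ Z ∧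
          ∃ u ∈ U, ⁅u, x⁆ ∉ V := by
        by_contra h
        push Not at h
        exact hxK fun U V hUV hUZ u hu => h U V hUV hUZ u hu
      haveI := hUV.2.1
      haveI := hUV.2.2.1
      refine hno ⟨x, hBS hx, hxT, cub x hx, quadZ_iff x (qZ x hx), fun _ =>
        ⟨U, V, hUV, hUZ.trans hZA, ?_, fun h => hnu (h (commutator_mem_commutator hu
          (mem_zpowers x)))⟩⟩
      exact (Chief.iter_le_iff_normal hUV.1.le (Chief.chief_comm hUV
        (hT.to_le ((hUZ.trans hZA).trans hAT))) x 2).2 fun w hw => by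
          show ⁅⁅w, x⁆, x⁆ ∈ V
          rw [qZ x hx w (hUZ hw)]; exact one_mem V
    set J := Z ⊓ centralizer (B : Set G) with hJdef
    have hJZ : J ≤ Z := inf_le_left
    let AJ : Subgroup G :=
      { carrier := {a | a ∈ A ∧ ∀ y ∈ A, ⁅a, y⁆ ∈ J}
        one_mem' := ⟨one_mem A, fun y _ => by simp⟩
        mul_mem' := fun {a a'} ha ha' => ⟨mul_mem ha.1 ha'.1, fun y hy => by
          rw [Chief.elt_mul_left, zcomm (hJZ (ha'.2 y hy)) ha.1, mul_inv_cancel_right]
          exact mul_mem (ha'.2 y hy) (ha.2 y hy)⟩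
        inv_mem' := fun {a} ha => ⟨inv_mem ha.1, fun y hy => by
          rw [show ⁅a⁻¹, y⁆ = a⁻¹ * ⁅a, y⁆⁻¹ * a⁻¹⁻¹ by simp only [commutatorElement_def]; group,
            zcomm (inv_mem (hJZ (ha.2 y hy))) (inv_mem ha.1), mul_inv_cancel_right]
          exact inv_mem (ha.2 y hy)⟩ }
    let C := centralizer (Z : Set G)
    let L := C ⊔ B
    have hLJ : L ≤ centralizer (J : Set G) :=
      sup_le (centralizer_le hJZ) (le_centralizer_iff.1 inf_le_right)
    have hLAJ : L ≤ normalizer (AJ : Set G) := by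
      have key : ∀ l ∈ L, ∀ a ∈ AJ, l * a * l⁻¹ ∈ AJ := by
        intro l hl a ha
        refine ⟨hAn.conj_mem a ha.1 l, fun y hy => ?_⟩
        have hy' : l⁻¹ * y * l ∈ A := by simpa using hAn.conj_mem y hy l⁻¹
        have h1 := ha.2 _ hy'
        rw [show ⁅l * a * l⁻¹, y⁆ = l * ⁅a, l⁻¹ * y * l⁆ * l⁻¹ by
          simp only [commutatorElement_def]; group,
          ← mem_centralizer_iff.1 (hLJ hl) _ h1, mul_inv_cancel_right]
        exact h1
      intro l hl
      refine mem_normalizer_iff.2 fun x => ⟨key l hl x, fun hx => ?_⟩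
      simpa [mul_assoc] using key l⁻¹ (inv_mem hl) _ hx
    have hf2 : ∀ a ∈ A, ⁅⁅a, b⁆, b⁆ ∈ AJ := by
      intro a ha
      set u := ⁅a, b⁆ with hu
      obtain ⟨huA, huB⟩ := hI a ha b hb
      set w := ⁅u, b⁆⁻¹ with hw
      obtain ⟨hu1A, hu1B⟩ := hI u huA b hb
      suffices w ∈ AJ by simpa [hw] using inv_mem this
      refine ⟨inv_mem hu1A, fun y hy => ?_⟩
      set v := ⁅b, y⁆ with hv
      have hvAB : v ∈ A ∧ v ∈ B := by
        have h2 := hI y hy b hb
        rw [hv, ← commutatorElement_inv y b]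
        exact ⟨inv_mem h2.1, inv_mem h2.2⟩
      have hZ' : ∀ {s t : G}, s ∈ A → t ∈ A → ⁅s, t⁆ ∈ Z :=
        fun hs ht => hAA (commutator_mem_commutator hs ht)
      have hJ' : ∀ {s t : G}, s ∈ A → t ∈ A → s ∈ B → t ∈ B → ⁅s, t⁆ ∈ J :=
        fun hs ht hs' ht' => mem_inf.2 ⟨hZ' hs ht, (hBB _ hs' _ ht').2⟩
      have hj : ⁅b, ⁅u, y⁆⁆ ∈ J := by
        refine mem_inf.2 ⟨?_, (hBZ (commutator_mem_commutator hb (hZ' huA hy))).2⟩
        have := inv_mem (comm_elt_mem (Chief.mem_normalizer_of_normal Z b) (hZ' huA hy))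
        rwa [commutatorElement_inv] at this
      have hexp : ⁅w * u, v * y⁆ = ⁅u, v⁆ * ⁅u, y⁆ * (⁅w, v⁆ * ⁅w, y⁆) := by
        have hwA : w ∈ A := inv_mem hu1A
        rw [Chief.elt_mul_left, zcomm (hZ' huA (mul_mem hvAB.1 hy)) hwA, mul_inv_cancel_right,
          Chief.elt_mul_right, Chief.elt_mul_right, zcomm (hZ' huA hy) hvAB.1, mul_inv_cancel_right,
          zcomm (hZ' hwA hy) hvAB.1, mul_inv_cancel_right]
      have heq : ⁅w * u, v * y⁆ = ⁅b, ⁅u, y⁆⁆ * ⁅u, y⁆ := by
        rw [hw, hv]; simp only [commutatorElement_def]; group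
      have hwy : ⁅w, y⁆ = ⁅w, v⁆⁻¹ * (⁅u, y⁆⁻¹ * (⁅u, v⁆⁻¹ * ⁅b, ⁅u, y⁆⁆) * ⁅u, y⁆) := by
        calc ⁅w, y⁆ = ⁅w, v⁆⁻¹ * (⁅u, y⁆⁻¹ * (⁅u, v⁆⁻¹ *
              (⁅u, v⁆ * ⁅u, y⁆ * (⁅w, v⁆ * ⁅w, y⁆)))) := by group
          _ = ⁅w, v⁆⁻¹ * (⁅u, y⁆⁻¹ * (⁅u, v⁆⁻¹ * (⁅b, ⁅u, y⁆⁆ * ⁅u, y⁆))) := by rw [← hexp, heq]
          _ = _ := by group
      have hm := mul_mem (inv_mem (hJ' huA hvAB.1 huB hvAB.2)) hj
      rw [hwy, mul_assoc, ← zcomm (hJZ hm) (hZA (hZ' huA hy)), inv_mul_cancel_left]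
      exact mul_mem (inv_mem (hJ' (inv_mem hu1A) hvAB.1 (inv_mem hu1B) hvAB.2)) hm
    have hBAJ : ⁅B, AJ⁆ ≤ ZB := by
      have hAJA : AJ ≤ A := fun a ha => ha.1
      have hJJ : ⁅AJ, AJ⁆ ≤ J := by
        rw [commutator_le]
        exact fun a ha a' ha' => ha.2 a' ha'.1
      refine hBt AJ ?_ (hAJA.trans hAO) ((le_sup_right : B ≤ L).trans hLAJ) ?_ ?_
      · exact ((commutator_mono hAJA hAJA).trans hA2).trans (centralizer_le hAJA)
      · rw [commutator_eq_bot_iff_le_centralizer]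
        exact le_centralizer_iff.1 (hJJ.trans inf_le_right)
      · have h1 : ⁅ZB, AJ⁆ ≤ Z := (commutator_mono hZBT hAJA).trans hA3
        exact le_bot_iff.1 ((commutator_mono h1 hAJA).trans
          (commutator_eq_bot_iff_le_centralizer.2 inf_le_right).le)
    have qAJ : ∀ a ∈ AJ, ⁅⁅a, b⁆, b⁆ = 1 := fun a ha => by
      have h1 := inv_mem (hBAJ (commutator_mem_commutator hb ha))
      rw [commutatorElement_inv] at h1
      exact commutatorElement_eq_one_iff_mul_comm.2 (bcomm h1 hb).symm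
    have hLs : L.IsSubnormal := by
      refine Chief.isSubnormal_of_between (p := p) (C := C) (K := Chief.chiefKer Z) inferInstance
        (Chief.isPGroup_map_of_coprime _ fun k hk hc => ?_) L le_sup_left
        (sup_le (Chief.centralizer_le_chiefKer Z) hBK)
      exact mem_iff_mk.1 (Chief.centralizes_of_coprime (hT.to_le (hZA.trans hAT)) hk hc)
    refine hno ⟨b, hBS hb, hbT, cub b hb, quadZ_iff b (qZ b hb), fun hC => ?_⟩
    obtain ⟨U, V, hUV, hUA, hnt⟩ := exists_nontrivial_factor hAT hA5 hC hbT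
    haveI := hUV.2.1
    haveI := hUV.2.2.1
    have hUU := Chief.chief_comm hUV (hT.to_le (hUA.trans hAT))
    refine ⟨U, V, hUV, hUA, (Chief.iter_le_iff_normal hUV.1.le hUU b 2).2 fun x hx => ?_, hnt⟩
    let W := V ⊔ U ⊓ AJ
    obtain ⟨W', hVW', hW'U, hW'L, hinf, hUle⟩ := Chief.exists_complement hUV hUU hLs
      (le_sup_left : V ≤ W) (sup_le hUV.1.le inf_le_left)
      (le_normalizer_sup (Chief.le_normalizer_of_normal V L)
        (le_normalizer_inf (Chief.le_normalizer_of_normal U L) hLAJ))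
    have hWU : W ≤ U := sup_le hUV.1.le inf_le_left
    have hWn : W' ≤ normalizer (W : Set G) := le_normalizer_iff_commutator_le_right.2
      (((commutator_mono hW'U hWU).trans hUU).trans le_sup_left)
    have hbL : b ∈ L := mem_sup_right hb
    have hxW : x ∈ ((W ⊔ W' : Subgroup G) : Set G) := hUle hx
    rw [coe_mul_of_right_le_normalizer_left W W' hWn] at hxW
    obtain ⟨w, hw, c, hc, rfl⟩ := hxW
    have hfw : (fun x => ⁅x, b⁆)^[2] w ∈ V := by
      obtain ⟨v, hv, a, ha, rfl⟩ := mem_sup_of_normal_left.1 hw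
      rw [mem_iff_mk, iter_congr b 2 (show QuotientGroup.mk' V (v * a) = QuotientGroup.mk' V a by
        rw [map_mul, mem_iff_mk.1 hv, one_mul])]
      show QuotientGroup.mk' V ⁅⁅a, b⁆, b⁆ = 1
      rw [qAJ a ha.2, map_one]
    have hfc : (fun x => ⁅x, b⁆)^[2] c ∈ V := by
      rw [← hinf]
      exact mem_inf.2 ⟨mem_sup_right (mem_inf.2
        ⟨iter_mem (Chief.mem_normalizer_of_normal U b) (hW'U hc) 2, hf2 c (hUA (hW'U hc))⟩),
        iter_mem (hW'L hbL) hc 2⟩
    rw [mem_iff_mk, iter_mul (Chief.mem_normalizer_of_normal U b) hUU 2 (hWU hw) (hW'U hc),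
      mem_iff_mk.1 hfw, mem_iff_mk.1 hfc, one_mul]
  have hall : ∀ n, A ≤ O n ∧ E n ≤ pCore p G := by
    intro n
    induction n with
    | zero =>
      have h0 : A ≤ O 0 := fun a ha => ⟨⟨a, hTS (hAT ha)⟩, trivial, rfl⟩
      exact ⟨h0, hard 0 h0⟩
    | succ n ih =>
      have h1 : A ≤ O (n + 1) := leO n A (hAT.trans hTS)
        ⟨hA2, (commutator_mono le_rfl ih.2).trans hAT'⟩
      exact ⟨h1, hard _ h1⟩
  let ι := Subgroup.inclusion hTS
  have hι : Function.Injective ι := Subgroup.inclusion_injective hTS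
  have hcomp : f.comp ι = (pCore p G).subtype := rfl
  have hr : ∀ {X : Subgroup ↥(S : Subgroup G)}, X.map f ≤ pCore p G → X ≤ ι.range := by
    intro X hX x hx
    exact ⟨⟨(x : G), hX (mem_map_of_mem f hx)⟩, Subtype.ext rfl⟩
  obtain ⟨hl, hu⟩ := KSeq.map_kInf (f := ι) hι (fun n => hr (hall n).2) (fun n => hr (hOT n))
  constructor
  · have : (inducedFunctor kInfLower (S : Subgroup G)) =
        (kInfLower ↥(pCore p G)).map (pCore p G).subtype := by
      show (kInfLower ↥(S : Subgroup G)).map f = _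
      rw [← hl, map_map, hcomp]
    rw [this]
    haveI : (kInfLower ↥(pCore p G)).Characteristic :=
      characteristic_iff_map_eq.2 fun φ => (KSeq.map_kInf_equiv φ).1
    exact ConjAct.normal_of_characteristic_of_normal
  · have : (inducedFunctor kInfUpper (S : Subgroup G)) =
        (kInfUpper ↥(pCore p G)).map (pCore p G).subtype := by
      show (kInfUpper ↥(S : Subgroup G)).map f = _
      rw [← hu, map_map, hcomp]
    rw [this]
    haveI : (kInfUpper ↥(pCore p G)).Characteristic :=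
      characteristic_iff_map_eq.2 fun φ => (KSeq.map_kInf_equiv φ).2
    exact ConjAct.normal_of_characteristic_of_normal

end CfsgLib.Techniques.KInfCritical
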