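import Cfsg.Agent.Lib.Invol.BaerSuzuki
import Cfsg.Agent.Lib.Cores.Basic
import Cfsg.Agent.Lib.LocalEven.S4Criterion
import Mathlib.GroupTheory.Index

/-!
Offenders in characteristic two: if the 2-subgroups are abelian and there is no normal 2-subgroup, a
quadratic offender forces an involution inverting an element of order three.
-/

set_option autoImplicit false

namespace CfsgLib.Techniques.OffenderTwo

open Subgroup

variable {Q : Type*} [Group Q] {V : Type*} [CommGroup V] (ψ : Q →* MulAut V)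

/-- Points fixed by a subgroup. -/
def fix (A : Subgroup Q) : Subgroup V where
  carrier := {v | ∀ a ∈ A, ψ a v = v}
  one_mem' := fun a _ => map_one _
  mul_mem' := fun {v w} hv hw a ha => by rw [map_mul, hv a ha, hw a ha]
  inv_mem' := fun {v} hv a ha => by rw [map_inv, hv a ha]

theorem fix_anti {A B : Subgroup Q} (h : A ≤ B) : fix ψ B ≤ fix ψ A := fun _ hv a ha => hv a (h ha)

/-- The displacement `v * a v` (in exponent two: the commutator). -/
def disp (a : Q) (v : V) : V := v * ψ a v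

theorem act_apply (a b : Q) (v : V) : ψ (a * b) v = ψ a (ψ b v) := by
  rw [map_mul]; rfl

theorem act_eq_mul_disp (hV : ∀ v : V, v * v = 1) (a : Q) (v : V) : ψ a v = v * disp ψ a v := by
  rw [disp, ← mul_assoc, hV, one_mul]

theorem disp_mul_right (a : Q) (v w : V) : disp ψ a (v * w) = disp ψ a v * disp ψ a w := by
  rw [disp, disp, disp, map_mul, mul_mul_mul_comm]

variable (hV : ∀ v : V, v * v = 1)

include hV in
theorem disp_mul_left {a b : Q} {v : V} (h : ψ a (disp ψ b v) = disp ψ b v) :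
    disp ψ (a * b) v = disp ψ a v * disp ψ b v := by
  have h1 : ψ a (ψ b v) = ψ a v * disp ψ b v := by
    rw [act_eq_mul_disp ψ hV b v, map_mul, h]
  rw [disp, act_apply, h1, ← mul_assoc]
  rfl

include hV in
theorem commute_of_fix_eq (hψ : Function.Injective ψ) {A B : Subgroup Q}
    (hA : ∀ a ∈ A, ∀ v, disp ψ a v ∈ fix ψ B) (hB : ∀ b ∈ B, ∀ v, disp ψ b v ∈ fix ψ A) :
    ∀ a ∈ A, ∀ b ∈ B, a * b = b * a := by
  intro a ha b hb
  apply hψ
  refine MulEquiv.ext fun v => ?_
  rw [act_apply, act_apply, act_eq_mul_disp ψ hV b v, map_mul, hB b hb v a ha, act_eq_mul_disp ψ hV a v,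
    map_mul, hA a ha v b hb, act_eq_mul_disp ψ hV b v]
  exact mul_right_comm _ _ _

variable [Finite Q] [Finite V]

/-- The pair lemma. -/
theorem inj_or_commute (hab : ∀ P : Subgroup Q, IsPGroup 2 P → ∀ x ∈ P, ∀ y ∈ P, x * y = y * x)
    {A B : Subgroup Q} (hA2 : ∀ a ∈ A, a * a = 1)
    (hB : IsPGroup 2 B)
    (hgen : ∀ a ∈ A, ¬ IsPGroup 2 ↥(B ⊔ B.map (MulAut.conj a).toMonoidHom) →
      A ≤ B ⊔ B.map (MulAut.conj a).toMonoidHom)
    {a : Q} (ha : a ∈ A) {w : V} (hw : w ∈ fix ψ B)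
    (hd : disp ψ a w ∈ fix ψ A ⊓ fix ψ B) (hVe : ∀ v : V, v * v = 1) :
    w ∈ fix ψ A ∨ ∀ b ∈ B, a * b = b * a := by
  have hai : a⁻¹ = a := inv_eq_of_mul_eq_one_right (hA2 a ha)
  have haw : ψ a w ∈ fix ψ B := by
    rw [act_eq_mul_disp ψ hVe]; exact mul_mem hw hd.2
  have hBa : ∀ y ∈ B.map (MulAut.conj a).toMonoidHom, ψ y w = w := by
    rintro _ ⟨b, hb, rfl⟩
    show ψ (a * b * a⁻¹) w = w
    rw [hai, act_apply, act_apply, haw b hb, ← act_apply, hA2 a ha, map_one]
    rfl
  by_cases hp : IsPGroup 2 ↥(B ⊔ B.map (MulAut.conj a).toMonoidHom)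
  · right
    intro b hb
    set P := B ⊔ B.map (MulAut.conj a).toMonoidHom with hP
    have haP : Subgroup.zpowers a ≤ Subgroup.normalizer (P : Set Q) := by
      rw [Subgroup.zpowers_le]
      have e : P.map (MulAut.conj a).toMonoidHom = P := by
        rw [hP, Subgroup.map_sup, Subgroup.map_map, sup_comm]
        congr 1
        convert Subgroup.map_id B using 2
        refine MonoidHom.ext fun y => ?_
        show a * (a * y * a⁻¹) * a⁻¹ = y
        rw [hai, show a * (a * y * a) * a = (a * a) * y * (a * a) by group, hA2 a ha, one_mul, mul_one]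
      rw [Subgroup.mem_normalizer_iff]
      intro y
      constructor
      · intro hy
        rw [← e]
        exact ⟨y, hy, rfl⟩
      · intro hy
        rw [← e] at hy
        obtain ⟨z, hz, hzy⟩ := hy
        rwa [← mul_left_cancel (mul_right_cancel (hzy : a * z * a⁻¹ = a * y * a⁻¹))]
    have hz : IsPGroup 2 (Subgroup.zpowers a) := by
      intro y
      refine ⟨1, ?_⟩
      obtain ⟨k, hk⟩ := Subgroup.mem_zpowers_iff.1 y.2
      apply Subtype.ext
      rw [SubgroupClass.coe_pow, ← hk, ← zpow_natCast, ← zpow_mul, mul_comm, zpow_mul, zpow_natCast,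
        pow_one, pow_two, hA2 a ha, one_zpow]
      rfl
    exact hab _ (IsPGroup.to_sup_of_normal_right' hz hp haP) a (Subgroup.mem_sup_left (Subgroup.mem_zpowers a))
      b (Subgroup.mem_sup_right (Subgroup.mem_sup_left hb))
  · left
    intro a' ha'
    have h1 : B ⊔ B.map (MulAut.conj a).toMonoidHom ≤
        ({ carrier := {y | ψ y w = w}
           one_mem' := by simp
           mul_mem' := fun {x y} hx hy => by
             show ψ (x * y) w = w
             rw [act_apply, hy, hx]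
           inv_mem' := fun {x} hx => by
             show ψ x⁻¹ w = w
             conv_lhs => rw [← hx]
             rw [← act_apply, inv_mul_cancel, map_one]; rfl } : Subgroup Q) :=
      sup_le (fun b hb => hw b hb) hBa
    exact h1 (hgen a ha hp ha')

/-- Main theorem. -/
theorem exists_inverted_three (hψ : Function.Injective ψ) (hVe : ∀ v : V, v * v = 1)
    (hab : ∀ P : Subgroup Q, IsPGroup 2 P → ∀ x ∈ P, ∀ y ∈ P, x * y = y * x)
    (hO : ∀ N : Subgroup Q, N.Normal → IsPGroup 2 N → N = ⊥)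
    (A₀ : Subgroup Q) (hA1 : A₀ ≠ ⊥) (hA2 : ∀ a ∈ A₀, a * a = 1)
    (hquad : ∀ a ∈ A₀, ∀ v, disp ψ a v ∈ fix ψ A₀)
    (hoff : Nat.card V ≤ Nat.card A₀ * Nat.card (fix ψ A₀)) :
    ∃ t c : Q, t * t = 1 ∧ orderOf c = 3 ∧ t * c * t⁻¹ = c⁻¹ := by
  classical
  haveI : Fact (Nat.Prime 2) := ⟨Nat.prime_two⟩
  -- a minimal offender
  obtain ⟨A, ⟨hAle, hAne, hAoff⟩, hAmin⟩ := Set.Finite.exists_minimalFor
    (fun A : Subgroup Q => Nat.card A)
    {A : Subgroup Q | A ≤ A₀ ∧ A ≠ ⊥ ∧ Nat.card V ≤ Nat.card A * Nat.card (fix ψ A)}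
    (Set.toFinite _) ⟨A₀, le_rfl, hA1, hoff⟩
  have hA2' : ∀ a ∈ A, a * a = 1 := fun a ha => hA2 a (hAle ha)
  have hquad' : ∀ a ∈ A, ∀ v, disp ψ a v ∈ fix ψ A := fun a ha v =>
    fix_anti ψ hAle (hquad a (hAle ha) v)
  have hAp : IsPGroup 2 A := fun a => ⟨1, Subtype.ext (by
    rw [SubgroupClass.coe_pow, pow_one, pow_two, hA2' a a.2]; rfl)⟩
  have hsmall : ∀ S : Subgroup Q, S ≤ A → S ≠ ⊥ → S ≠ A →
      Nat.card S * Nat.card (fix ψ S) < Nat.card V := by
    intro S hS hS1 hSA
    by_contra hlt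
    have h1 : Nat.card A ≤ Nat.card S :=
      hAmin ⟨hS.trans hAle, hS1, not_lt.1 hlt⟩ (Subgroup.card_le_of_le hS)
    exact hSA (Subgroup.eq_of_le_of_card_ge hS h1)
  -- a smallest pair of conjugates not generating a 2-group
  set cj : Q → Subgroup Q := fun g => A.map (MulAut.conj g).toMonoidHom with hcj
  have hcj1 : cj 1 = A := by
    simp only [hcj, map_one]
    exact Subgroup.map_id A
  have hcjmul : ∀ g h, (cj h).map (MulAut.conj g).toMonoidHom = cj (g * h) := fun g h => by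
    simp only [hcj, Subgroup.map_map]
    congr 1
    exact MonoidHom.ext fun y => by simp [mul_assoc]
  have hcard : ∀ (g : Q) (S : Subgroup Q), Nat.card (S.map (MulAut.conj g).toMonoidHom) = Nat.card S :=
    fun g S => Subgroup.card_map_of_injective (MulAut.conj g).injective
  have hex : ∃ g, ¬ IsPGroup 2 ↥(A ⊔ cj g) := by
    by_contra hall
    push Not at hall
    obtain ⟨N, hNn, hNp, hAN⟩ := CfsgLib.Invol.baer_suzuki A hAp hall
    exact hAne (eq_bot_iff.2 (hAN.trans (hO N hNn hNp).le))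
  obtain ⟨g, hg, hgmin⟩ := Set.Finite.exists_minimalFor (fun g : Q => Nat.card ↥(A ⊔ cj g))
    {g : Q | ¬ IsPGroup 2 ↥(A ⊔ cj g)} (Set.toFinite _) hex
  set X := A ⊔ cj g with hX
  have hmem_cj : ∀ {h : Q}, h ∈ X → cj h ≤ X := fun {h} hh => by
    rintro _ ⟨y, hy, rfl⟩
    exact mul_mem (mul_mem hh (Subgroup.mem_sup_left hy)) (inv_mem hh)
  have hfull : ∀ h k : Q, h ∈ X → k ∈ X → ¬ IsPGroup 2 ↥(cj h ⊔ cj k) → cj h ⊔ cj k = X := by
    intro h k hh hk hnp
    have e : cj h ⊔ cj k = (A ⊔ cj (h⁻¹ * k)).map (MulAut.conj h).toMonoidHom := by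
      rw [Subgroup.map_sup, hcjmul, mul_inv_cancel_left]
    have hnp' : ¬ IsPGroup 2 ↥(A ⊔ cj (h⁻¹ * k)) := fun hp => hnp (by rw [e]; exact hp.map _)
    refine Subgroup.eq_of_le_of_card_ge (sup_le (hmem_cj hh) (hmem_cj hk)) ?_
    rw [e, hcard]
    rcases le_total (Nat.card ↥(A ⊔ cj (h⁻¹ * k))) (Nat.card X) with hle | hle
    · exact hgmin hnp' hle
    · exact hle
  -- Baer-Suzuki inside `X`
  obtain ⟨x, hxX, hxnp⟩ : ∃ x ∈ X, ¬ IsPGroup 2 ↥(A ⊔ cj x) := by
    by_contra hall
    push Not at hall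
    have hAX : A ≤ X := le_sup_left
    obtain ⟨N, hNn, hNp, hAN⟩ := CfsgLib.Invol.baer_suzuki (A.subgroupOf X) hAp.comap_subtype (fun y => by
      refine (hall (y : Q) y.2).to_le ?_ |>.of_injective
        (X.subtype.subgroupMap (A.subgroupOf X ⊔ (A.subgroupOf X).map (MulAut.conj y).toMonoidHom))
        ?_
      · rw [Subgroup.map_sup, Subgroup.map_map]
        refine sup_le_sup (Subgroup.subgroupOf_map_subtype A X ▸ inf_le_left) ?_
        rintro _ ⟨z, hz, rfl⟩
        exact ⟨(z : Q), hz, rfl⟩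
      · intro p q hpq
        have h2 := congrArg Subtype.val hpq
        exact Subtype.ext (X.subtype_injective h2))
    apply hg
    have hsup : A ≤ N.map X.subtype := fun a ha => ⟨⟨a, hAX ha⟩, hAN ha, rfl⟩
    have hn : X ≤ Subgroup.normalizer ((N.map X.subtype : Subgroup Q) : Set Q) := fun y hy =>
      (Subgroup.le_normalizer_map X.subtype) ⟨⟨y, hy⟩, by rw [Subgroup.normalizer_eq_top N]; trivial, rfl⟩
    have h2 := IsPGroup.to_sup_of_normal_right' (hAp.map (MulAut.conj g).toMonoidHom) (hNp.map X.subtype)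
      ((le_sup_right : cj g ≤ X).trans hn)
    exact h2.to_le (sup_le (hsup.trans le_sup_right) le_sup_left)
  set B := cj x with hB
  have hXeq : A ⊔ B = X := by
    have := hfull 1 x (one_mem _) hxX (by rwa [hcj1])
    rwa [hcj1] at this
  have hBp : IsPGroup 2 B := hAp.map _
  have hB2 : ∀ b ∈ B, b * b = 1 := by
    rintro _ ⟨a, ha, rfl⟩
    rw [← map_mul, hA2' a ha, map_one]
  have hfixB : fix ψ B = (fix ψ A).map (ψ x).toMonoidHom := by
    ext v
    constructor
    · intro hv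
      refine ⟨ψ x⁻¹ v, fun a ha => ?_, ?_⟩
      · have h1 := hv _ ⟨a, ha, rfl⟩
        change ψ (x * a * x⁻¹) v = v at h1
        conv_rhs => rw [← h1]
        rw [← act_apply, ← act_apply]
        congr 2; group
      · show ψ x (ψ x⁻¹ v) = v
        rw [← act_apply, mul_inv_cancel, map_one]; rfl
    · rintro ⟨u, hu, rfl⟩ _ ⟨a, ha, rfl⟩
      show ψ (x * a * x⁻¹) (ψ x u) = ψ x u
      rw [← act_apply, inv_mul_cancel_right, act_apply, hu a ha]
  have hquadB : ∀ b ∈ B, ∀ v, disp ψ b v ∈ fix ψ B := by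
    rintro _ ⟨a, ha, rfl⟩ v
    rw [hfixB]
    refine ⟨disp ψ a (ψ x⁻¹ v), hquad' a ha _, ?_⟩
    show ψ x (ψ x⁻¹ v * ψ a (ψ x⁻¹ v)) = v * ψ (x * a * x⁻¹) v
    rw [map_mul, ← act_apply, mul_inv_cancel, map_one, ← act_apply, ← act_apply, mul_assoc]
    rfl
  set C := fix ψ A with hC
  set C' := fix ψ B with hC'
  set Z := C ⊓ C' with hZ
  have hCC : Nat.card C' = Nat.card C := by
    rw [hfixB]; exact Subgroup.card_map_of_injective (ψ x).injective
  have hncomm : ¬ ∀ a ∈ A, ∀ b ∈ B, a * b = b * a := by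
    intro hc
    apply hg
    show IsPGroup 2 ↥X
    rw [← hXeq]
    refine IsPGroup.to_sup_of_normal_right' hAp hBp fun a ha => ?_
    rw [Subgroup.mem_normalizer_iff]
    intro y
    constructor
    · intro hy; rwa [hc a ha y hy, mul_inv_cancel_right]
    · intro hy
      have h1 := hc a ha _ hy
      have h2 : a * y * a⁻¹ = y := by
        have := congrArg (fun z => a⁻¹ * z) h1
        simpa [mul_assoc] using this
      rwa [h2] at hy
  have hCne : ¬ C' ≤ C := by
    intro hle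
    have he : C' = C := Subgroup.eq_of_le_of_card_ge hle hCC.ge
    exact hncomm (commute_of_fix_eq ψ hVe hψ (fun a ha v => by rw [← hC', he]; exact hquad' a ha v)
      (fun b hb v => by rw [← hC, ← he]; exact hquadB b hb v))
  -- the subgroup of `A` centralising `B`
  set A1 := A ⊓ Subgroup.centralizer (B : Set Q) with hA1def
  have hA1A : A1 ≠ A := fun e => hncomm fun a ha b hb =>
    (Subgroup.mem_centralizer_iff.1 (e.ge ha : a ∈ A1).2 b hb).symm
  have hgenA : ∀ a ∈ A, ¬ IsPGroup 2 ↥(B ⊔ B.map (MulAut.conj a).toMonoidHom) →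
      A ≤ B ⊔ B.map (MulAut.conj a).toMonoidHom := by
    intro a ha hnp
    rw [hB, hcjmul] at hnp ⊢
    rw [hfull x (a * x) hxX (mul_mem (Subgroup.mem_sup_left ha) hxX) hnp]
    exact le_sup_left
  have hinj : ∀ a ∈ A, ∀ w ∈ C', disp ψ a w ∈ Z → w ∈ C ∨ a ∈ A1 := by
    intro a ha w hw hd
    rcases inj_or_commute ψ hab hA2' hBp hgenA ha hw hd hVe with h | h
    · exact Or.inl h
    · exact Or.inr ⟨ha, Subgroup.mem_centralizer_iff.2 fun b hb => (h b hb).symm⟩
  obtain ⟨w₀, hw₀, hw₀C⟩ := SetLike.not_le_iff_exists.1 hCne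
  -- the commutator map at a point of `C' \ C`
  have hidx : ∀ w ∈ C', w ∉ C →
      A1.relIndex A ≤ Z.relIndex C ∧ (A1 = ⊥ → Z.relIndex C ≤ Nat.card A →
        ∀ u ∈ C, ∃ a ∈ A, disp ψ a w * u ∈ Z) := by
    intro w hw hwC
    let F : A →* C ⧸ Z.subgroupOf C :=
      MonoidHom.mk' (fun a => QuotientGroup.mk ⟨disp ψ a w, hquad' a a.2 w⟩) fun a b => by
        rw [← QuotientGroup.mk_mul]
        congr 1
        exact Subtype.ext (disp_mul_left ψ hVe (hquad' b b.2 w a a.2))
    have hker : F.ker ≤ A1.subgroupOf A := by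
      intro a ha
      have h1 : disp ψ a w ∈ Z := Subgroup.mem_subgroupOf.1 ((QuotientGroup.eq_one_iff _).1 ha)
      rcases hinj a a.2 w hw h1 with h | h
      · exact absurd h hwC
      · exact Subgroup.mem_subgroupOf.2 h
    refine ⟨?_, ?_⟩
    · calc A1.relIndex A = (A1.subgroupOf A).index := rfl
        _ ≤ F.ker.index := Nat.le_of_dvd (Nat.pos_of_ne_zero Subgroup.FiniteIndex.index_ne_zero)
            (Subgroup.index_dvd_of_le hker)
        _ = Nat.card F.range := Subgroup.index_ker F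
        _ ≤ Nat.card (C ⧸ Z.subgroupOf C) := Nat.card_le_card_of_injective _ Subtype.val_injective
        _ = Z.relIndex C := rfl
    · intro h1 hle u hu
      have hFinj : Function.Injective F := by
        rw [← MonoidHom.ker_eq_bot_iff, eq_bot_iff]
        intro a ha
        have := hker ha
        rw [Subgroup.mem_subgroupOf, h1, Subgroup.mem_bot] at this
        exact Subgroup.mem_bot.2 (Subtype.ext this)
      have hbij : Function.Bijective F :=
        hFinj.bijective_of_nat_card_le hle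
      obtain ⟨a, ha⟩ := hbij.2 (QuotientGroup.mk ⟨u, hu⟩)
      refine ⟨a, a.2, ?_⟩
      have h2 := QuotientGroup.eq.1 ha
      rw [Subgroup.mem_subgroupOf] at h2
      have hinv : (disp ψ a w)⁻¹ = disp ψ a w := inv_eq_of_mul_eq_one_right (hVe _)
      simpa [hinv] using h2
  -- counting
  have hprod : Nat.card C * Z.relIndex C ≤ Nat.card ↥(C ⊔ C') := by
    have h1 := Subgroup.relIndex_mul_relIndex ⊥ C' (C ⊔ C') bot_le le_sup_right
    rw [Subgroup.relIndex_bot_left, Subgroup.relIndex_bot_left] at h1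
    rw [← h1, hCC, hZ, Subgroup.inf_relIndex_left]
    apply Nat.mul_le_mul_left
    exact Subgroup.relIndex_le_of_le_right le_sup_left Subgroup.FiniteIndex.index_ne_zero
  have hA1bot : A1 = ⊥ := by
    by_contra hne
    have hX1 : ∀ y ∈ X, ∀ a ∈ A1, a * y = y * a := by
      intro y hy a ha
      have hle : X ≤ Subgroup.centralizer ({a} : Set Q) := by
        rw [← hXeq]
        refine sup_le (fun z hz => ?_) (fun z hz => ?_)
        · rw [Subgroup.mem_centralizer_singleton_iff]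
          exact hab A hAp z hz a ha.1
        · rw [Subgroup.mem_centralizer_singleton_iff]
          exact Subgroup.mem_centralizer_iff.1 ha.2 z hz
      exact (Subgroup.mem_centralizer_singleton_iff.1 (hle hy)).symm
    have hle : C ⊔ C' ≤ fix ψ A1 := by
      refine sup_le (fix_anti ψ inf_le_left) ?_
      rw [hfixB]
      rintro _ ⟨u, hu, rfl⟩ a ha
      show ψ a (ψ x u) = ψ x u
      rw [← act_apply, hX1 x hxX a ha, act_apply, hu a ha.1]
    have h1 := hsmall A1 inf_le_left hne hA1A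
    have h2 := (hidx w₀ hw₀ hw₀C).1
    have h3 := Subgroup.relIndex_mul_relIndex ⊥ A1 A bot_le inf_le_left
    rw [Subgroup.relIndex_bot_left, Subgroup.relIndex_bot_left] at h3
    have h4 : Nat.card A * Nat.card C ≤ Nat.card A1 * Nat.card (fix ψ A1) := by
      rw [← h3, mul_assoc]
      refine Nat.mul_le_mul_left _ ?_
      rw [mul_comm]
      exact (Nat.mul_le_mul_left _ h2).trans (hprod.trans (Subgroup.card_le_of_le hle))
    omega
  have hZC : Z.relIndex C ≤ Nat.card A := by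
    have h1 : Nat.card C * Z.relIndex C ≤ Nat.card C * Nat.card A := by
      rw [mul_comm (Nat.card C) (Nat.card A)]
      exact hprod.trans ((Subgroup.card_le_card_group _).trans hAoff)
    exact Nat.le_of_mul_le_mul_left h1 Nat.card_pos
  -- the element of order three
  obtain ⟨u, hu, huC'⟩ : ∃ u ∈ C, u ∉ C' := by
    by_contra hall
    push Not at hall
    exact hCne (Subgroup.eq_of_le_of_card_ge hall hCC.le).ge
  obtain ⟨b, hb, hbA⟩ : ∃ b ∈ B, ∃ a ∈ A, a * b ≠ b * a := by
    by_contra hall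
    push Not at hall
    exact hncomm fun a ha b hb => hall b hb a ha
  have hgenB : ∀ b' ∈ B, ¬ IsPGroup 2 ↥(A ⊔ A.map (MulAut.conj b').toMonoidHom) →
      B ≤ A ⊔ A.map (MulAut.conj b').toMonoidHom := by
    intro b' hb' hnp
    change ¬ IsPGroup 2 ↥(A ⊔ cj b') at hnp
    show B ≤ A ⊔ cj b'
    have hb'X : b' ∈ X := hXeq ▸ Subgroup.mem_sup_right hb'
    have := hfull 1 b' (one_mem _) hb'X (by rwa [hcj1])
    rw [hcj1] at this
    rw [this, ← hXeq]
    exact le_sup_right
  set w := disp ψ b u with hwdef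
  have hwC' : w ∈ C' := hquadB b hb u
  have hwZ : w ∉ Z := by
    intro hwz
    rcases inj_or_commute ψ hab hB2 hAp hgenB hb hu ⟨hwz.2, hwz.1⟩ hVe with h | h
    · exact huC' h
    · obtain ⟨a, ha, hne⟩ := hbA
      exact hne (h a ha).symm
  have hwC : w ∉ C := fun h => hwZ ⟨h, hwC'⟩
  obtain ⟨a, ha, haw⟩ := (hidx w hwC' hwC).2 hA1bot hZC u hu
  set c := a * b with hcdef
  -- action modulo `Z`
  have hZfix : ∀ z ∈ Z, ∀ i : ℕ, ψ (c ^ i) z = z := by
    intro z hz i
    induction i with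
    | zero => rw [pow_zero, map_one]; rfl
    | succ i ih => rw [pow_succ, act_apply, hcdef, act_apply, hz.2 b hb, hz.1 a ha]; exact ih
  obtain ⟨z₁, hz₁, hz₁e⟩ : ∃ z ∈ Z, ψ a w = w * u * z :=
    ⟨disp ψ a w * u, haw, by
      rw [act_eq_mul_disp ψ hVe a w, mul_comm (disp ψ a w) u, ← mul_assoc, mul_assoc w u u, hVe, mul_one]⟩
  have hcu : ψ c u = w * z₁ := by
    rw [hcdef, act_apply, act_eq_mul_disp ψ hVe b u, ← hwdef, map_mul, hu a ha, hz₁e,
      ← mul_assoc, ← mul_assoc, mul_comm u w, mul_assoc w u u, hVe, mul_one]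
  have hcw : ψ c w = w * u * z₁ := by
    rw [hcdef, act_apply, hwC' b hb, hz₁e]
  have hc3 : ∃ z ∈ Z, ψ (c ^ 3) u = u * z := by
    refine ⟨z₁ * z₁ * z₁ * z₁, mul_mem (mul_mem (mul_mem hz₁ hz₁) hz₁) hz₁, ?_⟩
    have hz : ψ c z₁ = z₁ := by simpa using hZfix z₁ hz₁ 1
    have e3 : ψ (c ^ 3) u = ψ c (ψ c (ψ c u)) := by
      rw [pow_succ, pow_succ, pow_one, act_apply, act_apply]
    have hm : ∀ x y : V, ψ c (x * y) = ψ c x * ψ c y := fun x y => map_mul (ψ c) x y
    rw [e3, hcu, hm, hcw, hz, hm, hm, hm, hcw, hcu, hz]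
    have := hVe w
    calc w * u * z₁ * (w * z₁) * z₁ * z₁ = (w * w) * (u * (z₁ * z₁ * z₁ * z₁)) := by ac_rfl
      _ = u * (z₁ * z₁ * z₁ * z₁) := by rw [this, one_mul]
  have h3 : 3 ∣ orderOf c := by
    by_contra hnd
    have hper : ∀ j : ℕ, ∃ z ∈ Z, ψ (c ^ (3 * j)) u = u * z := by
      intro j
      induction j with
      | zero => exact ⟨1, one_mem _, by simp⟩
      | succ j ih =>
        obtain ⟨z, hz, hze⟩ := ih
        obtain ⟨z', hz', hze'⟩ := hc3
        refine ⟨z * z', mul_mem hz hz', ?_⟩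
        rw [show 3 * (j + 1) = 3 * j + 3 by ring, pow_add, act_apply, hze', map_mul, hze, hZfix z' hz',
          mul_assoc]
    obtain ⟨j, hj⟩ : ∃ j, orderOf c = 3 * j + 1 ∨ orderOf c = 3 * j + 2 :=
      ⟨orderOf c / 3, by omega⟩
    obtain ⟨z, hz, hze⟩ := hper j
    have hone : ψ (c ^ orderOf c) u = u := by rw [pow_orderOf_eq_one, map_one]; rfl
    have huZ : u ∉ Z := fun h => huC' h.2
    rcases hj with hj | hj
    · rw [hj, pow_succ', act_apply, hze, map_mul, hcu, show ψ c z = z by simpa using hZfix z hz 1] at hone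
      apply hwC
      have : w = u * (z₁ * z)⁻¹ := by
        rw [eq_mul_inv_iff_mul_eq, ← mul_assoc]; exact hone
      rw [this]
      exact mul_mem hu (inv_mem (mul_mem hz₁.1 hz.1))
    · rw [hj, show 3 * j + 2 = 2 + 3 * j by ring, pow_add, act_apply, hze, map_mul, hZfix z hz, pow_two,
        act_apply, hcu, map_mul, hcw, show ψ c z₁ = z₁ by simpa using hZfix z₁ hz₁ 1] at hone
      apply hwC
      have : w = (z₁ * z₁ * z)⁻¹ := by
        rw [eq_inv_iff_mul_eq_one]
        apply mul_left_cancel (a := u)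
        rw [mul_one]
        calc u * (w * (z₁ * z₁ * z)) = w * u * z₁ * z₁ * z := by ac_rfl
          _ = u := hone
      rw [this]
      exact inv_mem (mul_mem (mul_mem hz₁.1 hz₁.1) hz.1)
  refine ⟨a, c ^ (orderOf c / 3), hA2' a ha, ?_, ?_⟩
  · rw [orderOf_pow_of_dvd (Nat.div_pos (Nat.le_of_dvd (orderOf_pos c) h3) (by norm_num)).ne'
      (Nat.div_dvd_of_dvd h3), Nat.div_div_self h3 (orderOf_pos c).ne']
  · rw [← conj_pow, ← inv_pow]
    congr 1
    rw [hcdef, mul_inv_rev, inv_eq_of_mul_eq_one_right (hA2' a ha), inv_eq_of_mul_eq_one_right (hB2 b hb),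
      ← mul_assoc, hA2' a ha, one_mul]

end CfsgLib.Techniques.OffenderTwo
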