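import Cfsg.Prelude.Def_OddOrderLocal
import Cfsg.Agent.Lib.Solvable.SchurZassenhaus
import Mathlib.GroupTheory.SchurZassenhaus

/-!
Hall subgroups of separable groups, given that groups of odd order are soluble.
-/

namespace CfsgLib.Techniques.PiSeparableHall

open Subgroup Cfsg
open scoped Pointwise

universe u

/-- Groups of odd order are soluble. -/
def OddSolvable : Prop := ∀ (Y : Type u) [Group Y] [Finite Y], Odd (Nat.card Y) → Group.IsSolvable Y

variable {G : Type u} [Group G] [Finite G] {π : Set ℕ}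

/-- `n` has all prime divisors in `π`. -/
def PiNum (π : Set ℕ) (n : ℕ) : Prop := ∀ q : ℕ, q.Prime → q ∣ n → q ∈ π

theorem coprime_of_piNum {m n : ℕ} (hm : PiNum π m) (hn : ∀ q : ℕ, q.Prime → q ∣ n → q ∉ π) :
    m.Coprime n :=
  Nat.coprime_of_dvd fun q hq hd hd' => hn q hq hd' (hm q hq hd)

theorem piNum_mul {m n : ℕ} (hm : PiNum π m) (hn : PiNum π n) : PiNum π (m * n) := fun q hq hd =>
  (hq.dvd_mul.1 hd).elim (hm q hq) (hn q hq)

/-- A Hall subgroup modulo `N` dominating every `π`-subgroup. -/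
def HallOver (π : Set ℕ) (N : Subgroup G) : Prop :=
  ∃ K : Subgroup G, N ≤ K ∧ PiNum π (N.relIndex K) ∧ (∀ q : ℕ, q.Prime → q ∣ K.index → q ∉ π) ∧
    ∀ U : Subgroup G, PiNum π (Nat.card U) → ∃ g : G, MulAut.conj g • U ≤ K

theorem hallOver_step (hFT : OddSolvable.{u}) {N M : Subgroup G} [N.Normal] [M.Normal] (hNM : N ≤ M)
    (hstep : PiNum π (N.relIndex M) ∨ ∀ q : ℕ, q.Prime → q ∣ N.relIndex M → q ∉ π)
    (h : HallOver π M) : HallOver π N := by
  obtain ⟨K, hMK, hMKπ, hKi, hdom⟩ := h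
  rcases hstep with hstep | hstep
  · exact ⟨K, hNM.trans hMK, relIndex_mul_relIndex N M K hNM hMK ▸ piNum_mul hstep hMKπ, hKi, hdom⟩
  set f := QuotientGroup.mk' (N.subgroupOf K)
  set Mb := (M.subgroupOf K).map f
  haveI : Mb.Normal := Normal.map inferInstance f (QuotientGroup.mk'_surjective _)
  have hker : f.ker ≤ M.subgroupOf K := (QuotientGroup.ker_mk' _).le.trans (comap_mono hNM)
  have hMbi : Mb.index = M.relIndex K := index_map_eq _ (QuotientGroup.mk'_surjective _) hker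
  have hMbc : Nat.card Mb = N.relIndex M := by
    have h1 : Nat.card Mb * Mb.index = (N.subgroupOf K).index := by
      rw [card_mul_index]; rfl
    rw [hMbi, show (N.subgroupOf K).index = N.relIndex K from rfl, ← relIndex_mul_relIndex N M K hNM hMK] at h1
    exact Nat.eq_of_mul_eq_mul_right (Nat.pos_of_ne_zero index_ne_zero_of_finite) h1
  have hco : (Nat.card Mb).Coprime Mb.index := by
    rw [hMbc, hMbi]
    exact (coprime_of_piNum hMKπ hstep).symm
  obtain ⟨A, hA⟩ := exists_right_complement'_of_coprime hco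
  set K' := (A.comap f).map K.subtype
  have hK'K : K' ≤ K := map_subtype_le _
  have hNK' : N ≤ K' := by
    intro x hx
    refine ⟨⟨x, hMK (hNM hx)⟩, ?_, rfl⟩
    show f ⟨x, hMK (hNM hx)⟩ ∈ A
    rw [show f ⟨x, hMK (hNM hx)⟩ = 1 from (QuotientGroup.eq_one_iff _).2 hx]
    exact one_mem A
  have hAc : Nat.card A = M.relIndex K := by
    rw [← hMbi, hA.symm.index_eq_card]
  have hK'i : K'.relIndex K = N.relIndex M := by
    show (((A.comap f).map K.subtype).subgroupOf K).index = _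
    rw [subgroupOf, comap_map_eq_self_of_injective K.subtype_injective,
      index_comap_of_surjective _ (QuotientGroup.mk'_surjective _), hA.index_eq_card, hMbc]
  refine ⟨K', hNK', ?_, ?_, fun U hU => ?_⟩
  · have h1 := relIndex_mul_relIndex N K' K hNK' hK'K
    rw [hK'i, ← relIndex_mul_relIndex N M K hNM hMK, mul_comm (N.relIndex M)] at h1
    rw [Nat.eq_of_mul_eq_mul_right (Nat.pos_of_ne_zero index_ne_zero_of_finite) h1]
    exact hMKπ
  · intro q hq hd
    rw [← relIndex_mul_index hK'K, hK'i] at hd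
    exact (hq.dvd_mul.1 hd).elim (hstep q hq) (hKi q hq)
  · obtain ⟨g, hg⟩ := hdom U hU
    set U' := MulAut.conj g • U
    set B := (U'.subgroupOf K).map f
    have hB : PiNum π (Nat.card B) := by
      intro q hq hd
      refine hU q hq ?_
      rw [← CfsgLib.Solvable.card_conj_smul g U, ← Nat.card_congr (subgroupOfEquivOfLe hg).toEquiv]
      exact hd.trans (card_map_dvd _ _)
    have hcop : (Nat.card Mb).Coprime (Nat.card B) := by
      rw [hMbc]; exact (coprime_of_piNum hB hstep).symm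
    have hsol : Group.IsSolvable Mb ∨ Group.IsSolvable B := by
      by_cases h2 : 2 ∈ π
      · refine Or.inl (hFT _ ?_)
        rw [hMbc, ← Nat.not_even_iff_odd, even_iff_two_dvd]
        exact fun hd => hstep 2 Nat.prime_two hd h2
      · refine Or.inr (hFT _ ?_)
        rw [← Nat.not_even_iff_odd, even_iff_two_dvd]
        exact fun hd => h2 (hB 2 Nat.prime_two hd)
    obtain ⟨k, -, hkB⟩ := CfsgLib.Solvable.exists_conj_le Mb A B (by rw [normalizer_eq_top]; exact le_top)
      hA.disjoint.eq_bot (by rw [hA.sup_eq_top]; exact le_top) hcop hsol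
    obtain ⟨k, rfl⟩ := QuotientGroup.mk'_surjective (N.subgroupOf K) k
    refine ⟨k * g, fun x hx => ?_⟩
    rw [map_mul, mul_smul] at hx
    obtain ⟨u, hu, rfl⟩ := hx
    refine ⟨k * ⟨u, hg hu⟩ * k⁻¹, ?_, rfl⟩
    show f (k * ⟨u, hg hu⟩ * k⁻¹) ∈ A
    rw [map_mul, map_mul, map_inv]
    exact hkB ⟨f ⟨u, hg hu⟩, mem_map_of_mem f (show (⟨u, hg hu⟩ : K) ∈ U'.subgroupOf K from hu), rfl⟩

theorem hall_of_separable (hFT : OddSolvable.{u})
    (hsep : ∃ (n : ℕ) (H : Fin (n + 1) → Subgroup G), H 0 = ⊥ ∧ H (Fin.last n) = ⊤ ∧ Monotone H ∧ (∀ i, (H i).Normal) ∧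
      ∀ i : Fin n, (∀ q : ℕ, q.Prime → q ∣ (H i.castSucc).relIndex (H i.succ) → q ∈ π) ∨
        (∀ q : ℕ, q.Prime → q ∣ (H i.castSucc).relIndex (H i.succ) → q ∉ π)) :
    (∃ K : Subgroup G, IsPiHall π K) ∧
      (∀ K L : Subgroup G, IsPiHall π K → IsPiHall π L → ∃ g : G, L = K.map (MulAut.conj g).toMonoidHom) ∧
      ∀ U : Subgroup G, (∀ q : ℕ, q.Prime → q ∣ Nat.card U → q ∈ π) → ∃ K : Subgroup G, IsPiHall π K ∧ U ≤ K := by
  obtain ⟨n, H, h0, hlast, hmono, hnorm, hstep⟩ := hsep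
  have hall : HallOver π (H 0) := by
    induction (0 : Fin (n + 1)) using Fin.reverseInduction with
    | last =>
      refine ⟨⊤, le_top, ?_, fun q hq hd => ?_, fun U _ => ⟨1, le_top⟩⟩
      · rw [hlast, relIndex_self]; exact fun q hq hd => absurd hd hq.not_dvd_one
      · exact absurd (index_top (G := G) ▸ hd) hq.not_dvd_one
    | cast i ih =>
      haveI := hnorm i.castSucc
      haveI := hnorm i.succ
      exact hallOver_step hFT (hmono (Fin.castSucc_le_succ i)) (hstep i) ih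
  obtain ⟨K, -, hK, hKi, hdom⟩ := hall
  rw [h0, relIndex_bot_left] at hK
  have hKH : IsPiHall π K := ⟨hK, fun q hq hqπ hd => hKi q hq hd hqπ⟩
  have hcard : ∀ L : Subgroup G, IsPiHall π L → Nat.card L = Nat.card K := by
    intro L hL
    have h1 := card_mul_index L
    rw [← card_mul_index K] at h1
    refine Nat.dvd_antisymm ?_ ?_
    · exact (coprime_of_piNum (m := Nat.card L) hL.1 hKi).dvd_of_dvd_mul_right (h1 ▸ dvd_mul_right _ _)
    · exact (coprime_of_piNum (m := Nat.card K) hK fun q hq hd hqπ => hL.2 q hq hqπ hd).dvd_of_dvd_mul_right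
        (h1.symm ▸ dvd_mul_right _ _)
  have hconj : ∀ (g : G) (L : Subgroup G), IsPiHall π L → IsPiHall π (L.map (MulAut.conj g).toMonoidHom) := by
    intro g L hL
    refine ⟨fun q hq hd => hL.1 q hq (hd.trans (card_map_dvd _ _)), fun q hq hqπ hd => hL.2 q hq hqπ ?_⟩
    exact hd.trans (index_map_dvd (f := (MulAut.conj g).toMonoidHom) L (MulAut.conj g).surjective)
  have key : ∀ U : Subgroup G, PiNum π (Nat.card U) → ∃ g : G, U ≤ K.map (MulAut.conj g).toMonoidHom := by
    intro U hU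
    obtain ⟨g, hg⟩ := hdom U hU
    exact ⟨g⁻¹, fun u hu => ⟨g * u * g⁻¹, hg ⟨u, hu, rfl⟩, by simp [mul_assoc]⟩⟩
  have hto : ∀ L : Subgroup G, IsPiHall π L → ∃ g : G, L = K.map (MulAut.conj g).toMonoidHom := by
    intro L hL
    obtain ⟨g, hg⟩ := key L hL.1
    exact ⟨g, Subgroup.eq_of_le_of_card_ge hg
      ((card_map_of_injective (f := (MulAut.conj g).toMonoidHom) (MulAut.conj g).injective).trans
        (hcard L hL).symm).le⟩
  refine ⟨⟨K, hKH⟩, fun K₁ L hK₁ hL => ?_, fun U hU => ?_⟩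
  · obtain ⟨a, ha⟩ := hto K₁ hK₁
    obtain ⟨b, hb⟩ := hto L hL
    refine ⟨b * a⁻¹, ?_⟩
    rw [ha, hb, Subgroup.map_map]
    congr 1
    ext z
    simp [mul_assoc]
  · obtain ⟨g, hg⟩ := key U hU
    exact ⟨_, hconj g K hKH, hg⟩

end CfsgLib.Techniques.PiSeparableHall
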