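import Cfsg.Agent.Lib.Fusion.FunctorSolvable

/-!
Saturated systems without the section `Qd(p)`, `p` odd, are constrained.
-/

set_option autoImplicit false

open Cfsg Cfsg.FusionSystem
open scoped commutatorElement

namespace CfsgLib.Techniques.QdFreeConstrained

open CfsgLib.Fusion

universe u

variable {p : ℕ} [Fact p.Prime]

section

variable {Ω : Type u} [Group Ω] {S : Subgroup Ω} {F : FusionSystem S}

theorem stronglyClosed_inf {A B : Subgroup Ω} (hA : F.StronglyClosed A) (hB : F.StronglyClosed B) :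
    F.StronglyClosed (A ⊓ B) :=
  ⟨inf_le_left.trans hA.1, fun R hR φ hφ x =>
    ⟨hA.2 R (hR.trans inf_le_left) φ hφ x, hB.2 R (hR.trans inf_le_right) φ hφ x⟩⟩

theorem stronglyClosed_sup_centralizerIn [Finite S] {X : Subgroup Ω} (hX : F.IsNormal X) :
    F.StronglyClosed (X ⊔ centralizerIn S X) := by
  refine ⟨sup_le hX.1 inf_le_left, fun R hR φ hφ x => ?_⟩
  have hRS := le_S F hφ
  obtain ⟨ψ, hψ, hψe, hψX⟩ := hX.2 R φ hφ
  rw [← hψe]
  have hSX : S ≤ Subgroup.normalizer (X : Set Ω) := le_normalizer_of_stronglyClosed (stronglyClosed_of_isNormal hX)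
  have hx : (x : Ω) ∈ ((X ⊔ centralizerIn S X : Subgroup Ω) : Set Ω) := hR x.2
  rw [Subgroup.coe_mul_of_right_le_normalizer_left X (centralizerIn S X) ((inf_le_left : centralizerIn S X ≤ S).trans hSX)] at hx
  obtain ⟨a, ha, c, hc, hac⟩ := hx
  change a * c = x at hac
  have haM : a ∈ R ⊔ X := Subgroup.mem_sup_right ha
  have hcM : c ∈ R ⊔ X := by
    rw [show c = a⁻¹ * x by rw [← hac, inv_mul_cancel_left]]
    exact mul_mem (inv_mem haM) (Subgroup.mem_sup_left x.2)
  rw [show Subgroup.inclusion le_sup_left x = (⟨a, haM⟩ : ↥(R ⊔ X)) * ⟨c, hcM⟩ from Subtype.ext hac.symm,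
    map_mul]
  refine Subgroup.mul_mem_sup ?_ ⟨apply_mem_S F hψ _, Subgroup.mem_centralizer_iff.2 fun y hy => ?_⟩
  · exact hψX.le ⟨⟨a, haM⟩, ha, rfl⟩
  · obtain ⟨w, hw, rfl⟩ := hψX.ge hy
    rw [← map_mul, ← map_mul]
    exact congrArg ψ (Subtype.ext (hc.2 _ hw))

theorem stronglyClosed_preimageAlong [Finite S] {Ω' : Type u} [Group Ω'] {S' : Subgroup Ω'} {θ : S →* Ω'}
    {E : FusionSystem S'} {X : Subgroup Ω} (hX : F.IsNormal X) (hE : F.IsFactorSystem X θ E)
    (hθ : F.IsSurjectiveMorphism E θ) {B : Subgroup Ω'} (hB : E.StronglyClosed B) :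
    F.StronglyClosed (preimageAlong θ B) := by
  refine ⟨preimageAlong_le θ B, fun R hR φ hφ x => ?_⟩
  have hRS := le_S F hφ
  obtain ⟨φ', hφ', hP₀, hφS, hθP, hφe⟩ := hθ.1.2 R φ hφ
  have hle : imageAlong θ R ≤ B := by
    rintro _ ⟨s, hs, rfl⟩
    exact (mem_preimageAlong (θ := θ)).1 (hR hs)
  refine (mem_preimageAlong (θ := θ) (s := ⟨φ x, hφS x⟩)).2 ?_
  rw [← hφe x]
  exact hB.2 _ hle φ' hφ' _

end

/-- In a `Qd(p)`-free system the core contains its centralizer. -/
theorem centralizerIn_core_le (hp : p ≠ 2) (n : ℕ) : ∀ {Ω : Type u} [Group Ω] {S : Subgroup Ω}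
    [Finite S] (F : FusionSystem S), Nat.card S = n → IsPGroup p S → F.IsSaturated p →
      F.IsSectionFree p ↥(Cfsg.qd p) → centralizerIn S F.core ≤ F.core := by
  induction n using Nat.strong_induction_on with
  | _ n ih =>
  intro Ω _ S _ F hn hS hF hfree
  rcases eq_or_ne S ⊥ with hS1 | hne
  · exact fun c hc => by
      have hc1 : c ∈ S := hc.1
      rw [hS1, Subgroup.mem_bot] at hc1
      exact hc1 ▸ one_mem _
  have hXne := core_ne_bot_of_qdFree hp hS hF hfree hne
  set X := F.core with hXdef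
  have hX : F.IsNormal X := isNormal_core
  obtain ⟨Ω', _, S', _, θ, E, hS', hlt, hEsat, hE, hθ⟩ := exists_quotient hS hF hX hXne
  have hU := ih _ (hn ▸ hlt) E rfl hS' hEsat (CfsgLib.Transfer.isSectionFree_factor hS hF hfree hX hE)
  set U := E.core with hUdef
  have hUn : E.IsNormal U := isNormal_core
  obtain ⟨m, hm, hUser⟩ := exists_series_of_isNormal hS' hUn
  obtain ⟨l, hl, hXser⟩ := exists_series_of_isNormal hS hX
  set XC := X ⊔ centralizerIn S X with hXC
  have hXCsc : F.StronglyClosed XC := stronglyClosed_sup_centralizerIn hX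
  set D := XC ⊓ preimageAlong θ U with hD
  have hDsc : F.StronglyClosed D :=
    stronglyClosed_inf hXCsc (stronglyClosed_preimageAlong hX hE hθ (stronglyClosed_of_isNormal hUn))
  have hXD : X ≤ D := le_inf le_sup_left (le_preimageAlong hE U)
  have hDn : F.IsNormal D := by
    refine isNormal_of_series hS hF hDsc
      (fun i => if i ≤ l then X.lowerCentralSeries (l - i)
        else D ⊓ preimageAlong θ (U.lowerCentralSeries (m - (i - l))))
      (l + m) ?_ ?_ ?_ ?_ ?_
    · rw [if_pos (Nat.zero_le l), Nat.sub_zero, hl]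
    · split_ifs with h
      · have hm0 : m = 0 := by omega
        subst hm0
        have hUb : U = ⊥ := by simpa using hm
        rw [show l + 0 = l from rfl, Nat.sub_self, Subgroup.lowerCentralSeries_zero]
        refine le_antisymm hXD ?_
        rintro d ⟨-, hd⟩
        obtain ⟨s, hs, rfl⟩ := hd
        refine (hE.2.1 s).1 ?_
        rw [hUb] at hs
        exact Subgroup.mem_bot.1 hs
      · rw [show m - (l + m - l) = 0 by omega, Subgroup.lowerCentralSeries_zero]
        exact inf_eq_left.2 inf_le_right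
    · intro i hi
      split_ifs
      · exact (X.lowerCentralSeries_le_self _).trans hXD
      · exact inf_le_left
    · intro i hi
      split_ifs
      · exact stronglyClosed_of_isNormal (hXser _)
      · exact stronglyClosed_inf hDsc (stronglyClosed_preimageAlong hX hE hθ (stronglyClosed_of_isNormal (hUser _)))
    · intro i hi
      have hDS : D ≤ S := inf_le_right.trans (preimageAlong_le θ U)
      by_cases h : i < l
      · rw [if_pos h.le, if_pos (Nat.succ_le_of_lt h)]
        rw [show l - i = (l - (i + 1)) + 1 by omega]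
        set j := l - (i + 1)
        rw [Subgroup.commutator_le]
        intro d hd y hy
        have hsn : F.StronglyClosed (X.lowerCentralSeries (j + 1)) := stronglyClosed_of_isNormal (hXser _)
        have hdm : d ∈ ((XC : Subgroup Ω) : Set Ω) := hd.1
        rw [hXC, Subgroup.coe_mul_of_right_le_normalizer_left X (centralizerIn S X)
          ((inf_le_left : centralizerIn S X ≤ S).trans (le_normalizer_of_stronglyClosed (stronglyClosed_of_isNormal hX)))] at hdm
        obtain ⟨a, ha, c, hc, rfl⟩ := hdm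
        have hcy : c * y = y * c := (hc.2 y (X.lowerCentralSeries_le_self _ hy)).symm
        have e : ⁅a * c, y⁆ = ⁅a, y⁆ := by
          rw [commutatorElement_def, commutatorElement_def]
          calc a * c * y * (a * c)⁻¹ * y⁻¹ = a * (c * y) * c⁻¹ * a⁻¹ * y⁻¹ := by group
            _ = a * (y * c) * c⁻¹ * a⁻¹ * y⁻¹ := by rw [hcy]
            _ = _ := by group
        rw [e, Subgroup.lowerCentralSeries_succ]
        have h2 := Subgroup.commutator_mem_commutator hy ha
        rw [← commutatorElement_inv]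
        exact inv_mem h2
      · have hgen : ⁅D, D ⊓ preimageAlong θ (U.lowerCentralSeries (m - (i + 1 - l)))⁆ ≤
            D ⊓ preimageAlong θ (U.lowerCentralSeries (m - (i - l))) := by
          rw [Subgroup.commutator_le]
          intro d hd y hy
          refine ⟨D.mul_mem (D.mul_mem (D.mul_mem hd hy.1) (D.inv_mem hd)) (D.inv_mem hy.1), ?_⟩
          refine (mem_preimageAlong (θ := θ) (s := ⁅(⟨d, hDS hd⟩ : S), ⟨y, hDS hy.1⟩⁆)).2 ?_
          rw [show m - (i - l) = (m - (i + 1 - l)) + 1 by omega, map_commutatorElement,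
            Subgroup.lowerCentralSeries_succ, ← commutatorElement_inv]
          refine inv_mem (Subgroup.commutator_mem_commutator ?_ ?_)
          · exact (mem_preimageAlong (θ := θ) (s := ⟨y, hDS hy.1⟩)).1 hy.2
          · exact (mem_preimageAlong (θ := θ) (s := ⟨d, hDS hd⟩)).1 hd.2
        rw [if_neg (show ¬ i + 1 ≤ l by omega)]
        refine hgen.trans ?_
        rcases eq_or_lt_of_le (Nat.le_of_not_lt h) with heq | hgt
        · rw [if_pos heq.ge, ← heq, Nat.sub_self, Subgroup.lowerCentralSeries_zero]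
          rintro w ⟨-, hw⟩
          obtain ⟨s, hs, rfl⟩ := hw
          refine (hE.2.1 s).1 ?_
          rw [SetLike.mem_coe, Subgroup.mem_comap, Nat.sub_zero, hm] at hs
          exact Subgroup.mem_bot.1 hs
        · rw [if_neg (show ¬ i ≤ l by omega)]
  have hDX : D ≤ X := le_sSup hDn
  -- the image of `X C_S(X)` meets the core of the quotient trivially
  intro c hc
  have hcS : c ∈ S := hc.1
  refine (hE.2.1 ⟨c, hcS⟩).1 ?_
  have hSsc : S ≤ Subgroup.normalizer (XC : Set Ω) := le_normalizer_of_stronglyClosed hXCsc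
  have hS'U : S' ≤ Subgroup.normalizer (U : Set Ω') :=
    le_normalizer_of_stronglyClosed (stronglyClosed_of_isNormal hUn)
  have hθS : ∀ s : S, θ s ∈ S' := fun s => hE.2.2.1.le ⟨s, rfl⟩
  have hkill : ∀ s : S, (s : Ω) ∈ XC → θ s ∈ U → θ s = 1 := fun s hs hu =>
    (hE.2.1 s).2 (hDX ⟨hs, (mem_preimageAlong (θ := θ)).2 hu⟩)
  have hcU : θ ⟨c, hcS⟩ ∈ centralizerIn S' U := by
    refine ⟨hθS _, Subgroup.mem_centralizer_iff.2 fun u hu => ?_⟩
    obtain ⟨t, rfl⟩ := hE.2.2.1.ge (hUn.1 hu)
    rw [← commutatorElement_eq_one_iff_mul_comm, ← map_commutatorElement]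
    refine hkill _ ?_ ?_
    · show (t : Ω) * c * (t : Ω)⁻¹ * c⁻¹ ∈ XC
      exact mul_mem ((Subgroup.mem_normalizer_iff.1 (hSsc t.2) c).1 (Subgroup.mem_sup_right hc))
        (inv_mem (Subgroup.mem_sup_right hc))
    · rw [map_commutatorElement, commutatorElement_def]
      have h1 : θ ⟨c, hcS⟩ * (θ t)⁻¹ * (θ ⟨c, hcS⟩)⁻¹ ∈ U :=
        (Subgroup.mem_normalizer_iff.1 (hS'U (hθS _)) _).1 (inv_mem hu)
      rw [show θ t * θ ⟨c, hcS⟩ * (θ t)⁻¹ * (θ ⟨c, hcS⟩)⁻¹ =
        θ t * (θ ⟨c, hcS⟩ * (θ t)⁻¹ * (θ ⟨c, hcS⟩)⁻¹) by group]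
      exact mul_mem hu h1
  exact hkill _ (Subgroup.mem_sup_right hc) (hU hcU)

end CfsgLib.Techniques.QdFreeConstrained
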