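import Cfsg.Agent.Lib.OddLocal.RankTwo.Tower
import Cfsg.Agent.Lib.Solvable.Fitting
import Cfsg.Agent.Lib.Cores.BalanceComp
import Cfsg.Agent.Lib.Transfer.Plane
import Cfsg.Agent.Lib.Transfer.SolvablePSolvable
import Cfsg.Agent.Lib.Transfer.CentralHall

/-!
The centralizer of an SCN subgroup of the Fitting subgroup of a Hall subgroup, away from `2` and `3`.
-/

namespace CfsgLib.Techniques.SCNCentralizer

open Subgroup Cfsg CfsgLib.Cores
open scoped commutatorElement

variable {S : Type*} [Group S] [Finite S]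

/-- A normal `π`-subgroup lies in every Hall `π`-subgroup. -/
theorem le_hall_of_normal {π : Set ℕ} {H N : Subgroup S} [N.Normal] (hH : IsPiHall π H)
    (hN : ∀ q : ℕ, q.Prime → q ∣ Nat.card N → q ∈ π) : N ≤ H := by
  have hcop : (Nat.card N).Coprime H.index :=
    Nat.coprime_of_dvd fun q hq hd hd' => hH.2 q hq (hN q hq hd) hd'
  have h1 : H.relIndex (H ⊔ N) ∣ Nat.card N := by
    refine (Nat.mul_dvd_mul_iff_left (Nat.card_pos (α := H))).1 ?_
    rw [show Nat.card H * H.relIndex (H ⊔ N) = Nat.card (H ⊔ N : Subgroup S) by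
      rw [relIndex, ← Nat.card_congr (subgroupOfEquivOfLe (le_sup_left : H ≤ H ⊔ N)).toEquiv, card_mul_index]]
    rw [sup_comm, mul_comm]
    exact card_sup_dvd_mul N H
  have h2 : H.relIndex (H ⊔ N) = 1 :=
    Nat.eq_one_of_dvd_coprimes hcop h1 (relIndex_dvd_index_of_le le_sup_left)
  exact le_sup_right.trans (relIndex_eq_one.1 h2)

/-- Iterated commutators with a coprime element. -/
theorem commute_of_coprime_of_quad {x v : S} (hc : Commute x (x * v * x⁻¹ * v⁻¹))
    (hcop : (orderOf x).Coprime (orderOf (x * v * x⁻¹ * v⁻¹))) : Commute x v := by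
  set c := x * v * x⁻¹ * v⁻¹
  have h1 : ∀ n : ℕ, x ^ n * v * (x ^ n)⁻¹ = c ^ n * v := by
    intro n
    induction n with
    | zero => simp
    | succ n ih =>
      calc x ^ (n + 1) * v * (x ^ (n + 1))⁻¹ = x * (x ^ n * v * (x ^ n)⁻¹) * x⁻¹ := by rw [pow_succ']; group
        _ = (x * c ^ n) * v * x⁻¹ := by rw [ih]; group
        _ = c ^ n * (x * v * x⁻¹ * v⁻¹) * v := by rw [(hc.pow_right n).eq]; group
        _ = _ := by rw [pow_succ]
  have h2 := h1 (orderOf x)
  rw [pow_orderOf_eq_one, one_mul, inv_one, mul_one, eq_comm, mul_eq_right] at h2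
  have h3 : orderOf c = 1 := Nat.eq_one_of_dvd_coprimes hcop.symm dvd_rfl (orderOf_dvd_of_pow_eq_one h2)
  exact mul_inv_eq_iff_eq_mul.1 (mul_inv_eq_one.1 (orderOf_eq_one_iff.1 h3))

/-- A `p`-element centralizing a self-centralizing normal subgroup of a nilpotent subgroup containing `F(S)`. -/
theorem mem_of_centralizes [Group.IsSolvable S] {p : ℕ} [hp : Fact p.Prime] (hp5 : 5 ≤ p) {K A : Subgroup S}
    (hFK : fittingSubgroup S ≤ K) (hA : IsSCN K A) {x : S} (hxA : x ∈ centralizer (A : Set S))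
    {k : ℕ} (hxo : orderOf x = p ^ k) : x ∈ A := by
  set F := fittingSubgroup S
  haveI : F.Normal := fittingSubgroup_normal
  have hFA : F ⊓ centralizer (A : Set S) ≤ A := (inf_le_inf_right _ hFK).trans hA.2.2.le
  have hquad : ∀ v ∈ F, Commute x (x * v * x⁻¹ * v⁻¹) := by
    intro v hv
    have hc : x * v * x⁻¹ * v⁻¹ ∈ F := mul_mem (Normal.conj_mem inferInstance v hv x) (inv_mem hv)
    have hcA : x * v * x⁻¹ * v⁻¹ ∈ centralizer (A : Set S) := by
      rw [mem_centralizer_iff]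
      intro a ha
      -- `v` normalizes `A`, so acts on it commuting with the action of `x`
      have h1 : v⁻¹ * a * v ∈ A := (mem_normalizer_iff''.1 (hA.2.1 (hFK hv)) a).1 ha
      have h2 := mem_centralizer_iff.1 hxA _ h1
      have h3 := mem_centralizer_iff.1 hxA a ha
      have h5 : x⁻¹ * a = a * x⁻¹ := by
        rw [inv_mul_eq_iff_eq_mul, ← mul_assoc, ← h3, mul_inv_cancel_right]
      calc a * (x * v * x⁻¹ * v⁻¹) = x * v * ((v⁻¹ * a * v) * x⁻¹) * v⁻¹ := by
            rw [← mul_assoc, ← mul_assoc, ← mul_assoc, h3]; group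
        _ = x * v * (x⁻¹ * (v⁻¹ * a * v)) * v⁻¹ := by
            rw [show (v⁻¹ * a * v) * x⁻¹ = x⁻¹ * (v⁻¹ * a * v) by
              rw [eq_inv_mul_iff_mul_eq, ← mul_assoc, ← h2, mul_inv_cancel_right]]
        _ = _ := by group
    exact (mem_centralizer_iff.1 hxA _ (hFA ⟨hc, hcA⟩)).symm
  -- coprime parts
  set R : Subgroup S := ⨆ q : {q : ℕ // q.Prime ∧ q ≠ p}, pCore q.1 S
  haveI hRn : R.Normal := normalizer_eq_top_iff.1 (top_le_iff.1 fun g _ => by
    rw [← map_conj_eq_self_iff, Subgroup.map_iSup]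
    exact iSup_congr fun q => map_conj_eq_self_iff.2 (by
      haveI : (pCore q.1 S).Normal := Subgroup.sSup_normal _ fun _ h => h.1
      rw [normalizer_eq_top (H := pCore q.1 S)]; exact mem_top g))
  have hxR : x ∈ centralizer (R : Set S) := by
    refine mem_centralizer_iff.2 fun v hv => ?_
    suffices h : R ≤ centralizer ({x} : Set S) from mem_centralizer_singleton_iff.1 (h hv)
    refine iSup_le fun ⟨q, hq, hqp⟩ => ?_
    haveI := Fact.mk hq
    intro v hv
    rw [mem_centralizer_singleton_iff]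
    have hc : x * v * x⁻¹ * v⁻¹ ∈ pCore q S :=
      mul_mem (Normal.conj_mem (Subgroup.sSup_normal _ fun _ h => h.1) v hv x) (inv_mem hv)
    obtain ⟨n, hn⟩ := IsPGroup.iff_orderOf.1 (isPGroup_pCore q) ⟨_, hc⟩
    rw [orderOf_mk] at hn
    exact (commute_of_coprime_of_quad (hquad v (pCore_le_fittingSubgroup q hv))
      (by rw [hxo, hn]; exact ((Nat.coprime_primes hp.out hq).2 (Ne.symm hqp)).pow k n)).symm.eq
  -- stability on `O_p`
  set V := pCore p S
  have hstd : PStab.StableAll p S := Transfer.stableAll_of_stdFree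
    (Transfer.stdFree_of_isPSolvable hp5 (Transfer.isPSolvable_of_isSolvable p inferInstance))
  haveI hVn : V.Normal := Subgroup.sSup_normal _ fun _ h => h.1
  have hVtop : normalizer (V : Set S) = ⊤ := normalizer_eq_top V
  have hq : PStab.IsQuad V x := by
    intro v hv
    have h := hquad v (pCore_le_fittingSubgroup p hv)
    rw [commutatorElement_eq_one_iff_commute]
    have e : ⁅v, x⁆ = (x * v * x⁻¹ * v⁻¹)⁻¹ := by rw [commutatorElement_def]; group
    rw [e]
    exact h.symm.inv_left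
  obtain ⟨K₀, -, hK₀n, hxK₀, hK₀⟩ := hstd V (isPGroup_pCore p) x (hVtop ▸ mem_top x) hq
  rw [hVtop] at hK₀n
  haveI : K₀.Normal := normalizer_eq_top_iff.1 (top_le_iff.1 hK₀n)
  set M := centralizer (R : Set S)
  haveI : M.Normal := normalizer_eq_top_iff.1 (top_le_iff.1
    ((normalizer_eq_top R).ge.trans (Solvable.normalizer_le_normalizer_centralizer R)))
  set W := K₀ ⊓ M
  -- `F = O_p R`
  have hFsup : F ≤ V ⊔ R := by
    refine fittingSubgroup_le_iSup_pCore.trans (iSup_le fun ⟨q, hq⟩ => ?_)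
    rcases eq_or_ne q p with rfl | hne
    · exact le_sup_left
    · exact le_sup_of_le_right (le_iSup (fun q : {q : ℕ // q.Prime ∧ q ≠ p} => pCore q.1 S)
        ⟨q, Nat.prime_of_mem_primeFactors hq, hne⟩)
  have hRF : R ≤ F := iSup_le fun ⟨q, hq, _⟩ => (haveI := Fact.mk hq; pCore_le_fittingSubgroup q)
  have hWnil : Group.IsNilpotent W := by
    refine Group.of_quotient_center_nilpotent (IsPGroup.isNilpotent (p := p) ?_)
    intro g
    obtain ⟨⟨w, hw⟩, rfl⟩ := QuotientGroup.mk'_surjective (center W) g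
    obtain ⟨n, hn⟩ := hK₀ w hw.1
    have hzF : w ^ p ^ n ∈ F := by
      refine Solvable.centralizer_fittingSubgroup_le (mem_centralizer_iff.2 fun f hf => ?_)
      suffices h : F ≤ centralizer ({w ^ p ^ n} : Set S) from mem_centralizer_singleton_iff.1 (h hf)
      refine hFsup.trans (sup_le (fun v hv => ?_) fun v hv => ?_)
      · exact mem_centralizer_singleton_iff.2 (mem_centralizer_iff.1 hn v hv)
      · exact mem_centralizer_singleton_iff.2 ((Commute.pow_right (mem_centralizer_iff.1 hw.2 v hv) _).eq)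
    obtain ⟨m, hm⟩ := (isPGroup_pCore (G := S) p).exists_card_eq
    have hzR : (w ^ p ^ n) ^ p ^ m ∈ R := by
      have h1 := hFsup hzF
      rw [← SetLike.mem_coe, coe_mul_of_left_le_normalizer_right _ _ (by rw [normalizer_eq_top]; exact le_top)] at h1
      obtain ⟨v, hv, r, hr, hvr⟩ := Set.mem_mul.1 h1
      rw [← hvr, ← QuotientGroup.eq_one_iff (N := R), QuotientGroup.mk_pow, QuotientGroup.mk_mul,
        (QuotientGroup.eq_one_iff r).2 hr, mul_one, ← QuotientGroup.mk_pow, ← hm,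
        show v ^ Nat.card (pCore p S) = 1 from congrArg Subtype.val (pow_card_eq_one' (x := (⟨v, hv⟩ : pCore p S))),
        QuotientGroup.mk_one]
    refine ⟨n + m, ?_⟩
    rw [← map_pow]
    refine (QuotientGroup.eq_one_iff _).2 (mem_center_iff.2 fun ⟨u, hu⟩ => Subtype.ext ?_)
    show u * w ^ p ^ (n + m) = w ^ p ^ (n + m) * u
    rw [pow_add, pow_mul]
    exact (mem_centralizer_iff.1 hu.2 _ hzR).symm
  exact hFA ⟨le_fittingSubgroup hWnil ⟨hxK₀, hxR⟩, hxA⟩

/-- The complement of `A` in its centralizer. -/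
theorem exists_complement [Group.IsSolvable S] {π : Set ℕ} (h2 : 2 ∉ π) (h3 : 3 ∉ π) {H : Subgroup S}
    (hH : IsPiHall π H) {A : Subgroup S} (hA : IsSCN ((fittingSubgroup H).map H.subtype) A) :
    ∃ D : Subgroup S, D ≤ centralizer (A : Set S) ∧
      (∀ c ∈ centralizer (A : Set S), ∀ d ∈ D, c * d * c⁻¹ ∈ D) ∧
      A ⊓ D = ⊥ ∧ A ⊔ D = centralizer (A : Set S) ∧
      ∀ q : ℕ, q.Prime → q ∣ Nat.card D → q ∉ π := by
  set K := (fittingSubgroup H).map H.subtype
  have hKH : K ≤ H := map_subtype_le _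
  have hAH : A ≤ H := hA.1.trans hKH
  set N := piCore {q | q ∉ π} S
  haveI : N.Normal := piCore_normal _ S
  have hN : ∀ q : ℕ, q.Prime → q ∣ Nat.card N → q ∉ π := fun q hq hd => CfsgLib.OddLocal.Ten.prime_mem_piCore hq hd
  have hdisj : ∀ {y : S}, (∀ q : ℕ, q.Prime → q ∣ orderOf y → q ∈ π) → y ∈ N → y = 1 := fun {y} hy hyN => by
    by_contra hne
    obtain ⟨q, hq, hqd⟩ := Nat.exists_prime_and_dvd (fun h => hne (orderOf_eq_one_iff.1 h))
    exact hN q hq (hqd.trans (Subgroup.orderOf_dvd_natCard N hyN)) (hy q hq hqd)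
  have hHπ : ∀ {y : S}, y ∈ H → ∀ q : ℕ, q.Prime → q ∣ orderOf y → q ∈ π := fun {y} hy q hq hd =>
    hH.1 q hq (hd.trans (Subgroup.orderOf_dvd_natCard H hy))
  set f := QuotientGroup.mk' N
  have hinj : Function.Injective (f.comp H.subtype) := (injective_iff_map_eq_one _).2 fun y hy =>
    Subtype.ext (hdisj (hHπ y.2) ((QuotientGroup.eq_one_iff _).1 hy))
  set H' := H.map f
  have hH' : IsPiHall π H' := by
    refine ⟨fun q hq hd => hH.1 q hq (hd.trans (card_map_dvd _ _)), fun q hq hqπ hd => ?_⟩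
    exact hH.2 q hq hqπ (hd.trans (Subgroup.index_map_dvd _ (QuotientGroup.mk'_surjective N)))
  let e : H ≃* H' := MulEquiv.ofBijective (f.subgroupMap H) ⟨fun a b hab => hinj (congrArg Subtype.val hab),
    f.subgroupMap_surjective H⟩
  set K' := (fittingSubgroup H').map H'.subtype
  have hKK' : K.map f = K' := by
    show K.map f = (fittingSubgroup H').map H'.subtype
    rw [← map_fittingSubgroup_equiv e, Subgroup.map_map, Subgroup.map_map]
    rfl
  have hA' : IsSCN K' (A.map f) := by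
    refine ⟨hKK' ▸ map_mono hA.1, hKK' ▸ ((map_mono hA.2.1).trans (le_normalizer_map f)), ?_⟩
    refine le_antisymm ?_ (le_inf (hKK' ▸ map_mono hA.1) ?_)
    · rintro _ ⟨hk, hc⟩
      rw [← hKK'] at hk
      obtain ⟨y, hy, rfl⟩ := hk
      refine ⟨y, hA.2.2.le ⟨hy, mem_centralizer_iff.2 fun a ha => ?_⟩, rfl⟩
      have h := mem_centralizer_iff.1 hc (f a) (mem_map_of_mem f ha)
      rw [← map_mul, ← map_mul] at h
      have h' : (f.comp H.subtype) ((⟨a, hAH ha⟩ : H) * ⟨y, hKH hy⟩) =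
          (f.comp H.subtype) ((⟨y, hKH hy⟩ : H) * ⟨a, hAH ha⟩) := h
      exact congrArg Subtype.val (hinj h')
    · rintro _ ⟨a, ha, rfl⟩
      refine mem_centralizer_iff.2 ?_
      rintro _ ⟨b, hb, rfl⟩
      have h1 : a ∈ centralizer (A : Set S) := (hA.2.2.ge ha).2
      rw [← map_mul, ← map_mul, mem_centralizer_iff.1 h1 b hb]
  have hFK : fittingSubgroup (S ⧸ N) ≤ K' := by
    haveI : (fittingSubgroup (S ⧸ N)).Normal := fittingSubgroup_normal
    have hle : fittingSubgroup (S ⧸ N) ≤ H' := by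
      refine fittingSubgroup_le_iSup_pCore.trans (iSup_le fun ⟨q, hq⟩ => ?_)
      haveI := Fact.mk (Nat.prime_of_mem_primeFactors hq)
      haveI : (pCore q (S ⧸ N)).Normal := Subgroup.sSup_normal _ fun _ h => h.1
      by_cases hqπ : q ∈ π
      · refine le_hall_of_normal hH' fun r hr hd => ?_
        obtain ⟨n, hn⟩ := (isPGroup_pCore (G := S ⧸ N) q).exists_card_eq
        exact (Nat.prime_dvd_prime_iff_eq hr (Nat.prime_of_mem_primeFactors hq)).1
          (hr.dvd_of_dvd_pow (hn ▸ hd)) ▸ hqπ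
      · rw [show pCore q (S ⧸ N) = ⊥ from CfsgLib.OddLocal.RankTwo.pCore_quotient_piCore_eq_bot
          (π := {q | q ∉ π}) hqπ]
        exact bot_le
    rw [← map_subgroupOf_eq_of_le hle]
    refine map_mono (le_fittingSubgroup ?_)
    haveI := isNilpotent_fittingSubgroup (G := S ⧸ N)
    exact Group.nilpotent_of_mulEquiv (subgroupOfEquivOfLe hle).symm
  set C := centralizer (A : Set S)
  have hAC : A ≤ C := fun a ha => (hA.2.2.ge ha).2
  -- the `p`-elements of `C`
  have hpel : ∀ p : ℕ, p.Prime → p ∈ π → ∀ x ∈ C, ∀ k, orderOf x = p ^ k → x ∈ A := by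
    intro p hp hpπ x hx k hk
    haveI := Fact.mk hp
    have hp5 : 5 ≤ p := by
      have h4 : p ≠ 4 := fun h => by subst h; norm_num at hp
      have := hp.two_le
      have : p ≠ 2 := fun h => h2 (h ▸ hpπ)
      have : p ≠ 3 := fun h => h3 (h ▸ hpπ)
      omega
    obtain ⟨j, -, hj⟩ := (Nat.dvd_prime_pow hp).1 (hk ▸ orderOf_map_dvd f x)
    obtain ⟨a, ha, hax⟩ := mem_of_centralizes hp5 hFK hA' (mem_centralizer_iff.2 (by
      rintro _ ⟨a, ha, rfl⟩
      rw [← map_mul, ← map_mul, mem_centralizer_iff.1 hx a ha]) : f x ∈ _) hj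
    have hn : a⁻¹ * x ∈ N := (QuotientGroup.eq.1 hax)
    have hn1 : a⁻¹ * x = 1 := by
      refine hdisj (fun q hq hd => ?_) hn
      have hcomm : Commute a⁻¹ x := ((show Commute a x from mem_centralizer_iff.1 hx a ha)).inv_left
      rcases (Nat.Prime.dvd_lcm hq).1 (hd.trans hcomm.orderOf_mul_dvd_lcm) with h | h
      · exact hHπ (inv_mem (hAH ha)) q hq h
      · rw [hk] at h
        exact (Nat.prime_dvd_prime_iff_eq hq hp).1 (hq.dvd_of_dvd_pow h) ▸ hpπ
    rw [inv_mul_eq_one.1 hn1] at ha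
    exact ha
  set A' := A.subgroupOf C
  have hidx : ∀ q : ℕ, q.Prime → q ∣ A'.index → q ∉ π := by
    intro q hq hd hqπ
    haveI := Fact.mk hq
    obtain ⟨P⟩ : Nonempty (Sylow q C) := inferInstance
    have hle : (P : Subgroup C) ≤ A' := fun x hx => by
      obtain ⟨k, hk⟩ := IsPGroup.iff_orderOf.1 P.2 ⟨x, hx⟩
      rw [orderOf_mk] at hk
      exact hpel q hq hqπ x x.2 k (by rw [orderOf_coe, hk])
    exact P.not_dvd_index (hd.trans (index_dvd_of_le hle))
  have hcop : (Nat.card A').Coprime A'.index := Nat.coprime_of_dvd fun q hq hd hd' =>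
    hidx q hq hd' (hH.1 q hq ((Nat.card_congr (subgroupOfEquivOfLe hAC).toEquiv ▸ hd).trans (card_dvd_of_le hAH)))
  obtain ⟨D, hDn, hD⟩ := CfsgLib.Transfer.exists_normal_complement_of_central_hall A' hcop
    fun g _ => mem_centralizer_iff.2 fun a ha => Subtype.ext (mem_centralizer_iff.1 g.2 a ha)
  refine ⟨D.map C.subtype, map_subtype_le _, ?_, ?_, ?_, fun q hq hd => hidx q hq ?_⟩
  · rintro c hc _ ⟨d, hd, rfl⟩
    exact ⟨⟨c, hc⟩ * d * ⟨c, hc⟩⁻¹, hDn.conj_mem d hd _, rfl⟩
  · rw [← map_subgroupOf_eq_of_le hAC, ← Subgroup.map_inf _ _ _ C.subtype_injective,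
      hD.symm.disjoint.eq_bot, Subgroup.map_bot]
  · conv_lhs => rw [← map_subgroupOf_eq_of_le hAC]
    rw [← Subgroup.map_sup, hD.symm.sup_eq_top, ← MonoidHom.range_eq_map, range_subtype]
  · rwa [hD.index_eq_card, ← card_map_of_injective C.subtype_injective]

end CfsgLib.Techniques.SCNCentralizer
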