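import Cfsg.Agent.Lib.PGroup.Basic

/-!
Counting square roots of `1` in a 2-group `X` with a central elementary abelian subgroup `W` containing
all squares and commutators: the sign sums `∑ x, χ (x * x)` and their squares.
-/

set_option autoImplicit false

namespace CfsgLib.Techniques.TwoGroupCount

open Subgroup Finset
open scoped commutatorElement

variable {X : Type*} [Group X]

theorem sq_mul {x y : X} (h : ⁅y, x⁆ ∈ center X) : (x * y) * (x * y) = ⁅y, x⁆ * (x * x * (y * y)) := by
  calc x * y * (x * y) = x * ⁅y, x⁆ * (x * y * y) := by simp [commutatorElement_def, mul_assoc]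
    _ = ⁅y, x⁆ * x * (x * y * y) := by rw [mem_center_iff.1 h x]
    _ = _ := by group

theorem comm_inv_left {W : Subgroup X} (hWc : W ≤ center X) {y x : X} (h : ⁅y, x⁆ ∈ W) :
    ⁅y⁻¹, x⁆ = ⁅y, x⁆⁻¹ := by
  refine eq_inv_of_mul_eq_one_left ?_
  rw [← CfsgLib.PGroup.comm_mul_left (hWc h), inv_mul_cancel, commutatorElement_one_left]

theorem mem_zpowers_iff_of_sq {a w : X} (ha : a * a = 1) : w ∈ zpowers a ↔ w = 1 ∨ w = a := by
  constructor
  · rintro ⟨i, rfl⟩
    obtain ⟨j, rfl | rfl⟩ := Int.even_or_odd' i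
    · left
      show a ^ (2 * j) = 1
      rw [zpow_mul, show a ^ (2 : ℤ) = 1 by rw [zpow_two, ha], one_zpow]
    · right
      show a ^ (2 * j + 1) = a
      rw [zpow_add, zpow_mul, show a ^ (2 : ℤ) = 1 by rw [zpow_two, ha], one_zpow, one_mul, zpow_one]
  · rintro (rfl | rfl)
    · exact one_mem _
    · exact mem_zpowers _

theorem card_zpowers_of_sq {a : X} (ha : a * a = 1) (h1 : a ≠ 1) : Nat.card (zpowers a) = 2 := by
  rw [Nat.card_zpowers]
  exact orderOf_eq_prime (by rw [pow_two, ha]) h1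

/-- A subgroup of index two of `W`. -/
theorem mul_mem_iff {W K : Subgroup X} [Finite W] (hKW : K ≤ W) (h : 2 * Nat.card K = Nat.card W)
    {a b : X} (ha : a ∈ W) (hb : b ∈ W) : a * b ∈ K ↔ (a ∈ K ↔ b ∈ K) := by
  have hidx : (K.subgroupOf W).index = 2 := by
    have h1 := Subgroup.card_mul_index (K.subgroupOf W)
    rw [Nat.card_congr (subgroupOfEquivOfLe hKW).toEquiv, ← h] at h1
    haveI : Finite K := Finite.of_injective _ (Subgroup.inclusion_injective hKW)
    have := Nat.card_pos (α := K)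
    exact Nat.eq_of_mul_eq_mul_left this (by omega)
  simpa [mem_subgroupOf] using Subgroup.mul_mem_iff_of_index_two hidx (a := ⟨a, ha⟩) (b := ⟨b, hb⟩)

/-- The sign attached to a subgroup `K`. -/
noncomputable def chi (K : Subgroup X) (w : X) : ℤ := by classical exact if w ∈ K then 1 else -1

theorem chi_of_mem {K : Subgroup X} {w : X} (h : w ∈ K) : chi K w = 1 := by
  simp [chi, h]

theorem chi_of_notMem {K : Subgroup X} {w : X} (h : w ∉ K) : chi K w = -1 := by
  simp [chi, h]

theorem chi_cases (K : Subgroup X) (w : X) : (w ∈ K ∧ chi K w = 1) ∨ (w ∉ K ∧ chi K w = -1) := by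
  by_cases h : w ∈ K
  · exact Or.inl ⟨h, chi_of_mem h⟩
  · exact Or.inr ⟨h, chi_of_notMem h⟩

theorem chi_sq (K : Subgroup X) (w : X) : chi K w * chi K w = 1 := by
  rcases chi_cases K w with ⟨-, h⟩ | ⟨-, h⟩ <;> rw [h] <;> norm_num

theorem chi_mul {W K : Subgroup X} [Finite W] (hKW : K ≤ W) (h : 2 * Nat.card K = Nat.card W)
    {a b : X} (ha : a ∈ W) (hb : b ∈ W) : chi K (a * b) = chi K a * chi K b := by
  have := mul_mem_iff hKW h ha hb
  rcases chi_cases K a with ⟨h1, e1⟩ | ⟨h1, e1⟩ <;> rcases chi_cases K b with ⟨h2, e2⟩ | ⟨h2, e2⟩ <;>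
    rcases chi_cases K (a * b) with ⟨h3, e3⟩ | ⟨h3, e3⟩ <;> rw [e1, e2, e3] <;> norm_num <;> tauto

section Setting

variable {W : Subgroup X} (hWc : W ≤ center X) (hsq : ∀ x : X, x * x ∈ W)
  (hcomm : ∀ x y : X, ⁅x, y⁆ ∈ W)

/-- The radical of the commutator form modulo `K`. -/
def rad (K : Subgroup X) : Subgroup X where
  carrier := {y | ∀ x : X, ⁅y, x⁆ ∈ K}
  one_mem' := fun x => by simp
  mul_mem' := fun {a b} ha hb x => by
    rw [CfsgLib.PGroup.comm_mul_left (hWc (hcomm b x))]
    exact K.mul_mem (ha x) (hb x)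
  inv_mem' := fun {a} ha x => by
    rw [comm_inv_left hWc (hcomm a x)]
    exact K.inv_mem (ha x)

theorem mem_rad {K : Subgroup X} {y : X} : y ∈ rad hWc hcomm K ↔ ∀ x : X, ⁅y, x⁆ ∈ K := Iff.rfl

theorem le_rad (K : Subgroup X) : W ≤ rad hWc hcomm K := fun w hw x => by
  rw [commutatorElement_eq_one_iff_mul_comm.2 (mem_center_iff.1 (hWc hw) x).symm]
  exact one_mem _

variable [Fintype X]

/-- The sign sum of a subgroup `K` of index two in `W`. -/
noncomputable def charSum (K : Subgroup X) : ℤ := ∑ x : X, chi K (x * x)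

theorem sum_chi_comm {K : Subgroup X} (hKW : K ≤ W) (h : 2 * Nat.card K = Nat.card W) (y : X) :
    (∑ x : X, chi K ⁅y, x⁆) =
      @ite ℤ (y ∈ rad hWc hcomm K) (Classical.dec _) (Fintype.card X : ℤ) 0 := by
  classical
  split_ifs with hy
  · simp [chi_of_mem (hy _)]
  · obtain ⟨a, ha⟩ := not_forall.1 hy
    have e := Equiv.sum_comp (Equiv.mulLeft a) fun x : X => chi K ⁅y, x⁆
    simp only [Equiv.coe_mulLeft] at e
    have e' : ∀ x : X, chi K ⁅y, a * x⁆ = -chi K ⁅y, x⁆ := by
      intro x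
      rw [CfsgLib.PGroup.comm_mul_right (hWc (hcomm y x)), chi_mul hKW h (hcomm y a) (hcomm y x),
        chi_of_notMem ha, neg_one_mul]
    simp only [e', Finset.sum_neg_distrib] at e
    omega

include hsq in
theorem charSum_sq {K : Subgroup X} (hKW : K ≤ W) (h : 2 * Nat.card K = Nat.card W) :
    (charSum K * charSum K = 0 ∧ ¬ ∀ y ∈ rad hWc hcomm K, y * y ∈ K) ∨
      ((∀ y ∈ rad hWc hcomm K, y * y ∈ K) ∧
        charSum K * charSum K = (Fintype.card X : ℤ) * Nat.card (rad hWc hcomm K)) := by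
  classical
  have hf : ∀ x y : X, chi K (x * y * (x * y)) = chi K ⁅y, x⁆ * (chi K (x * x) * chi K (y * y)) := by
    intro x y
    rw [sq_mul (hWc (hcomm y x)), chi_mul hKW h (hcomm y x) (W.mul_mem (hsq x) (hsq y)),
      chi_mul hKW h (hsq x) (hsq y)]
  have hg := sum_chi_comm hWc hcomm hKW h
  have key : charSum K * charSum K =
      (Fintype.card X : ℤ) * ∑ y : rad hWc hcomm K, chi K ((y : X) * y) := by
    calc charSum K * charSum K = ∑ x : X, ∑ y : X, chi K (x * x) * chi K (y * y) := by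
          rw [charSum, Finset.sum_mul_sum]
      _ = ∑ x : X, ∑ y : X, chi K (y * y) * chi K ⁅y, x⁆ := by
          refine Finset.sum_congr rfl fun x _ => ?_
          rw [← Equiv.sum_comp (Equiv.mulLeft x) fun y : X => chi K (x * x) * chi K (y * y)]
          refine Finset.sum_congr rfl fun y _ => ?_
          simp only [Equiv.coe_mulLeft]
          rw [hf x y]
          linear_combination (chi K ⁅y, x⁆ * chi K (y * y)) * chi_sq K (x * x)
      _ = ∑ y : X, chi K (y * y) * ∑ x : X, chi K ⁅y, x⁆ := by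
          rw [Finset.sum_comm]; simp [Finset.mul_sum]
      _ = ∑ y : X, if y ∈ rad hWc hcomm K then (Fintype.card X : ℤ) * chi K (y * y) else 0 := by
          refine Finset.sum_congr rfl fun y _ => ?_
          rw [hg y]; split_ifs <;> ring
      _ = _ := by
          rw [← Finset.sum_filter, Finset.mul_sum]
          exact (Finset.sum_subtype _ (fun y => by simp) fun y => (Fintype.card X : ℤ) * chi K (y * y))
  have hhom : ∀ a b : rad hWc hcomm K,
      chi K (((a * b : rad hWc hcomm K) : X) * ((a * b : rad hWc hcomm K) : X)) =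
        chi K ((a : X) * a) * chi K ((b : X) * b) := by
    intro a b
    rw [Subgroup.coe_mul, hf, chi_of_mem (b.2 _), one_mul]
  by_cases hall : ∀ y ∈ rad hWc hcomm K, y * y ∈ K
  · refine Or.inr ⟨hall, ?_⟩
    rw [key, Finset.sum_congr rfl fun (y : rad hWc hcomm K) _ => chi_of_mem (hall (y : X) y.2)]
    simp [Nat.card_eq_fintype_card]
  · refine Or.inl ⟨?_, hall⟩
    push Not at hall
    obtain ⟨a, ha, haK⟩ := hall
    have e := Equiv.sum_comp (Equiv.mulLeft (⟨a, ha⟩ : rad hWc hcomm K))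
      fun y : rad hWc hcomm K => chi K ((y : X) * y)
    simp only [Equiv.coe_mulLeft, hhom, chi_of_notMem haK, neg_one_mul, Finset.sum_neg_distrib] at e
    rw [key, show (∑ y : rad hWc hcomm K, chi K ((y : X) * y)) = 0 by omega, mul_zero]

end Setting

/-! ### Four-groups -/

theorem four_cases {W : Subgroup X} [Finite W] (hW4 : Nat.card W = 4) (hW2 : ∀ w ∈ W, w * w = 1)
    {a b : X} (ha : a ∈ W) (hb : b ∈ W) (ha1 : a ≠ 1) (hb1 : b ≠ 1) (hab : a ≠ b) :
    ∀ w ∈ W, w = 1 ∨ w = a ∨ w = b ∨ w = a * b := by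
  classical
  have := Fintype.ofFinite W
  intro w hw
  have hab1 : a * b ≠ 1 := fun h => hab (mul_right_cancel (h.trans (hW2 b hb).symm))
  let s : Finset W := {1, ⟨a, ha⟩, ⟨b, hb⟩, ⟨a * b, W.mul_mem ha hb⟩}
  have hs : s.card = 4 := by
    rw [Finset.card_insert_of_notMem, Finset.card_insert_of_notMem, Finset.card_insert_of_notMem,
      Finset.card_singleton] <;> simp [Subtype.ext_iff, ha1, hb1, hab, ha1.symm, hb1.symm, hab1.symm]
  have hu : s = Finset.univ := Finset.eq_univ_of_card _ (by rw [hs, ← Nat.card_eq_fintype_card, hW4])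
  have hmem : (⟨w, hw⟩ : W) ∈ s := hu ▸ Finset.mem_univ _
  simpa [s, Subtype.ext_iff] using hmem

/-- The three sign sums of a four-group count the square roots of `1`. -/
theorem four_mul_card [Fintype X] {W : Subgroup X} (hsq : ∀ x : X, x * x ∈ W) (hW4 : Nat.card W = 4)
    (hW2 : ∀ w ∈ W, w * w = 1)
    {a b : X} (ha : a ∈ W) (hb : b ∈ W) (ha1 : a ≠ 1) (hb1 : b ≠ 1) (hab : a ≠ b) :
    4 * (Nat.card {x : X // x * x = 1} : ℤ) = Fintype.card X + charSum (zpowers a) +
      charSum (zpowers b) + charSum (zpowers (a * b)) := by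
  classical
  have hab1 : a * b ≠ 1 := fun h => hab (mul_right_cancel (h.trans (hW2 b hb).symm))
  have key : ∀ x : X, (if x * x = 1 then (4 : ℤ) else 0) = 1 + chi (zpowers a) (x * x) +
      chi (zpowers b) (x * x) + chi (zpowers (a * b)) (x * x) := by
    intro x
    have ma := fun w : X => mem_zpowers_iff_of_sq (w := w) (hW2 a ha)
    have mb := fun w : X => mem_zpowers_iff_of_sq (w := w) (hW2 b hb)
    have mc := fun w : X => mem_zpowers_iff_of_sq (w := w) (hW2 _ (W.mul_mem ha hb))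
    rcases four_cases hW4 hW2 ha hb ha1 hb1 hab _ (hsq x) with h | h | h | h <;> rw [h]
    · simp [chi]
    · simp [chi, ma, mb, mc, ha1, hab, hb1]
    · simp [chi, ma, mb, mc, hb1, hab.symm, ha1]
    · simp [chi, ma, mb, mc, hab1, ha1, hb1]
  have e := Finset.sum_congr (s₁ := Finset.univ) rfl fun x _ => key x
  simp only [Finset.sum_add_distrib] at e
  rw [← Finset.sum_filter] at e
  simp [charSum] at e ⊢
  rw [Fintype.card_subtype]
  linarith

theorem card_le_of_cover [Finite X] {H W : Subgroup X} (S : Finset X)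
    (h : ∀ x ∈ H, ∃ s ∈ S, s⁻¹ * x ∈ W) : Nat.card H ≤ S.card * Nat.card W := by
  classical
  let g : H → S × W := fun x =>
    (⟨(h x x.2).choose, (h x x.2).choose_spec.1⟩,
      ⟨(h x x.2).choose⁻¹ * x, (h x x.2).choose_spec.2⟩)
  have hg : Function.Injective g := fun x y e => by
    have e1 := congrArg (fun p : S × W => (p.1 : X)) e
    have e2 := congrArg (fun p : S × W => (p.2 : X)) e
    simp only [g] at e1 e2
    rw [e1] at e2
    exact Subtype.ext (mul_left_cancel e2)
  simpa [Nat.card_prod] using Nat.card_le_card_of_injective g hg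

theorem card_rad_le [Finite X] {W : Subgroup X} (hWc : W ≤ center X)
    (hcomm : ∀ x y : X, ⁅x, y⁆ ∈ W) (hW4 : Nat.card W = 4)
    (hinv : ∀ x : X, x * x = 1 → x ∈ W) {a : X} (ha : a * a = 1)
    (hR : ∀ y ∈ rad hWc hcomm (zpowers a), y * y ∈ zpowers a) :
    Nat.card (rad hWc hcomm (zpowers a)) ≤ 16 := by
  classical
  set R := rad hWc hcomm (zpowers a) with hRdef
  have hsqa : ∀ y ∈ R, y ∉ W → y * y = a := fun y hy hyW =>
    ((mem_zpowers_iff_of_sq ha).1 (hR y hy)).resolve_left fun h => hyW (hinv y h)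
  have hpair : ∀ x ∈ R, ∀ y ∈ R, x ∉ W → y ∉ W → y * x ∉ W → ⁅x, y⁆ = a := by
    intro x hx y hy hxW hyW hxy
    have := hsqa _ (R.mul_mem hy hx) hxy
    rwa [sq_mul (hWc (hcomm x y)), hsqa x hx hxW, hsqa y hy hyW, ha, mul_one] at this
  have hinvW : ∀ y ∈ R, y ∉ W → ∀ z, y * z ∈ W → y⁻¹ * z ∈ W := by
    intro y hy hyW z hz
    have : y * y ∈ W := by
      rw [hsqa y hy hyW]
      by_contra hc
      exact hc (hinv a ha)
    have e : y⁻¹ * z = (y * y)⁻¹ * (y * z) := by group
    rw [e]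
    exact W.mul_mem (W.inv_mem this) hz
  by_contra hlt
  push Not at hlt
  have cover : ∀ S : Finset X, S.card ≤ 4 → ∃ z ∈ R, ∀ s ∈ S, s⁻¹ * z ∉ W := by
    intro S hS
    by_contra hc
    push Not at hc
    have := card_le_of_cover S hc
    rw [hW4] at this
    omega
  obtain ⟨x, hx, hxS⟩ := cover {1} (by simp)
  have hxW : x ∉ W := by simpa using hxS 1 (by simp)
  obtain ⟨y, hy, hyS⟩ := cover {1, x} (le_trans (Finset.card_le_two) (by norm_num))
  have hyW : y ∉ W := by simpa using hyS 1 (by simp)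
  have hxy : x * y ∉ W := fun h => hyS x (by simp) (hinvW x hx hxW y h)
  obtain ⟨z, hz, hzS⟩ := cover {1, x, y, x * y} (Finset.card_le_four)
  have hzW : z ∉ W := by simpa using hzS 1 (by simp)
  have hzy : z * y ∉ W := fun h => hzS y (by simp) (by
    have h' : y * z ∈ W := by
      have e : y * z = y * (z * y) * y⁻¹ := by group
      rw [e, mem_center_iff.1 (hWc h) y]
      simpa [mul_assoc] using h
    exact hinvW y hy hyW z h')
  have hzx : z * x ∉ W := fun h => hzS x (by simp) (by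
    have h' : x * z ∈ W := by
      have e : x * z = x * (z * x) * x⁻¹ := by group
      rw [e, mem_center_iff.1 (hWc h) x]
      simpa [mul_assoc] using h
    exact hinvW x hx hxW z h')
  have hyx : y * x ∉ W := fun h => hxy (by
    have e : x * y = x * (y * x) * x⁻¹ := by group
    rw [e, mem_center_iff.1 (hWc h) x]
    simpa [mul_assoc] using h)
  have hyzW : y * z ∉ W := fun h => hzS y (by simp) (hinvW y hy hyW z h)
  have hyzx : y * z * x ∉ W := fun h => hzS (x * y) (by simp) (by
    have h' : x * (y * z) ∈ W := by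
      have e : x * (y * z) = x * (y * z * x) * x⁻¹ := by group
      rw [e, mem_center_iff.1 (hWc h) x]
      simpa [mul_assoc] using h
    have h2 := hinvW x hx hxW (y * z) h'
    have h3 : y⁻¹ * (x⁻¹ * z) ∈ W := by
      have e : y⁻¹ * (x⁻¹ * z) = (y⁻¹ * (x⁻¹ * y⁻¹ * x * y) * y) * (y * y)⁻¹ * (x⁻¹ * (y * z)) := by
        group
      rw [e]
      refine W.mul_mem (W.mul_mem ?_ (W.inv_mem ?_)) h2
      · have hc : x⁻¹ * y⁻¹ * x * y ∈ W := by
          have := hcomm x⁻¹ y⁻¹
          simpa [commutatorElement_def] using this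
        rw [mem_center_iff.1 (hWc hc) y⁻¹]
        simpa [mul_assoc] using hc
      · rw [hsqa y hy hyW]
        exact hinv a ha
    simpa [mul_assoc] using h3)
  have h1 := hpair x hx y hy hxW hyW hyx
  have h2 := hpair x hx z hz hxW hzW hzx
  have h3 := hpair x hx (y * z) (R.mul_mem hy hz) hxW hyzW hyzx
  rw [CfsgLib.PGroup.comm_mul_right (hWc (hcomm x z)), h1, h2, ha] at h3
  exact hxW (hinv x (by rw [hsqa x hx hxW, ← h3]))

/-- A small nonabelian `X` has only two commutators. -/
theorem commutator_cases_of_card_le [Finite X] {W : Subgroup X} (hWc : W ≤ center X)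
    (hsq : ∀ x : X, x * x ∈ W) (hcomm : ∀ x y : X, ⁅x, y⁆ ∈ W) (hW2 : ∀ w ∈ W, w * w = 1)
    (hW4 : Nat.card W = 4) (hX : Nat.card X ≤ 16) :
    ∃ c : X, ∀ x y : X, ⁅x, y⁆ = 1 ∨ ⁅x, y⁆ = c := by
  classical
  have := Fintype.ofFinite X
  by_cases hab : ∀ x y : X, ⁅x, y⁆ = 1
  · exact ⟨1, fun x y => Or.inl (hab x y)⟩
  push Not at hab
  obtain ⟨a, b, hab⟩ := hab
  have hww : ∀ (g : X) (w : X), w ∈ W → ⁅g, w⁆ = 1 := fun g w hw =>
    commutatorElement_eq_one_iff_mul_comm.2 (mem_center_iff.1 (hWc hw) g)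
  have hww' : ∀ (g : X) (w : X), w ∈ W → ⁅w, g⁆ = 1 := fun g w hw =>
    commutatorElement_eq_one_iff_mul_comm.2 (mem_center_iff.1 (hWc hw) g).symm
  have haW : a ∉ W := fun h => hab (hww' b a h)
  have hbW : b ∉ W := fun h => hab (hww a b h)
  have habW : a⁻¹ * b ∉ W := fun h => hab (by
    have := CfsgLib.PGroup.comm_mul_right (a := a) (b := a) (c := a⁻¹ * b) (hWc (hcomm _ _))
    rw [mul_inv_cancel_left, commutatorElement_self, one_mul, hww a _ h] at this
    exact this)
  have habW' : a * b ∉ W := fun h => hab (by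
    have := CfsgLib.PGroup.comm_mul_right (a := a) (b := a) (c := b) (hWc (hcomm _ _))
    rw [commutatorElement_self, one_mul, hww a _ h] at this
    exact this.symm)
  let g : Bool × Bool × W → X := fun p =>
    (if p.1 then a else 1) * (if p.2.1 then b else 1) * p.2.2
  have hg : Function.Injective g := by
    rintro ⟨e, f, w⟩ ⟨e', f', w'⟩ h
    have hq : ((if e then a else 1) * (if f then b else 1))⁻¹ *
        ((if e' then a else 1) * (if f' then b else 1)) ∈ W := by
      have : ((if e then a else 1) * (if f then b else 1))⁻¹ *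
          ((if e' then a else 1) * (if f' then b else 1)) = (w : X) * (w' : X)⁻¹ := by
        simp only [g] at h
        rw [eq_mul_inv_iff_mul_eq, mul_assoc, ← h]
        group
      rw [this]
      exact W.mul_mem w.2 (W.inv_mem w'.2)
    have hee : e = e' ∧ f = f' := by
      have haW' : a⁻¹ ∉ W := fun h => haW (inv_mem_iff.1 h)
      have hbW' : b⁻¹ ∉ W := fun h => hbW (inv_mem_iff.1 h)
      have h1 : b⁻¹ * a ∉ W := fun h => habW (by simpa using W.inv_mem h)
      have h2 : b⁻¹ * a⁻¹ ∉ W := fun h => habW' (by simpa using W.inv_mem h)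
      have h3 : b⁻¹ * a⁻¹ * b ∉ W := fun h => haW' (by
        have h' : b * (b⁻¹ * a⁻¹ * b) = (b⁻¹ * a⁻¹ * b) * b := mem_center_iff.1 (hWc h) b
        have : b⁻¹ * a⁻¹ * b = a⁻¹ := by
          have := congrArg (fun z => z * b⁻¹) h'
          simpa [mul_assoc] using this.symm
        rwa [← this])
      have h4 : b⁻¹ * (a * b) ∉ W := fun h => haW (by
        have h' : b * (b⁻¹ * (a * b)) = (b⁻¹ * (a * b)) * b := mem_center_iff.1 (hWc h) b
        have : b⁻¹ * (a * b) = a := by
          have := congrArg (fun z => z * b⁻¹) h'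
          simpa [mul_assoc] using this.symm
        rwa [← this])
      cases e <;> cases f <;> cases e' <;> cases f' <;> simp_all [mul_assoc]
    obtain ⟨rfl, rfl⟩ := hee
    simp only [g, mul_left_cancel_iff] at h
    rw [Subtype.ext h]
  have hbij : Function.Bijective g := by
    refine ⟨hg, ?_⟩
    have hcard : Nat.card (Bool × Bool × W) = 16 := by rw [Nat.card_prod, Nat.card_prod, hW4]; simp
    exact (Finite.injective_iff_surjective_of_equiv
      (Finite.equivFinOfCardEq (n := 16) hcard |>.trans (Finite.equivFinOfCardEq (n := 16)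
        (le_antisymm hX (hcard ▸ Nat.card_le_card_of_injective g hg))).symm)).1 hg
  refine ⟨⁅a, b⁆, fun x y => ?_⟩
  obtain ⟨⟨e, f, w⟩, rfl⟩ := hbij.2 x
  obtain ⟨⟨e', f', w'⟩, rfl⟩ := hbij.2 y
  have hba : ⁅b, a⁆ = ⁅a, b⁆ := by
    rw [← commutatorElement_inv]
    exact inv_eq_of_mul_eq_one_left (hW2 _ (hcomm a b))
  have hm : ∀ p q r : X, ⁅p * q, r⁆ = ⁅p, r⁆ * ⁅q, r⁆ := fun p q r =>
    CfsgLib.PGroup.comm_mul_left (hWc (hcomm q r))
  have hm' : ∀ p q r : X, ⁅p, q * r⁆ = ⁅p, q⁆ * ⁅p, r⁆ := fun p q r =>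
    CfsgLib.PGroup.comm_mul_right (hWc (hcomm p r))
  simp only [g, hm, hm', hww _ _ w'.2, hww' _ _ w.2, mul_one, one_mul]
  cases e <;> cases f <;> cases e' <;> cases f' <;> simp [hba, hW2 _ (hcomm a b)]

end CfsgLib.Techniques.TwoGroupCount
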