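import Cfsg.Prelude.Def_Transfer
import Cfsg.Agent.Lib.Techniques.TwoGroupCount

/-!
2-groups without normal elementary abelian subgroups of order 8: involutions near the centre,
and the automorphisms permuting the involutions of a central four-group.
-/

set_option autoImplicit false

namespace CfsgLib.Techniques.TwoGroupNoSCN

open Subgroup
open scoped commutatorElement
open CfsgLib.Techniques.TwoGroupCount

variable {X : Type*} [Group X]

theorem exists_central_step [Finite X] (hX : IsPGroup 2 X) {D C : Subgroup X} [D.Normal] [hC : C.Normal]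
    (h : ¬ C ≤ D) : ∃ c ∈ C, c ∉ D ∧ c * c ∈ D ∧ ∀ g : X, ⁅c, g⁆ ∈ D := by
  haveI : (C.map (QuotientGroup.mk' D)).Normal := hC.map _ (QuotientGroup.mk'_surjective D)
  have hne : C.map (QuotientGroup.mk' D) ≠ ⊥ := by rwa [Ne, Subgroup.map_eq_bot_iff, QuotientGroup.ker_mk']
  obtain ⟨z, hz, hzo⟩ := CfsgLib.PGroup.exists_orderOf_eq (hX.to_quotient D)
    (CfsgLib.PGroup.inf_center_ne_bot (hX.to_quotient D) _ hne)
  obtain ⟨⟨c, hc, rfl⟩, hzc⟩ := mem_inf.1 hz
  refine ⟨c, hc, fun hcD => ?_, ?_, fun g => ?_⟩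
  · rw [show QuotientGroup.mk' D c = 1 from (QuotientGroup.eq_one_iff c).2 hcD, orderOf_one] at hzo
    norm_num at hzo
  · rw [← QuotientGroup.eq_one_iff, ← QuotientGroup.mk'_apply, map_mul, ← pow_two]
    have := pow_orderOf_eq_one (QuotientGroup.mk' D c)
    rwa [hzo] at this
  · rw [← QuotientGroup.eq_one_iff, ← QuotientGroup.mk'_apply, map_commutatorElement,
      commutatorElement_eq_one_iff_mul_comm]
    exact (mem_center_iff.1 hzc _).symm

/-- Adjoining to `W` an involution centralizing it. -/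
theorem exists_ext [Finite X] (hX : IsPGroup 2 X) {W : Subgroup X} [hWn : W.Normal]
    (hW : Cfsg.IsElementaryAbelian 2 W) {t : X}
    (ht : t * t = 1) (hcm : ∀ w ∈ W, t * w = w * t) (hc : ∀ g : X, ⁅t, g⁆ ∈ W) (htW : t ∉ W) :
    ∃ E : Subgroup X, E.Normal ∧ Cfsg.IsElementaryAbelian 2 E ∧ 2 * Nat.card W ≤ Nat.card E ∧
      ∀ x : X, x ∈ E ↔ x ∈ W ∨ t * x ∈ W := by
  obtain ⟨hWc, hW1⟩ := hW
  have hWcomm : ∀ a ∈ W, ∀ b ∈ W, a * b = b * a := fun a ha b hb =>
    congrArg Subtype.val (hWc.is_comm.comm (⟨a, ha⟩ : W) ⟨b, hb⟩)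
  have hW2 : ∀ w ∈ W, w * w = 1 := fun w hw => by rw [← pow_two]; exact hW1 w hw
  have htt : ∀ x : X, t * (t * x) = x := fun x => by rw [← mul_assoc, ht, one_mul]
  let E : Subgroup X :=
    { carrier := {x | x ∈ W ∨ t * x ∈ W}
      one_mem' := Or.inl W.one_mem
      mul_mem' := fun {x y} hx hy => by
        rcases hx with hx | hx <;> rcases hy with hy | hy
        · exact Or.inl (W.mul_mem hx hy)
        · right
          rw [← mul_assoc, hcm x hx, mul_assoc]
          exact W.mul_mem hx hy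
        · right
          rw [← mul_assoc]
          exact W.mul_mem hx hy
        · left
          have : x * y = (t * x) * (t * y) := by
            calc x * y = t * (t * x) * (t * (t * y)) := by rw [htt, htt]
              _ = t * ((t * x) * t) * (t * y) := by group
              _ = (t * x) * (t * y) := by rw [← hcm _ hx, htt]
          rw [this]
          exact W.mul_mem hx hy
      inv_mem' := fun {x} hx => by
        rcases hx with hx | hx
        · exact Or.inl (W.inv_mem hx)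
        · right
          have e : x⁻¹ = (t * x)⁻¹ * t := by group
          rw [e, ← hcm _ (W.inv_mem hx), htt]
          exact W.inv_mem hx }
  have hmem : ∀ x : X, x ∈ E ↔ x ∈ W ∨ t * x ∈ W := fun x => Iff.rfl
  have helem : ∀ x ∈ E, ∀ y ∈ E, x * y = y * x := by
    have hh : ∀ x ∈ E, ∃ w ∈ W, x = w ∨ x = t * w := fun x hx => hx.elim (fun h => ⟨x, h, Or.inl rfl⟩)
      fun h => ⟨t * x, h, Or.inr (htt x).symm⟩
    intro x hx y hy
    obtain ⟨a, ha, hxa⟩ := hh x hx
    obtain ⟨b, hb, hyb⟩ := hh y hy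
    rcases hxa with rfl | rfl <;> rcases hyb with rfl | rfl
    · exact hWcomm x ha y hb
    · rw [← mul_assoc, ← hcm x ha, mul_assoc, hWcomm x ha b hb, ← mul_assoc]
    · rw [mul_assoc, hWcomm a ha y hb, ← mul_assoc, hcm y hb, mul_assoc]
    · calc t * a * (t * b) = t * (a * t) * b := by group
        _ = a * b := by rw [← hcm a ha, htt]
        _ = b * a := hWcomm a ha b hb
        _ = t * (b * t) * a := by rw [← hcm b hb, htt]
        _ = t * b * (t * a) := by group
  refine ⟨E, ⟨fun x hx g => ?_⟩, ⟨⟨⟨fun a b => Subtype.ext (helem a a.2 b b.2)⟩⟩, fun x hx => ?_⟩, ?_, hmem⟩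
  · rcases hx with hx | hx
    · exact Or.inl (hWn.conj_mem x hx g)
    · right
      have e : t * (g * x * g⁻¹) = ⁅t, g⁆ * (g * (t * x) * g⁻¹) := by
        simp only [commutatorElement_def]; group
      rw [e]
      exact W.mul_mem (hc g) (hWn.conj_mem _ hx g)
  · rw [pow_two]
    rcases hx with hx | hx
    · exact hW2 x hx
    · rw [← htt x]
      calc t * (t * x) * (t * (t * x)) = t * ((t * x) * t) * (t * x) := by group
        _ = 1 := by rw [← hcm _ hx, htt, hW2 _ hx]
  · have hWE : W ≤ E := fun x hx => Or.inl hx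
    obtain ⟨i, hi⟩ := (hX.to_subgroup W).exists_card_eq
    obtain ⟨j, hj⟩ := (hX.to_subgroup E).exists_card_eq
    have hlt : Nat.card W < Nat.card E := lt_of_le_of_ne (card_le_of_le hWE) fun e =>
      htW ((eq_of_le_of_card_ge hWE e.ge) ▸ (Or.inr (by rw [ht]; exact W.one_mem) : t ∈ E))
    rw [hi, hj] at hlt ⊢
    rw [← pow_succ']
    exact Nat.pow_le_pow_right (by norm_num) ((Nat.pow_lt_pow_iff_right (by norm_num)).1 hlt)

/-- No normal elementary abelian subgroup has order at least 8. -/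
def NoE8 (X : Type*) [Group X] : Prop :=
  ∀ E : Subgroup X, E.Normal → Cfsg.IsElementaryAbelian 2 E → Nat.card E ≤ 4

theorem noE8_of_scn [Finite X] (hX : IsPGroup 2 X)
    (hscn : ¬ ∃ A : Subgroup X, A.Normal ∧ Subgroup.centralizer (A : Set X) = A ∧
      ∃ E : Subgroup X, E ≤ A ∧ Cfsg.IsElementaryAbelian 2 E ∧ Nat.card E = 8) : NoE8 X := by
  intro E hEn hE
  by_contra hlt
  push Not at hlt
  obtain ⟨hEc, hE1⟩ := hE
  obtain ⟨B, hEB, hBn, -, hBC⟩ := CfsgLib.PGroup.exists_normal_abelian_centralizer_eq hX E hEn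
    fun a ha b hb => congrArg Subtype.val (hEc.is_comm.comm (⟨a, ha⟩ : E) ⟨b, hb⟩)
  obtain ⟨k, hk⟩ := (hX.to_subgroup E).exists_card_eq
  have hk3 : 3 ≤ k := by
    by_contra h
    have : 2 ^ k ≤ 2 ^ 2 := Nat.pow_le_pow_right (by norm_num) (by omega)
    omega
  obtain ⟨K, hK⟩ := Sylow.exists_subgroup_card_pow_prime 2 (G := E) (n := 3)
    (hk ▸ pow_dvd_pow 2 hk3)
  refine hscn ⟨B, hBn, hBC, K.map E.subtype, (map_subtype_le K).trans hEB, ⟨⟨⟨?_⟩⟩, ?_⟩, ?_⟩
  · rintro ⟨x, a, -, rfl⟩ ⟨y, b, -, rfl⟩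
    have e : (a : X) * b = b * a := congrArg Subtype.val (hEc.is_comm.comm a b)
    exact Subtype.ext e
  · rintro x ⟨a, -, rfl⟩
    exact hE1 a a.2
  · rw [card_map_of_injective E.subtype_injective, hK]
    norm_num

theorem mem_of_involution [Finite X] (hX : IsPGroup 2 X) (hE : NoE8 X) {W : Subgroup X} [W.Normal]
    (hW : Cfsg.IsElementaryAbelian 2 W) (hW4 : Nat.card W = 4) {t : X} (ht : t * t = 1)
    (hcm : ∀ w ∈ W, t * w = w * t) (hc : ∀ g : X, ⁅t, g⁆ ∈ W) : t ∈ W := by
  by_contra htW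
  obtain ⟨E, hEn, hEe, hcard, -⟩ := exists_ext hX hW ht hcm hc htW
  have := hE E hEn hEe
  omega

theorem odd_cycle {β : MulAut X} (hβ : Odd (orderOf β)) {v : X} (h : β (β v) = v) : β v = v := by
  obtain ⟨k, hk⟩ := hβ
  have hpow : ∀ j : ℕ, (β ^ (2 * j)) v = v := by
    intro j
    induction j with
    | zero => rfl
    | succ j ih => rw [mul_add, pow_add, MulAut.mul_apply, show (β ^ (2 * 1)) v = v from h, ih]
  have := congrArg (fun γ : MulAut X => γ v) (pow_orderOf_eq_one β)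
  simp only [hk, pow_succ', MulAut.mul_apply, hpow, MulAut.one_apply] at this
  exact this

/-- A central four-group whose involutions are permuted transitively. -/
structure Data (W : Subgroup X) (φ : MulAut X) : Prop where
  le_center : W ≤ center X
  sq_one : ∀ w ∈ W, w * w = 1
  card4 : Nat.card W = 4
  map_mem : ∀ w ∈ W, φ w ∈ W
  fpf : ∀ w ∈ W, φ w = w → w = 1
  odd : Odd (orderOf φ)

namespace Data

variable {W : Subgroup X} {φ : MulAut X} (h : Data W φ)

include h

theorem finite : Finite W := Nat.finite_of_card_ne_zero (by rw [h.card4]; norm_num)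

theorem cases {w : X} (hw : w ∈ W) (hw1 : w ≠ 1) {u : X} (hu : u ∈ W) :
    u = 1 ∨ u = w ∨ u = φ w ∨ u = w * φ w := by
  haveI := h.finite
  exact four_cases h.card4 h.sq_one hw (h.map_mem w hw) hw1 (by simpa using hw1)
    (fun e => hw1 (h.fpf w hw e.symm)) u hu

theorem map_map {w : X} (hw : w ∈ W) : φ (φ w) = w * φ w := by
  by_cases hw1 : w = 1
  · simp [hw1]
  rcases h.cases hw hw1 (h.map_mem _ (h.map_mem w hw)) with e | e | e | e
  · simp [hw1] at e
  · exact absurd (h.fpf w hw (odd_cycle h.odd e)) hw1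
  · exact absurd (h.fpf w hw (φ.injective e)) hw1
  · exact e

theorem three {w : X} (hw : w ∈ W) : φ (φ (φ w)) = w := by
  rw [h.map_map hw, map_mul, h.map_map hw, ← mul_assoc, mul_assoc, ← mem_center_iff.1 (h.le_center hw) (φ w),
    ← mul_assoc, h.sq_one _ (h.map_mem w hw), one_mul]

theorem inv_eq {w : X} (hw : w ∈ W) : w⁻¹ = w :=
  inv_eq_of_mul_eq_one_left (h.sq_one w hw)

theorem eq_one_of_fix {β : MulAut X} (hβ : Odd (orderOf β)) (hβW : ∀ w ∈ W, β w ∈ W) {w : X}
    (hw : w ∈ W) (hw1 : w ≠ 1) (hfix : β w = w) : ∀ u ∈ W, β u = u := by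
  have hv : β (φ w) = φ w := by
    rcases h.cases hw hw1 (hβW _ (h.map_mem w hw)) with e | e | e | e
    · exact absurd e (by simpa using hw1)
    · exact absurd (h.fpf w hw (β.injective (e.trans hfix.symm))) hw1
    · exact e
    · refine odd_cycle hβ ?_
      rw [e, map_mul, hfix, e, ← mul_assoc, h.sq_one w hw, one_mul]
  intro u hu
  rcases h.cases hw hw1 hu with e | e | e | e <;> subst e <;> simp [hfix, hv]

/-- A homomorphism to `W` satisfying the norm condition is injective modulo the kernel or trivial. -/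
theorem hom_trivial {D : Subgroup X} (m π : X → X)
    (hm : ∀ a ∈ D, ∀ b ∈ D, m (a * b) = m a * m b) (hmW : ∀ a ∈ D, m a ∈ W)
    (hπ : ∀ a ∈ D, ∀ b ∈ D, π (a * b) = π a * π b) (hπW : ∀ a ∈ D, π a ∈ W)
    (hker : ∀ a ∈ D, π a = 1 → m a = 1) (hDφ : ∀ a ∈ D, φ a ∈ D)
    (hπφ : ∀ a ∈ D, π (φ a) = φ (π a))
    (hS : ∀ a ∈ D, φ (φ (m a)) * φ (m (φ a)) * m (φ (φ a)) = 1)
    {d : X} (hd : d ∈ D) (hd1 : π d ≠ 1) (hmd : m d = 1) : ∀ a ∈ D, m a = 1 := by
  have hcongr : ∀ a ∈ D, ∀ b ∈ D, π a = π b → m a = m b := by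
    intro a ha b hb e
    have hba : b⁻¹ * a ∈ D := D.mul_mem (D.inv_mem hb) ha
    have h1 := hπ b hb _ hba
    rw [mul_inv_cancel_left, e, left_eq_mul] at h1
    have h2 := hm b hb _ hba
    rwa [mul_inv_cancel_left, hker _ hba h1, mul_one] at h2
  have hdφ := hDφ d hd
  have hm2 : m (φ (φ d)) = m (φ d) := by
    rw [hcongr _ (hDφ _ hdφ) _ (D.mul_mem hd hdφ) (by
      rw [hπ d hd _ hdφ, hπφ _ hdφ, hπφ d hd, h.map_map (hπW d hd)]), hm d hd _ hdφ, hmd, one_mul]
  have hb : m (φ d) = 1 := by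
    have := hS d hd
    rw [hmd, hm2, map_one, map_one, one_mul] at this
    refine h.fpf _ (hmW _ hdφ) ?_
    calc φ (m (φ d)) = φ (m (φ d)) * (m (φ d) * m (φ d)) := by rw [h.sq_one _ (hmW _ hdφ), mul_one]
      _ = m (φ d) := by rw [← mul_assoc, this, one_mul]
  have h1 : m 1 = 1 := by
    have := hm 1 D.one_mem 1 D.one_mem
    rwa [one_mul, left_eq_mul] at this
  intro a ha
  have hπ1 : π 1 = 1 := by
    have := hπ 1 D.one_mem 1 D.one_mem
    rwa [one_mul, left_eq_mul] at this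
  rcases h.cases (hπW d hd) hd1 (hπW a ha) with e | e | e | e
  · exact hker a ha e
  · rw [hcongr a ha d hd e, hmd]
  · rw [hcongr a ha _ hdφ (e.trans (hπφ d hd).symm), hb]
  · rw [hcongr a ha _ (D.mul_mem hd hdφ) (by rw [e, hπ d hd _ hdφ, hπφ d hd]), hm d hd _ hdφ, hmd, hb,
      one_mul]

end Data

end CfsgLib.Techniques.TwoGroupNoSCN
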