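import Cfsg.Agent.Lib.Techniques.TwoGroupNoSCNMoving
import Cfsg.Agent.Lib.Solvable.UniqueSubgroup
import Cfsg.Agent.Lib.Solvable.BurnsideBasis
import Cfsg.Agent.S0119

/-!
The classification of nonabelian 2-groups without self-centralizing normal abelian subgroups of
rank three that are of the form `[X,A]` for an odd-order automorphism group `A`.
-/

set_option autoImplicit false

namespace CfsgLib.Techniques.TwoGroupNoSCN

open Subgroup
open scoped commutatorElement
open CfsgLib.Techniques.TwoGroupCount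

variable {X : Type*} [Group X]

theorem mul_self_ne_two_pow_odd {k : ℕ} (hk : Odd k) (T : ℤ) : T * T ≠ 2 ^ k := by
  intro h
  have h' : T.natAbs * T.natAbs = 2 ^ k := by
    rw [← Int.natAbs_mul, h, Int.natAbs_pow]
    norm_num
  obtain ⟨i, -, hi⟩ := (Nat.dvd_prime_pow Nat.prime_two).1 ⟨_, h'.symm⟩
  rw [hi, ← pow_add] at h'
  have := Nat.pow_right_injective (le_refl 2) h'
  obtain ⟨j, hj⟩ := hk
  omega

theorem card_orderOf_two_add_one [Fintype X] :
    Nat.card {x : X // orderOf x = 2} + 1 = Nat.card {x : X // x * x = 1} := by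
  classical
  simp only [Nat.card_eq_fintype_card, Fintype.card_subtype]
  have e : Finset.univ.filter (fun x : X => x * x = 1) =
      insert 1 (Finset.univ.filter fun x : X => orderOf x = 2) := by
    ext x
    simp only [Finset.mem_filter, Finset.mem_univ, true_and, Finset.mem_insert]
    constructor
    · intro hx
      by_cases h1 : x = 1
      · exact Or.inl h1
      · exact Or.inr (orderOf_eq_prime (by rw [pow_two, hx]) h1)
    · rintro (rfl | hx)
      · exact one_mul 1
      · rw [← pow_two, ← hx, pow_orderOf_eq_one]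
  rw [e, Finset.card_insert_of_notMem (by simp)]

theorem odd_of_mem {A : Subgroup (MulAut X)} (hA : Odd (Nat.card A)) {α : MulAut X} (hα : α ∈ A) :
    Odd (orderOf α) :=
  Odd.of_dvd_nat hA (orderOf_dvd_natCard A hα)

theorem exists_ne_comm (hna : ¬ IsMulCommutative X) : ∃ a b : X, ⁅a, b⁆ ≠ 1 := by
  by_contra hc
  push Not at hc
  exact hna ⟨⟨fun a b => commutatorElement_eq_one_iff_mul_comm.1 (hc a b)⟩⟩

theorem quaternion_of_card [Finite X] (hX : IsPGroup 2 X) (hna : ¬ IsMulCommutative X)
    (h8 : Nat.card X = 8) (hu : ∀ x y : X, orderOf x = 2 → orderOf y = 2 → x = y) :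
    Nonempty (X ≃* QuaternionGroup 2) := by
  rcases CfsgLib.Solvable.isCyclic_or_quaternion hX (fun x y hx hy => by
    rw [hu x y hx hy]; exact Subgroup.mem_zpowers y) with hc | ⟨-, n, ⟨e⟩⟩
  · refine absurd ⟨⟨fun a b => ?_⟩⟩ hna
    letI := hc.commGroup
    exact mul_comm a b
  · have hn := Nat.card_congr e.toEquiv
    rw [h8, Nat.card_eq_fintype_card, QuaternionGroup.card] at hn
    obtain rfl : n = 1 := by
      have h2 : 2 ^ n = 2 := by omega
      exact Nat.pow_right_injective (le_refl 2) (h2.trans (pow_one 2).symm)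
    exact ⟨e⟩

/-- The centre has order two. -/
theorem small_centre [Fintype X] (hX : IsPGroup 2 X) (hna : ¬ IsMulCommutative X) (hE : NoE8 X)
    (hsq : ∀ x : X, x * x ∈ center X) (hcomm : ∀ x y : X, ⁅x, y⁆ ∈ center X)
    (hc2 : Nat.card (center X) = 2) (A : Subgroup (MulAut X)) (hA : Odd (Nat.card A))
    (hfix : ∀ x : X, (∀ α ∈ A, α x = x) → x ∈ center X) :
    Nonempty (X ≃* QuaternionGroup 2) ∨
      (Fintype.card X = 32 ∧ Nat.card {x : X // orderOf x = 2} = 11) := by
  classical
  have hW2 : ∀ w ∈ center X, w * w = 1 := fun w hw => by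
    rw [← pow_two, ← hc2]
    have h := congrArg Subtype.val (pow_card_eq_one' (x := (⟨w, hw⟩ : center X)))
    simpa only [SubgroupClass.coe_pow, OneMemClass.coe_one] using h
  obtain ⟨z, hz, hz1⟩ : ∃ z ∈ center X, z ≠ 1 := by
    by_contra hc
    push Not at hc
    have : center X = ⊥ := (Subgroup.eq_bot_iff_forall _).2 hc
    rw [this, card_bot] at hc2
    norm_num at hc2
  have hcases : ∀ w ∈ center X, w = 1 ∨ w = z := by
    intro w hw
    have e : zpowers z = center X := eq_of_le_of_card_ge (zpowers_le.2 hz)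
      (by rw [hc2, card_zpowers_of_sq (hW2 z hz) hz1])
    exact (mem_zpowers_iff_of_sq (hW2 z hz)).1 (e.symm ▸ hw)
  have hcz : ∀ {g w : X}, w ∈ center X → g * w = w * g := fun hw => mem_center_iff.1 hw _
  have hbot : (⊥ : Subgroup X) ≤ center X := bot_le
  have h2 : 2 * Nat.card (⊥ : Subgroup X) = Nat.card (center X) := by rw [card_bot, hc2]
  have hrad : ∀ y : X, y ∈ rad (le_refl (center X)) hcomm ⊥ ↔ y ∈ center X := by
    intro y
    rw [mem_rad]
    refine ⟨fun hy => mem_center_iff.2 fun g =>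
      (commutatorElement_eq_one_iff_mul_comm.1 (mem_bot.1 (hy g))).symm, fun hy g => mem_bot.2 ?_⟩
    exact commutatorElement_eq_one_iff_mul_comm.2 (hcz hy).symm
  set T : ℤ := charSum (⊥ : Subgroup X) with hT
  have hT2 : T * T = 2 * (Fintype.card X : ℤ) := by
    have e : rad (le_refl (center X)) hcomm ⊥ = center X := Subgroup.ext hrad
    rcases charSum_sq (le_refl (center X)) hsq hcomm hbot h2 with ⟨-, h⟩ | ⟨-, h⟩
    · exact absurd (fun y hy => mem_bot.2 (hW2 y ((hrad y).1 hy))) h
    · rw [h, e, hc2]; ring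
  set S := Finset.univ.filter (fun x : X => x ∉ center X ∧ x * x = 1) with hS
  have hsq1 : (Finset.univ.filter (fun x : X => x * x = 1)).card = S.card + 2 := by
    have e : Finset.univ.filter (fun x : X => x * x = 1) = S ∪ {1, z} := by
      ext x
      simp only [hS, Finset.mem_filter, Finset.mem_univ, true_and, Finset.mem_union, Finset.mem_insert,
        Finset.mem_singleton]
      constructor
      · intro hx
        by_cases hxc : x ∈ center X
        · exact Or.inr (hcases x hxc)
        · exact Or.inl ⟨hxc, hx⟩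
      · rintro (⟨-, hx⟩ | rfl | rfl)
        · exact hx
        · exact one_mul 1
        · exact hW2 _ hz
    rw [e, Finset.card_union_of_disjoint, Finset.card_pair (Ne.symm hz1)]
    rw [Finset.disjoint_left]
    intro x hx
    simp only [hS, Finset.mem_filter, Finset.mem_univ, true_and] at hx
    simp only [Finset.mem_insert, Finset.mem_singleton]
    rintro (rfl | rfl)
    · exact hx.1 (one_mem _)
    · exact hx.1 hz
  have hMT : (Fintype.card X : ℤ) + T = 2 * ((S.card : ℤ) + 2) := by
    have key : ∀ x : X, chi (⊥ : Subgroup X) (x * x) + 1 = if x * x = 1 then (2 : ℤ) else 0 := by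
      intro x
      by_cases hx : x * x = 1 <;> simp [chi, hx]
    have e := Finset.sum_congr (s₁ := Finset.univ) rfl fun x _ => key x
    rw [Finset.sum_add_distrib, ← Finset.sum_filter] at e
    simp only [Finset.sum_const, nsmul_eq_mul, mul_one, Finset.card_univ, hsq1] at e
    push_cast at e
    rw [hT, charSum]
    linarith
  -- commuting involutions
  have hkey : ∀ u ∈ S, ∀ v ∈ S, ⁅u, v⁆ = 1 → v = u ∨ v = u * z := by
    intro u hu v hv huv
    simp only [hS, Finset.mem_filter, Finset.mem_univ, true_and] at hu hv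
    have hZe : Cfsg.IsElementaryAbelian 2 (center X) :=
      ⟨inferInstance, fun a ha => by rw [pow_two]; exact hW2 a ha⟩
    obtain ⟨E, hEn, hEe, hEc, hEmem⟩ :=
      exists_ext hX hZe hu.2 (fun w hw => hcz hw) (hcomm u) hu.1
    haveI := hEn
    have hWE : center X ≤ E := fun w hw => (hEmem w).2 (Or.inl hw)
    have hvE : v ∈ E := by
      by_contra hvE
      obtain ⟨E', hE'n, hE'e, hE'c, -⟩ := exists_ext hX hEe hv.2 (fun w hw => by
        rcases (hEmem w).1 hw with hw | hw
        · exact hcz hw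
        · have hvu : v * u = u * v := (commutatorElement_eq_one_iff_mul_comm.1 huv).symm
          have e : w = u * (u * w) := by rw [← mul_assoc, hu.2, one_mul]
          rw [e, ← mul_assoc, hvu, mul_assoc, hcz hw, ← mul_assoc])
        (fun g => hWE (hcomm v g)) hvE
      have := hE E' hE'n hE'e
      omega
    rcases (hEmem v).1 hvE with h | h
    · exact absurd h hv.1
    · rcases hcases _ h with h | h
      · exact Or.inl (mul_left_cancel (h.trans hu.2.symm))
      · refine Or.inr ?_
        rw [← h, ← mul_assoc, hu.2, one_mul]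
  have hbound : S.card ≤ 2 ∨ 4 * ((S.card : ℤ) - 4) ≤ Fintype.card X := by
    by_cases hpair : ∃ u ∈ S, ∃ v ∈ S, ⁅u, v⁆ ≠ 1
    · right
      obtain ⟨u, hu, v, hv, huv⟩ := hpair
      have hu' := (Finset.mem_filter.1 hu).2
      have hv' := (Finset.mem_filter.1 hv).2
      have hsum : ∀ y : X, y ∉ center X → (∑ x : X, chi (⊥ : Subgroup X) ⁅y, x⁆) = 0 := by
        intro y hy
        rw [sum_chi_comm (le_refl (center X)) hcomm hbot h2 y, if_neg (fun h => hy ((hrad y).1 h))]
      have huvc : u * v ∉ center X := fun h => huv (commutatorElement_eq_one_iff_mul_comm.2 (by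
        have := hcz (g := u) h
        calc u * v = u * (u * v) * (u * 1) := by rw [this]; simp [mul_assoc, hu'.2]
          _ = v * u := by rw [← mul_assoc u u v, hu'.2, one_mul, mul_one]))
      let f : X → ℤ := fun x => (1 - chi (⊥ : Subgroup X) ⁅u, x⁆) * (1 - chi (⊥ : Subgroup X) ⁅v, x⁆)
      have hf : ∑ x : X, f x = Fintype.card X := by
        have e : ∀ x : X, f x = 1 - chi (⊥ : Subgroup X) ⁅u, x⁆ - chi (⊥ : Subgroup X) ⁅v, x⁆ +
            chi (⊥ : Subgroup X) ⁅u * v, x⁆ := by
          intro x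
          rw [CfsgLib.PGroup.comm_mul_left (hcomm v x), chi_mul hbot h2 (hcomm u x) (hcomm v x)]
          simp only [f]
          ring
        simp only [e, Finset.sum_add_distrib, Finset.sum_sub_distrib, hsum u hu'.1, hsum v hv'.1,
          hsum _ huvc]
        simp
      have hnn : ∀ x : X, 0 ≤ f x := by
        intro x
        rcases chi_cases (⊥ : Subgroup X) ⁅u, x⁆ with ⟨-, e1⟩ | ⟨-, e1⟩ <;>
          rcases chi_cases (⊥ : Subgroup X) ⁅v, x⁆ with ⟨-, e2⟩ | ⟨-, e2⟩ <;> simp [f, e1, e2]
      let S' := S \ {u, u * z, v, v * z}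
      have hS' : ∀ x ∈ S', f x = 4 := by
        intro x hx
        obtain ⟨hxS, hxn⟩ := Finset.mem_sdiff.1 hx
        simp only [Finset.mem_insert, Finset.mem_singleton, not_or] at hxn
        have h1 : chi (⊥ : Subgroup X) ⁅u, x⁆ = -1 := chi_of_notMem fun h => by
          rcases hkey u hu x hxS (mem_bot.1 h) with e | e
          · exact hxn.1 e
          · exact hxn.2.1 e
        have h3 : chi (⊥ : Subgroup X) ⁅v, x⁆ = -1 := chi_of_notMem fun h => by
          rcases hkey v hv x hxS (mem_bot.1 h) with e | e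
          · exact hxn.2.2.1 e
          · exact hxn.2.2.2 e
        simp [f, h1, h3]
      have hle : ∑ x ∈ S', f x ≤ ∑ x : X, f x :=
        Finset.sum_le_sum_of_subset_of_nonneg (Finset.subset_univ _) fun x _ _ => hnn x
      rw [Finset.sum_congr rfl hS', hf, Finset.sum_const, nsmul_eq_mul] at hle
      have hc : S.card ≤ S'.card + 4 := by
        have := Finset.card_le_card_sdiff_add_card (s := S) (t := ({u, u * z, v, v * z} : Finset X))
        have h4 := Finset.card_le_four (a := u) (b := u * z) (c := v) (d := v * z)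
        change S.card ≤ (S \ {u, u * z, v, v * z}).card + 4
        omega
      omega
    · left
      push Not at hpair
      rcases S.eq_empty_or_nonempty with h | ⟨u, hu⟩
      · simp [h]
      · refine le_trans (Finset.card_le_card (t := {u, u * z}) fun x hx => ?_) Finset.card_le_two
        simp only [Finset.mem_insert, Finset.mem_singleton]
        exact hkey u hu x hx (hpair u hu x hx)
  obtain ⟨k, hk⟩ := hX.exists_card_eq
  have hM : Fintype.card X = 2 ^ k := by rw [← Nat.card_eq_fintype_card, hk]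
  have hk3 : 3 ≤ k := by
    by_contra hlt
    apply hna
    have hk' : k = 0 ∨ k = 1 ∨ k = 2 := by omega
    rcases hk' with rfl | rfl | rfl
    · haveI : Subsingleton X := (Nat.card_eq_one_iff_unique.1 (by simpa using hk)).1
      exact ⟨⟨fun a b => Subsingleton.elim _ _⟩⟩
    · haveI : IsCyclic X := isCyclic_of_prime_card (p := 2) (by simpa using hk)
      exact ⟨⟨fun a b => by letI := IsCyclic.commGroup (α := X); exact mul_comm a b⟩⟩
    · haveI : Fact (Nat.Prime 2) := ⟨Nat.prime_two⟩
      exact ⟨⟨fun a b => IsPGroup.commutative_of_card_eq_prime_sq (p := 2) hk a b⟩⟩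
  have hM8 : (8 : ℤ) ≤ Fintype.card X := by
    rw [hM]
    exact_mod_cast (Nat.pow_le_pow_right (by norm_num : 2 > 0) hk3)
  have hS0 : (0 : ℤ) ≤ S.card := Int.natCast_nonneg _
  have hk5 : k ≤ 5 := by
    by_contra hlt
    have h64 : (64 : ℤ) ≤ Fintype.card X := by
      rw [hM]
      exact_mod_cast (Nat.pow_le_pow_right (by norm_num : 2 > 0) (by omega : 6 ≤ k))
    rcases hbound with h | h
    · have : (S.card : ℤ) ≤ 2 := by exact_mod_cast h
      nlinarith
    · nlinarith
  have hk4 : k ≠ 4 := by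
    rintro rfl
    refine mul_self_ne_two_pow_odd (k := 5) (by decide) T ?_
    rw [hT2, hM]
    norm_num
  have h3 : k = 3 ∨ k = 5 := by omega
  have hinv : Nat.card {x : X // orderOf x = 2} + 1 = S.card + 2 := by
    rw [card_orderOf_two_add_one, Nat.card_eq_fintype_card, Fintype.card_subtype, hsq1]
  rcases h3 with rfl | rfl
  · left
    have hT4 : T * T = 4 * 4 := by rw [hT2, hM]; norm_num
    rcases mul_self_eq_mul_self_iff.1 hT4 with hT' | hT'
    · -- the dihedral group has no such automorphisms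
      exfalso
      have hS4 : S.card = 4 := by rw [hM, hT'] at hMT; push_cast at hMT; omega
      have hN : (Finset.univ.filter fun x : X => ¬ x * x = 1).card = 2 := by
        have := Finset.card_filter_add_card_filter_not (s := Finset.univ) (fun x : X => x * x = 1)
        rw [Finset.card_univ, hsq1, hM, hS4] at this
        omega
      obtain ⟨x, hx⟩ : ∃ x, x ∈ Finset.univ.filter fun x : X => ¬ x * x = 1 :=
        Finset.card_pos.1 (by omega)
      have hx' : ¬ x * x = 1 := (Finset.mem_filter.1 hx).2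
      have hxi : x⁻¹ ≠ x := fun e => hx' (by nth_rw 1 [← e]; exact inv_mul_cancel x)
      have heq : ({x, x⁻¹} : Finset X) = Finset.univ.filter fun x : X => ¬ x * x = 1 := by
        refine Finset.eq_of_subset_of_card_le ?_ (by rw [hN, Finset.card_pair (Ne.symm hxi)])
        intro y hy
        simp only [Finset.mem_insert, Finset.mem_singleton] at hy
        rcases hy with rfl | rfl
        · exact hx
        · simp only [Finset.mem_filter, Finset.mem_univ, true_and]
          intro e
          apply hx'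
          rw [← inv_inj, mul_inv_rev, e, inv_one]
      refine hx' (hW2 x (hfix x fun α hα => ?_))
      have hαx : α x ∈ Finset.univ.filter fun x : X => ¬ x * x = 1 := by
        simp only [Finset.mem_filter, Finset.mem_univ, true_and]
        rw [← map_mul]
        exact fun e => hx' (α.injective (e.trans (map_one α).symm))
      rw [← heq, Finset.mem_insert, Finset.mem_singleton] at hαx
      rcases hαx with e | e
      · exact e
      · exact odd_cycle (odd_of_mem hA hα) (by rw [e, map_inv, e, inv_inv])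
    · refine quaternion_of_card hX hna (by rw [hk]; norm_num) fun x y hx hy => ?_
      have hS0' : S.card = 0 := by rw [hM, hT'] at hMT; push_cast at hMT; omega
      have hz2 : ∀ x : X, orderOf x = 2 → x = z := by
        intro x hx
        have hx2 : x * x = 1 := by rw [← pow_two, ← hx, pow_orderOf_eq_one]
        by_cases hxc : x ∈ center X
        · refine (hcases x hxc).resolve_left fun e => ?_
          rw [e, orderOf_one] at hx
          norm_num at hx
        · have : x ∈ S := by simp [hS, hxc, hx2]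
          rw [Finset.card_eq_zero.1 hS0'] at this
          simp at this
      rw [hz2 x hx, hz2 y hy]
  · right
    refine ⟨by rw [hM]; norm_num, ?_⟩
    have hT8 : T * T = 8 * 8 := by rw [hT2, hM]; norm_num
    rcases mul_self_eq_mul_self_iff.1 hT8 with hT' | hT'
    · exfalso
      rw [hT'] at hMT
      rw [hM] at hMT hbound
      push_cast at hMT hbound
      omega
    · rw [hM, hT'] at hMT
      push_cast at hMT
      omega

/-- Data for the three sign sums when the centre is a four-group. -/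
theorem four_centre [Fintype X] (hX : IsPGroup 2 X) {W : Subgroup X} (hWc : W ≤ center X)
    (hW2 : ∀ w ∈ W, w * w = 1) (hW4 : Nat.card W = 4) (hsq : ∀ x : X, x * x ∈ W)
    (hcomm : ∀ x y : X, ⁅x, y⁆ ∈ W) (hinv : ∀ x : X, x * x = 1 → x ∈ W)
    {a : X} (ha : a ∈ W) (ha1 : a ≠ 1) :
    charSum (zpowers a) = 0 ∨ ∃ j : ℕ, 2 ≤ j ∧ j ≤ 4 ∧
      Nat.card (rad hWc hcomm (zpowers a)) = 2 ^ j ∧
      charSum (zpowers a) * charSum (zpowers a) = (Fintype.card X : ℤ) * 2 ^ j := by
  have hK : zpowers a ≤ W := zpowers_le.2 ha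
  have h2 : 2 * Nat.card (zpowers a) = Nat.card W := by rw [card_zpowers_of_sq (hW2 a ha) ha1, hW4]
  rcases charSum_sq hWc hsq hcomm hK h2 with ⟨h, -⟩ | ⟨hall, h⟩
  · exact Or.inl (mul_self_eq_zero.1 h)
  · right
    obtain ⟨j, hj⟩ := (hX.to_subgroup (rad hWc hcomm (zpowers a))).exists_card_eq
    have h4 : 4 ≤ Nat.card (rad hWc hcomm (zpowers a)) := hW4 ▸ card_le_of_le (le_rad hWc hcomm _)
    have h16 := card_rad_le hWc hcomm hW4 hinv (hW2 a ha) hall
    rw [hj] at h4 h16
    refine ⟨j, ?_, ?_, hj, ?_⟩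
    · exact (Nat.pow_le_pow_iff_right (by norm_num)).1 (show 2 ^ 2 ≤ 2 ^ j from h4)
    · exact (Nat.pow_le_pow_iff_right (by norm_num)).1 (show 2 ^ j ≤ 2 ^ 4 from h16)
    · rw [h, hj]; push_cast; ring

theorem card_involutions_four [Fintype X] {W : Subgroup X} (hW2 : ∀ w ∈ W, w * w = 1)
    (hW4 : Nat.card W = 4) (hinv : ∀ x : X, x * x = 1 → x ∈ W) :
    Nat.card {x : X // x * x = 1} = 4 ∧ Nat.card {x : X // orderOf x = 2} = 3 := by
  have h : Nat.card {x : X // x * x = 1} = 4 := by
    rw [← hW4]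
    exact Nat.card_congr (Equiv.subtypeEquivRight fun x => ⟨hinv x, hW2 x⟩)
  refine ⟨h, ?_⟩
  have := card_orderOf_two_add_one (X := X)
  omega

/-- The centre is a four-group centralized by `A`. -/
theorem four_fixed [Fintype X] (hX : IsPGroup 2 X) (hna : ¬ IsMulCommutative X) (hE : NoE8 X)
    (hsq : ∀ x : X, x * x ∈ center X) (hcomm : ∀ x y : X, ⁅x, y⁆ ∈ center X)
    (hgen : commutator X = center X) (hW2 : ∀ w ∈ center X, w * w = 1)
    (hW4 : Nat.card (center X) = 4) (A : Subgroup (MulAut X)) (hA : Odd (Nat.card A))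
    (hfix : ∀ x : X, x ∈ center X ↔ ∀ α ∈ A, α x = x) :
    Fintype.card X = 64 ∧ Nat.card {x : X // orderOf x = 2} = 3 ∧
      ∀ x : X, orderOf x = 2 → x ∈ center X := by
  classical
  have hWe : Cfsg.IsElementaryAbelian 2 (center X) :=
    ⟨inferInstance, fun a ha => by rw [pow_two]; exact hW2 a ha⟩
  have hinv : ∀ x : X, x * x = 1 → x ∈ center X := fun x hx =>
    mem_of_involution hX hE hWe hW4 hx (fun w hw => mem_center_iff.1 hw x) (hcomm x)
  obtain ⟨hcard, hinvc⟩ := card_involutions_four hW2 hW4 hinv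
  refine ⟨?_, hinvc, fun x hx => hinv x (by rw [← pow_two, ← hx, pow_orderOf_eq_one])⟩
  have hne8 : ∀ a ∈ center X, a ≠ 1 → ∀ j : ℕ,
      Nat.card (rad (le_refl (center X)) hcomm (zpowers a)) = 2 ^ j → j ≠ 3 := by
    intro a ha ha1 j hj hj3
    subst hj3
    set R := rad (le_refl (center X)) hcomm (zpowers a) with hR
    have hle : center X ≤ R := le_rad (le_refl (center X)) hcomm _
    obtain ⟨x, hxR, hxW⟩ : ∃ x ∈ R, x ∉ center X := SetLike.not_le_iff_exists.1 fun h => by
      have := card_le_of_le h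
      rw [hj, hW4] at this
      norm_num at this
    refine hxW ((hfix x).2 fun α hα => ?_)
    have hαa : α a = a := (hfix a).1 ha α hα
    have hαR : α x ∈ R := fun g => by
      obtain ⟨i, hi⟩ := mem_zpowers_iff.1 (hxR (α.symm g))
      rw [show ⁅α x, g⁆ = α ⁅x, α.symm g⁆ by rw [map_commutatorElement, MulEquiv.apply_symm_apply],
        ← hi, map_zpow, hαa]
      exact zpow_mem (mem_zpowers a) i
    have hαW : α x ∉ center X := fun h => hxW (by
      have hfx := (hfix (α x)).1 h α hα
      rwa [← α.injective hfx])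
    have hw : x⁻¹ * α x ∈ center X :=
      (mul_mem_iff hle (by rw [hj, hW4]; norm_num) (R.inv_mem hxR) hαR).2
        ⟨fun h => absurd (inv_mem_iff.1 h) hxW, fun h => absurd h hαW⟩
    have hpow : ∀ k : ℕ, (α ^ k) x = x * (x⁻¹ * α x) ^ k := by
      intro k
      induction k with
      | zero => simp
      | succ k ih =>
        rw [pow_succ' α, MulAut.mul_apply, ih, map_mul, map_pow, (hfix _).1 hw α hα, pow_succ',
          ← mul_assoc x, mul_inv_cancel_left]
    have h1 := hpow (orderOf α)
    rw [pow_orderOf_eq_one, MulAut.one_apply, left_eq_mul] at h1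
    obtain ⟨i, hi⟩ := odd_of_mem hA hα
    rw [hi, pow_succ, pow_mul, pow_two, hW2 _ hw, one_pow, one_mul, inv_mul_eq_one] at h1
    exact h1.symm
  obtain ⟨w₁, hw₁, hw₁1⟩ : ∃ w ∈ center X, w ≠ 1 := by
    by_contra hc
    push Not at hc
    rw [(Subgroup.eq_bot_iff_forall _).2 hc, card_bot] at hW4
    norm_num at hW4
  obtain ⟨w₂, hw₂, hw₂1, hw₁₂⟩ : ∃ w ∈ center X, w ≠ 1 ∧ w₁ ≠ w := by
    by_contra hc
    push Not at hc
    have hle : center X ≤ zpowers w₁ := fun w hw => by
      by_cases h1 : w = 1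
      · rw [h1]; exact one_mem _
      · rw [← hc w hw h1]; exact mem_zpowers _
    have := card_le_of_le hle
    rw [hW4, card_zpowers_of_sq (hW2 _ hw₁) hw₁1] at this
    norm_num at this
  have hw₃1 : w₁ * w₂ ≠ 1 := fun h => hw₁₂ (mul_right_cancel (h.trans (hW2 _ hw₂).symm))
  obtain ⟨k, hk⟩ := hX.exists_card_eq
  have hM : Fintype.card X = 2 ^ k := by rw [← Nat.card_eq_fintype_card, hk]
  have hk5 : 5 ≤ k := by
    by_contra hlt
    obtain ⟨c, hc⟩ := commutator_cases_of_card_le (le_refl (center X)) hsq hcomm hW2 hW4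
      (by rw [hk]; exact le_trans (Nat.pow_le_pow_right (by norm_num) (show k ≤ 4 by omega)) (le_refl _))
    obtain ⟨a, b, hab⟩ := exists_ne_comm hna
    have hcab : ⁅a, b⁆ = c := (hc a b).resolve_left hab
    have hle : center X ≤ zpowers c := by
      rw [← hgen, commutator_def, commutator_le]
      intro x _ y _
      rcases hc x y with e | e <;> rw [e]
      · exact one_mem _
      · exact mem_zpowers c
    have := card_le_of_le hle
    rw [hW4, ← hcab, card_zpowers_of_sq (hW2 _ (hcomm a b)) hab] at this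
    norm_num at this
  have hT : ∀ a ∈ center X, a ≠ 1 → charSum (zpowers a) * charSum (zpowers a) ≤ 16 * (2 : ℤ) ^ k ∧
      (Odd k → charSum (zpowers a) = 0) := by
    intro a ha ha1
    rcases four_centre hX (le_refl (center X)) hW2 hW4 hsq hcomm hinv ha ha1 with
      h | ⟨j, hj2, hj4, hjR, h⟩
    · rw [h]; simp
    · have hj3 := hne8 a ha ha1 j hjR
      rw [hM] at h
      push_cast at h
      refine ⟨?_, fun hodd => absurd ?_ (mul_self_ne_two_pow_odd (k := k + j) ?_ (charSum (zpowers a)))⟩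
      · rw [h, mul_comm (16 : ℤ)]
        refine mul_le_mul_of_nonneg_left ?_ (by positivity)
        calc (2 : ℤ) ^ j ≤ 2 ^ 4 := pow_le_pow_right₀ (by norm_num) hj4
          _ = 16 := by norm_num
      · rw [pow_add, h]
      · obtain ⟨i, hi⟩ := hodd
        have hj' : j = 2 ∨ j = 4 := by omega
        rcases hj' with rfl | rfl
        · exact ⟨i + 1, by omega⟩
        · exact ⟨i + 2, by omega⟩
  have h4 := four_mul_card hsq hW4 hW2 hw₁ hw₂ hw₁1 hw₂1 hw₁₂
  rw [hcard, hM] at h4
  push_cast at h4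
  obtain ⟨b1, o1⟩ := hT w₁ hw₁ hw₁1
  obtain ⟨b2, o2⟩ := hT w₂ hw₂ hw₂1
  obtain ⟨b3, o3⟩ := hT (w₁ * w₂) (mul_mem hw₁ hw₂) hw₃1
  have hk7 : k ≤ 7 := by
    by_contra hlt
    have h256 : (256 : ℤ) ≤ 2 ^ k := by
      calc (256 : ℤ) = 2 ^ 8 := by norm_num
        _ ≤ 2 ^ k := pow_le_pow_right₀ (by norm_num) (by omega)
    nlinarith [sq_nonneg (charSum (zpowers w₁) - charSum (zpowers w₂)),
      sq_nonneg (charSum (zpowers w₁) - charSum (zpowers (w₁ * w₂))),
      sq_nonneg (charSum (zpowers w₂) - charSum (zpowers (w₁ * w₂)))]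
  have hk6 : k = 6 := by
    by_contra hne
    have hodd : Odd k := by
      have : k = 5 ∨ k = 7 := by omega
      rcases this with rfl | rfl <;> decide
    rw [o1 hodd, o2 hodd, o3 hodd] at h4
    have : (32 : ℤ) ≤ 2 ^ k := by
      calc (32 : ℤ) = 2 ^ 5 := by norm_num
        _ ≤ 2 ^ k := pow_le_pow_right₀ (by norm_num) hk5
    omega
  rw [hM, hk6]
  norm_num

/-- The centre is a four-group moved by `A`. -/
theorem four_moved [Fintype X] (hX : IsPGroup 2 X) (hna : ¬ IsMulCommutative X) (hE : NoE8 X)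
    {W : Subgroup X} {φ : MulAut X} (h : Data W φ)
    (A : Subgroup (MulAut X)) (hA : Odd (Nat.card A)) (hφA : φ ∈ A)
    (hWA : ∀ α ∈ A, ∀ w ∈ W, α w ∈ W)
    (hXA : Subgroup.closure {g : X | ∃ α ∈ A, ∃ x : X, g = x⁻¹ * α x} = ⊤) :
    Cfsg.IsSpecial 2 X ∧ Fintype.card X = 64 ∧ Nat.card {x : X // orderOf x = 2} = 3 ∧
      ∀ x : X, orderOf x = 2 → x ∈ center X := by
  classical
  haveI : Fact (Nat.Prime 2) := ⟨Nat.prime_two⟩
  obtain ⟨hsq, hcomm, hcW⟩ := moving_main hX hna hE h A hA hφA hWA hXA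
  have hcen : center X = W := le_antisymm hcW h.le_center
  haveI : W.Normal := hcen ▸ inferInstance
  have hWe : Cfsg.IsElementaryAbelian 2 W :=
    ⟨⟨⟨fun a b => Subtype.ext (mem_center_iff.1 (h.le_center a.2) b).symm⟩⟩,
      fun a ha => by rw [pow_two]; exact h.sq_one a ha⟩
  have hinv : ∀ x : X, x * x = 1 → x ∈ W := fun x hx =>
    mem_of_involution hX hE hWe h.card4 hx (fun w hw => mem_center_iff.1 (h.le_center hw) x) (hcomm x)
  obtain ⟨hcard, hinvc⟩ := card_involutions_four h.sq_one h.card4 hinv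
  obtain ⟨a₀, b₀, hab⟩ := exists_ne_comm hna
  have hcW' : ⁅a₀, b₀⁆ ∈ W := hcomm a₀ b₀
  have hgen : commutator X = W := by
    refine le_antisymm (by rw [commutator_def, commutator_le]; exact fun x _ y _ => hcomm x y) ?_
    intro u hu
    have hm : ∀ x y : X, ⁅x, y⁆ ∈ commutator X := fun x y =>
      commutator_mem_commutator (mem_top x) (mem_top y)
    rcases h.cases hcW' hab hu with e | e | e | e <;> rw [e]
    · exact one_mem _
    · exact hm _ _
    · rw [map_commutatorElement]; exact hm _ _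
    · exact mul_mem (hm _ _) (by rw [map_commutatorElement]; exact hm _ _)
  have hspec : Cfsg.IsSpecial 2 X := by
    refine ⟨hX, le_antisymm ?_ ?_, by rw [hgen, hcen]⟩
    · rw [hcen]
      exact CfsgLib.Solvable.frattini_le_of_elementary (p := 2) W hgen.le
        fun x => by rw [pow_two]; exact hsq x
    · rw [hcen, ← hgen]
      exact CfsgLib.PGroup.commutator_le_frattini hX
  refine ⟨hspec, ?_, hinvc, fun x hx => h.le_center (hinv x (by rw [← pow_two, ← hx, pow_orderOf_eq_one]))⟩
  obtain ⟨k, hk⟩ := hX.exists_card_eq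
  have hM : Fintype.card X = 2 ^ k := by rw [← Nat.card_eq_fintype_card, hk]
  have hk5 : 5 ≤ k := by
    by_contra hlt
    obtain ⟨c, hc⟩ := commutator_cases_of_card_le h.le_center hsq hcomm h.sq_one h.card4
      (by rw [hk]; exact le_trans (Nat.pow_le_pow_right (by norm_num) (show k ≤ 4 by omega)) (le_refl _))
    have hab' : ⁅a₀, b₀⁆ = c := (hc _ _).resolve_left hab
    rcases hc (φ a₀) (φ b₀) with e | e <;> rw [← map_commutatorElement] at e
    · exact hab (φ.injective (e.trans (map_one φ).symm))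
    · exact hab (h.fpf _ hcW' (e.trans hab'.symm))
  have hTφ : ∀ a : X, charSum (zpowers (φ a)) = charSum (zpowers a) := by
    intro a
    unfold charSum
    rw [← Equiv.sum_comp φ.toEquiv fun x : X => chi (zpowers (φ a)) (x * x)]
    refine Finset.sum_congr rfl fun x _ => ?_
    show chi (zpowers (φ a)) (φ x * φ x) = chi (zpowers a) (x * x)
    rw [← map_mul]
    have hiff : φ (x * x) ∈ zpowers (φ a) ↔ x * x ∈ zpowers a := by
      simp only [mem_zpowers_iff, ← map_zpow, φ.injective.eq_iff]
    rcases chi_cases (zpowers a) (x * x) with ⟨h1, e1⟩ | ⟨h1, e1⟩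
    · rw [e1, chi_of_mem (hiff.2 h1)]
    · rw [e1, chi_of_notMem (fun h2 => h1 (hiff.1 h2))]
  have hw1 : φ ⁅a₀, b₀⁆ ∈ W := h.map_mem _ hcW'
  have h4 := four_mul_card hsq h.card4 h.sq_one hcW' hw1 hab
    (fun e => hab (φ.injective (e.trans (map_one φ).symm)))
    (fun e => hab (h.fpf _ hcW' e.symm))
  rw [hcard, hM, ← h.map_map hcW'] at h4
  simp only [hTφ] at h4
  push_cast at h4
  have hbound : k ≤ 7 := by
    by_contra hlt
    have h256 : (256 : ℤ) ≤ 2 ^ k := by
      calc (256 : ℤ) = 2 ^ 8 := by norm_num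
        _ ≤ 2 ^ k := pow_le_pow_right₀ (by norm_num) (by omega)
    rcases four_centre hX h.le_center h.sq_one h.card4 hsq hcomm hinv hcW' hab with
      e | ⟨j, -, hj4, -, e⟩
    · omega
    · rw [hM] at e
      push_cast at e
      have : (2 : ℤ) ^ j ≤ 16 := by
        calc (2 : ℤ) ^ j ≤ 2 ^ 4 := pow_le_pow_right₀ (by norm_num) hj4
          _ = 16 := by norm_num
      nlinarith
  have hk' : k = 5 ∨ k = 6 ∨ k = 7 := by omega
  rcases hk' with rfl | rfl | rfl
  · norm_num at h4; omega
  · rw [hM]; norm_num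
  · norm_num at h4; omega

theorem main [Finite X] (hX : IsPGroup 2 X) (hna : ¬ IsMulCommutative X)
    (hscn : ¬ ∃ A : Subgroup X, A.Normal ∧ Subgroup.centralizer (A : Set X) = A ∧
      ∃ E : Subgroup X, E ≤ A ∧ Cfsg.IsElementaryAbelian 2 E ∧ Nat.card E = 8)
    (A : Subgroup (MulAut X)) (hA : Odd (Nat.card A))
    (hXA : Subgroup.closure {g : X | ∃ φ ∈ A, ∃ x : X, g = x⁻¹ * φ x} = ⊤) :
    Nonempty (X ≃* QuaternionGroup 2) ∨
      (Cfsg.IsSpecial 2 X ∧ Nat.card X = 64 ∧ Nat.card {x : X // orderOf x = 2} = 3 ∧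
        ∀ x : X, orderOf x = 2 → x ∈ Subgroup.center X) ∨
      (Cfsg.IsExtraspecial 2 X ∧ Nat.card X = 32 ∧ Nat.card {x : X // orderOf x = 2} = 11) := by
  classical
  have := Fintype.ofFinite X
  haveI : Fact (Nat.Prime 2) := ⟨Nat.prime_two⟩
  have hE := noE8_of_scn hX hscn
  by_cases hchar : ∀ H : Subgroup X, H.Characteristic → IsMulCommutative H → ∀ a ∈ A, ∀ h ∈ H, a h = h
  · obtain ⟨⟨-, hΦ, hcomm'⟩, hfix⟩ := Cfsg.Agent.S0119.result hX A
      (Nat.Coprime.symm ((Nat.prime_two.coprime_iff_not_dvd).2 (fun h => by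
        obtain ⟨i, hi⟩ := hA
        omega)))
      (by
        rw [← hXA]
        congr 1
        ext g
        exact ⟨fun ⟨x, a, ha, e⟩ => ⟨a, ha, x, e⟩, fun ⟨a, ha, x, e⟩ => ⟨x, a, ha, e⟩⟩)
      hchar
    have hspec : Cfsg.IsSpecial 2 X := ⟨hX, hΦ, hcomm'⟩
    have hsq : ∀ x : X, x * x ∈ center X := fun x => by
      rw [← hΦ, ← pow_two]; exact CfsgLib.PGroup.pow_mem_frattini hX x
    have hcomm : ∀ x y : X, ⁅x, y⁆ ∈ center X := fun x y =>
      hcomm'.le (commutator_mem_commutator (mem_top x) (mem_top y))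
    have hW2 : ∀ w ∈ center X, w * w = 1 := by
      let Ω : Subgroup X :=
        { carrier := {z | z ∈ center X ∧ z * z = 1}
          one_mem' := ⟨one_mem _, one_mul 1⟩
          mul_mem' := fun {a b} ha hb => ⟨mul_mem ha.1 hb.1, by
            calc a * b * (a * b) = a * (b * a) * b := by group
              _ = a * a * (b * b) := by rw [mem_center_iff.1 ha.1 b]; group
              _ = 1 := by rw [ha.2, hb.2, one_mul]⟩
          inv_mem' := fun {a} ha => ⟨inv_mem ha.1, by rw [← mul_inv_rev, ha.2, inv_one]⟩ }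
      have hle : commutator X ≤ Ω := by
        rw [commutator_def, commutator_le]
        intro x _ y _
        refine ⟨hcomm x y, ?_⟩
        rw [← CfsgLib.PGroup.comm_mul_left (hcomm x y)]
        exact commutatorElement_eq_one_iff_mul_comm.2 (mem_center_iff.1 (hsq x) y).symm
      intro w hw
      exact (hle (hcomm'.ge hw)).2
    have hWe : Cfsg.IsElementaryAbelian 2 (center X) :=
      ⟨inferInstance, fun a ha => by rw [pow_two]; exact hW2 a ha⟩
    obtain ⟨i, hi⟩ := (hX.to_subgroup (center X)).exists_card_eq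
    have hi2 : i ≤ 2 := (Nat.pow_le_pow_iff_right (show 1 < 2 by norm_num)).1
      (show 2 ^ i ≤ 2 ^ 2 from hi ▸ hE (center X) inferInstance hWe)
    have hi0 : i ≠ 0 := by
      rintro rfl
      obtain ⟨a, b, hab⟩ := exists_ne_comm hna
      have : center X = ⊥ := eq_bot_of_card_eq _ (by simpa using hi)
      exact hab (mem_bot.1 (this ▸ hcomm a b))
    have hi' : i = 1 ∨ i = 2 := by omega
    rcases hi' with rfl | rfl
    · rcases small_centre hX hna hE hsq hcomm (by simpa using hi) A hA (fun x hx => (hfix x).2 hx) with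
        h | ⟨h1, h2⟩
      · exact Or.inl h
      · exact Or.inr (Or.inr ⟨⟨hspec, by simpa using hi⟩, by rw [Nat.card_eq_fintype_card, h1], h2⟩)
    · obtain ⟨h1, h2, h3⟩ := four_fixed hX hna hE hsq hcomm hcomm' hW2 (by simpa using hi) A hA hfix
      exact Or.inr (Or.inl ⟨hspec, by rw [Nat.card_eq_fintype_card, h1], h2, h3⟩)
  · push Not at hchar
    obtain ⟨D, hDchar, hDc, φ, hφA, d, hd, hdφ⟩ := hchar
    haveI := hDchar
    have hφodd := odd_of_mem hA hφA
    have hDmul : ∀ a ∈ D, ∀ b ∈ D, a * b = b * a := fun a ha b hb =>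
      congrArg Subtype.val (hDc.is_comm.comm (⟨a, ha⟩ : D) ⟨b, hb⟩)
    have hDinv : ∀ (α : MulAut X), ∀ x ∈ D, α x ∈ D := fun α x hx =>
      (Subgroup.characteristic_iff_map_le.1 hDchar α) (mem_map_of_mem _ hx)
    let W : Subgroup X :=
      { carrier := {t | t ∈ D ∧ t * t = 1}
        one_mem' := ⟨D.one_mem, one_mul 1⟩
        mul_mem' := fun {a b} ha hb => ⟨D.mul_mem ha.1 hb.1, by
          calc a * b * (a * b) = a * (b * a) * b := by group
            _ = a * a * (b * b) := by rw [hDmul b hb.1 a ha.1]; group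
            _ = 1 := by rw [ha.2, hb.2, one_mul]⟩
        inv_mem' := fun {a} ha => ⟨D.inv_mem ha.1, by rw [← mul_inv_rev, ha.2, inv_one]⟩ }
    have hW : ∀ {t : X}, t ∈ W ↔ t ∈ D ∧ t * t = 1 := Iff.rfl
    haveI hWn : W.Normal := ⟨fun t ht g => ⟨Subgroup.Normal.conj_mem inferInstance t ht.1 g, by
      rw [show g * t * g⁻¹ * (g * t * g⁻¹) = g * (t * t) * g⁻¹ by group, ht.2]; group⟩⟩
    have hWA : ∀ (α : MulAut X), ∀ w ∈ W, α w ∈ W := fun α w hw =>
      hW.2 ⟨hDinv α w hw.1, by rw [← map_mul, hw.2, map_one]⟩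
    have hWe : Cfsg.IsElementaryAbelian 2 W :=
      ⟨⟨⟨fun a b => Subtype.ext (hDmul a a.2.1 b b.2.1)⟩⟩, fun a ha => by rw [pow_two]; exact ha.2⟩
    obtain ⟨w, hwW, hwφ⟩ : ∃ w ∈ W, φ w ≠ w := by
      by_contra hc
      push Not at hc
      suffices ∀ k : ℕ, ∀ d ∈ D, d ^ 2 ^ k = 1 → φ d = d by
        obtain ⟨k, hk⟩ := hX d
        exact hdφ (this k d hd hk)
      intro k
      induction k with
      | zero => intro d _ e; rw [show d = 1 by simpa using e, map_one]
      | succ k ih =>
        intro d hd e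
        have h2 : φ (d * d) = d * d :=
          ih _ (D.mul_mem hd hd) (by rw [← pow_two, ← pow_mul, ← pow_succ', e])
        have heD : d⁻¹ * φ d ∈ D := D.mul_mem (D.inv_mem hd) (hDinv φ d hd)
        have he : d⁻¹ * φ d ∈ W := hW.2 ⟨heD, by
          calc d⁻¹ * φ d * (d⁻¹ * φ d) = d⁻¹ * (φ d * d⁻¹) * φ d := by group
            _ = d⁻¹ * (d⁻¹ * φ d) * φ d := by rw [hDmul _ (hDinv φ d hd) _ (D.inv_mem hd)]
            _ = (d * d)⁻¹ * φ (d * d) := by rw [map_mul]; group
            _ = 1 := by rw [h2, inv_mul_cancel]⟩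
        have hpow : ∀ m : ℕ, (φ ^ m) d = d * (d⁻¹ * φ d) ^ m := by
          intro m
          induction m with
          | zero => simp
          | succ m ihm =>
            rw [pow_succ' φ, MulAut.mul_apply, ihm, map_mul, map_pow, hc _ he, pow_succ',
              ← mul_assoc d, mul_inv_cancel_left]
        have h1 := hpow (orderOf φ)
        rw [pow_orderOf_eq_one, MulAut.one_apply, left_eq_mul] at h1
        obtain ⟨i, hi⟩ := hφodd
        rw [hi, pow_succ, pow_mul, pow_two, he.2, one_pow, one_mul, inv_mul_eq_one] at h1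
        exact h1.symm
    have hw1 : w ≠ 1 := fun e => hwφ (by rw [e, map_one])
    have hφw1 : φ w ≠ 1 := fun e => hw1 (φ.injective (e.trans (map_one φ).symm))
    have hW4 : Nat.card W = 4 := by
      obtain ⟨i, hi⟩ := (hX.to_subgroup W).exists_card_eq
      have h4 := hE W inferInstance hWe
      have h3 : 3 ≤ Nat.card W := by
        have := Fintype.ofFinite W
        rw [Nat.card_eq_fintype_card, Fintype.two_lt_card_iff.symm.trans (Nat.lt_iff_add_one_le)|>.symm]
        exact ⟨1, ⟨w, hwW⟩, ⟨φ w, hWA φ w hwW⟩, by simp [Subtype.ext_iff, hw1.symm],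
          by simp [Subtype.ext_iff, hφw1.symm], by simp [Subtype.ext_iff, Ne.symm hwφ]⟩
      rw [hi] at h3 h4 ⊢
      have : i ≤ 2 := (Nat.pow_le_pow_iff_right (show 1 < 2 by norm_num)).1
        (show 2 ^ i ≤ 2 ^ 2 from h4)
      interval_cases i <;> simp_all
    have hW2 : ∀ t ∈ W, t * t = 1 := fun t ht => ht.2
    have hfpf : ∀ v ∈ W, φ v = v → v = 1 := by
      intro v hv e
      by_contra hv1
      rcases four_cases hW4 hW2 hv hwW hv1 hw1 (fun e' => hwφ (e' ▸ e)) _ (hWA φ w hwW) with h | h | h | h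
      · exact hφw1 h
      · exact hwφ (by
          have := φ.injective (h.trans e.symm)
          rw [this]; exact e)
      · exact hwφ h
      · exact hwφ (odd_cycle hφodd (by rw [h, map_mul, e, h, ← mul_assoc, hW2 v hv, one_mul]))
    have hWc : W ≤ center X := by
      have hne : W ⊓ center X ≠ ⊥ := CfsgLib.PGroup.inf_center_ne_bot hX W fun hb => hw1 (by
        have := hb ▸ hwW
        exact mem_bot.1 this)
      obtain ⟨v, hv, hv1⟩ := (Subgroup.bot_or_exists_ne_one _).resolve_left hne
      have hφv : φ v ∈ center X := mem_center_iff.2 fun g => by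
        have := congrArg φ (mem_center_iff.1 hv.2 (φ.symm g))
        rwa [map_mul, map_mul, MulEquiv.apply_symm_apply] at this
      intro u hu
      rcases four_cases hW4 hW2 hv.1 (hWA φ v hv.1) hv1 (by simpa using hv1)
        (fun e => hv1 (hfpf v hv.1 e.symm)) u hu with h | h | h | h <;> rw [h]
      · exact one_mem _
      · exact hv.2
      · exact hφv
      · exact mul_mem hv.2 hφv
    have hdata : Data W φ := ⟨hWc, hW2, hW4, fun u hu => hWA φ u hu, hfpf, hφodd⟩
    obtain ⟨h0, h1, h2, h3⟩ := four_moved hX hna hE hdata A hA hφA (fun α _ => hWA α) hXA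
    exact Or.inr (Or.inl ⟨h0, by rw [Nat.card_eq_fintype_card, h1], h2, h3⟩)

end CfsgLib.Techniques.TwoGroupNoSCN
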