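import Cfsg.Agent.Lib.Techniques.TwoGroupNoSCNBasic

/-!
A 2-group without normal elementary abelian subgroups of order 8 with an odd automorphism group
`A`, `[X,A] = X`, moving a central four-group `W`: squares and commutators lie in `W = Z(X)`.
-/

set_option autoImplicit false

namespace CfsgLib.Techniques.TwoGroupNoSCN

open Subgroup
open scoped commutatorElement
open CfsgLib.Techniques.TwoGroupCount

variable {X : Type*} [Group X]

section Normal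

variable {D : Subgroup X} [hDn : D.Normal] (hDc : ∀ a ∈ D, ∀ b ∈ D, a * b = b * a)

omit hDc in
theorem comm_mem_right {d : X} (hd : d ∈ D) (g : X) : ⁅g, d⁆ ∈ D := by
  rw [commutatorElement_def]
  exact D.mul_mem (hDn.conj_mem d hd g) (D.inv_mem hd)

omit hDc in
theorem comm_mem_left {d : X} (hd : d ∈ D) (g : X) : ⁅d, g⁆ ∈ D := by
  rw [← commutatorElement_inv]
  exact D.inv_mem (comm_mem_right hd g)

include hDc in
theorem comm_hom (g : X) {a b : X} (ha : a ∈ D) (hb : b ∈ D) : ⁅g, a * b⁆ = ⁅g, a⁆ * ⁅g, b⁆ := by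
  have e : ⁅g, a * b⁆ = ⁅g, a⁆ * (a * ⁅g, b⁆ * a⁻¹) := by
    simp only [commutatorElement_def]; group
  rw [e, hDc a ha _ (comm_mem_right hb g), mul_inv_cancel_right]

end Normal

/-- The norm condition holds for all elements. -/
theorem norm_all [Finite X] {W : Subgroup X} {φ : MulAut X} (h : Data W φ) {V : Subgroup X}
    (hVW : ∀ g : X, ∀ v ∈ V, ⁅g, v⁆ ∈ W) (hWV : W ≤ V)
    (hsqV : ∀ v ∈ V, v * v ∈ W) (hsurj : ∀ w ∈ W, ∃ v ∈ V, v * v = w)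
    (hcongr : ∀ a ∈ V, ∀ b ∈ V, a * a = b * b → ∀ g : X, ⁅g, a⁆ = ⁅g, b⁆)
    (A : Subgroup (MulAut X)) (hA : Odd (Nat.card A)) (hφA : φ ∈ A)
    (hWA : ∀ α ∈ A, ∀ w ∈ W, α w ∈ W) (hVA : ∀ α ∈ A, ∀ v ∈ V, α v ∈ V)
    (hXA : Subgroup.closure {g : X | ∃ α ∈ A, ∃ x : X, g = x⁻¹ * α x} = ⊤) :
    ∀ g : X, ∀ v ∈ V, φ (φ ⁅g, v⁆) * φ ⁅g, φ v⁆ * ⁅g, φ (φ v)⁆ = 1 := by
  classical
  choose sq hsqm hsq2 using hsurj
  let μ : X → (w : X) → w ∈ W → X := fun g w hw => ⁅g, sq w hw⁆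
  have hμ : ∀ (g v : X) (hv : v ∈ V), ⁅g, v⁆ = μ g (v * v) (hsqV v hv) := fun g v hv =>
    hcongr v hv _ (hsqm _ _) (hsq2 _ _).symm g
  have hcm : ∀ g g' v : X, v ∈ V → ⁅g * g', v⁆ = ⁅g, v⁆ * ⁅g', v⁆ := fun g g' v hv =>
    CfsgLib.PGroup.comm_mul_left (h.le_center (hVW g' v hv))
  let S : X → X → X := fun g v => φ (φ ⁅g, v⁆) * φ ⁅g, φ v⁆ * ⁅g, φ (φ v)⁆
  have hSmul : ∀ g g' v : X, v ∈ V → S (g * g') v = S g v * S g' v := by
    intro g g' v hv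
    have hv1 := hVA φ hφA v hv
    have hv2 := hVA φ hφA _ hv1
    have hb : ∀ x : X, x * φ (φ ⁅g', v⁆) = φ (φ ⁅g', v⁆) * x :=
      mem_center_iff.1 (h.le_center (h.map_mem _ (h.map_mem _ (hVW g' v hv))))
    have hd : ∀ x : X, x * φ ⁅g', φ v⁆ = φ ⁅g', φ v⁆ * x :=
      mem_center_iff.1 (h.le_center (h.map_mem _ (hVW g' _ hv1)))
    show φ (φ ⁅g * g', v⁆) * φ ⁅g * g', φ v⁆ * ⁅g * g', φ (φ v)⁆ = _
    rw [hcm g g' v hv, hcm g g' _ hv1, hcm g g' _ hv2, map_mul, map_mul, map_mul]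
    calc φ (φ ⁅g, v⁆) * φ (φ ⁅g', v⁆) * (φ ⁅g, φ v⁆ * φ ⁅g', φ v⁆) * (⁅g, φ (φ v)⁆ * ⁅g', φ (φ v)⁆)
        = φ (φ ⁅g, v⁆) * (φ (φ ⁅g', v⁆) * φ ⁅g, φ v⁆) * (φ ⁅g', φ v⁆ * ⁅g, φ (φ v)⁆) *
            ⁅g', φ (φ v)⁆ := by group
      _ = φ (φ ⁅g, v⁆) * (φ ⁅g, φ v⁆ * φ (φ ⁅g', v⁆)) * (⁅g, φ (φ v)⁆ * φ ⁅g', φ v⁆) *
            ⁅g', φ (φ v)⁆ := by rw [hb, hd]
      _ = φ (φ ⁅g, v⁆) * φ ⁅g, φ v⁆ * (φ (φ ⁅g', v⁆) * ⁅g, φ (φ v)⁆) * φ ⁅g', φ v⁆ *
            ⁅g', φ (φ v)⁆ := by group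
      _ = φ (φ ⁅g, v⁆) * φ ⁅g, φ v⁆ * (⁅g, φ (φ v)⁆ * φ (φ ⁅g', v⁆)) * φ ⁅g', φ v⁆ *
            ⁅g', φ (φ v)⁆ := by rw [hb ⁅g, φ (φ v)⁆]
      _ = _ := by simp only [S]; group
  have hS1 : ∀ v : X, S 1 v = 1 := fun v => by simp [S]
  let G₀ : Subgroup X :=
    { carrier := {g | ∀ v ∈ V, S g v = 1}
      one_mem' := fun v _ => hS1 v
      mul_mem' := fun {g g'} hg hg' v hv => by rw [hSmul g g' v hv, hg v hv, hg' v hv, mul_one]
      inv_mem' := fun {g} hg v hv => by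
        have := hSmul g⁻¹ g v hv
        rwa [inv_mul_cancel, hS1, hg v hv, mul_one, eq_comm] at this }
  suffices G₀ = ⊤ from fun g v hv => (this ▸ mem_top g : g ∈ G₀) v hv
  rw [eq_top_iff, ← hXA, closure_le]
  rintro _ ⟨α, hαA, x, rfl⟩
  intro v hv
  suffices S (α x) v = S x v by
    rw [hSmul _ _ v hv, this, ← hSmul _ _ v hv, inv_mul_cancel, hS1]
  have hoddA : ∀ β ∈ A, Odd (orderOf β) := fun β hβ => Odd.of_dvd_nat hA (orderOf_dvd_natCard A hβ)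
  have hαμ : ∀ (g w : X) (hw : w ∈ W), α (μ g w hw) = μ (α g) (α w) (hWA α hαA w hw) := by
    intro g w hw
    show α ⁅g, sq w hw⁆ = ⁅α g, sq (α w) _⁆
    rw [map_commutatorElement]
    exact hcongr _ (hVA α hαA _ (hsqm _ _)) _ (hsqm _ _) (by rw [← map_mul, hsq2, hsq2]) _
  have hμW : ∀ (g w : X) (hw : w ∈ W), μ g w hw ∈ W := fun g w hw => hVW g _ (hsqm _ _)
  have hμc : ∀ (g : X) {w w' : X} (hw : w ∈ W) (hw' : w' ∈ W), w = w' → μ g w hw = μ g w' hw' := by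
    rintro g w _ hw hw' rfl
    rfl
  set w := v * v with hw_def
  have hw : w ∈ W := hsqV v hv
  have hw1 : φ w ∈ W := h.map_mem w hw
  have hw2 : φ (φ w) ∈ W := h.map_mem _ hw1
  have hSμ : ∀ g : X, S g v = φ (φ (μ g w hw)) * φ (μ g (φ w) hw1) * μ g (φ (φ w)) hw2 := by
    intro g
    show φ (φ ⁅g, v⁆) * φ ⁅g, φ v⁆ * ⁅g, φ (φ v)⁆ = _
    rw [hμ g v hv, hμ g _ (hVA φ hφA v hv), hμ g _ (hVA φ hφA _ (hVA φ hφA v hv))]
    rw [hμc g (hsqV (φ v) (hVA φ hφA v hv)) hw1 (by rw [← map_mul, ← hw_def]),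
      hμc g (hsqV (φ (φ v)) (hVA φ hφA _ (hVA φ hφA v hv))) hw2
        (by rw [← map_mul, ← map_mul, ← hw_def])]
  rw [hSμ, hSμ]
  have hperm : ∀ a b c : X, a ∈ W → b ∈ W → c ∈ W → a * b * c = b * c * a ∧ a * b * c = c * a * b := by
    intro a b c ha hb hc
    constructor
    · rw [mul_assoc a b c, mem_center_iff.1 (h.le_center ha) (b * c)]
    · rw [mem_center_iff.1 (h.le_center hc) (a * b), ← mul_assoc]
  -- the action of `α` on `W` is a power of that of `φ`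
  obtain ⟨w₀, hw₀, hw₀1⟩ : ∃ w₀ ∈ W, w₀ ≠ 1 := by
    by_contra hc
    push Not at hc
    have : W = ⊥ := (Subgroup.eq_bot_iff_forall _).2 hc
    have h4 := h.card4
    rw [this, card_bot] at h4
    norm_num at h4
  have hαW : (∀ u ∈ W, α u = u) ∨ (∀ u ∈ W, α u = φ u) ∨ (∀ u ∈ W, α u = φ (φ u)) := by
    have hφinv : ∀ u ∈ W, φ⁻¹ u ∈ W := by
      intro u hu
      have := h.three hu
      have e : φ⁻¹ u = φ (φ u) := by
        conv_lhs => rw [← this]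
        exact φ.symm_apply_apply _
      rw [e]
      exact h.map_mem _ (h.map_mem _ hu)
    rcases h.cases hw₀ hw₀1 (hWA α hαA w₀ hw₀) with e | e | e | e
    · exact absurd e (by simpa using hw₀1)
    · exact Or.inl (h.eq_one_of_fix (hoddA α hαA) (hWA α hαA) hw₀ hw₀1 e)
    · refine Or.inr (Or.inl fun u hu => ?_)
      have := h.eq_one_of_fix (β := φ⁻¹ * α) (hoddA _ (A.mul_mem (A.inv_mem hφA) hαA))
        (fun u hu => by rw [MulAut.mul_apply]; exact hφinv _ (hWA α hαA u hu)) hw₀ hw₀1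
        (by rw [MulAut.mul_apply, e]; exact φ.symm_apply_apply _) u hu
      rw [MulAut.mul_apply] at this
      conv_rhs => rw [← this]
      exact (φ.apply_symm_apply _).symm
    · refine Or.inr (Or.inr fun u hu => ?_)
      rw [← h.map_map hw₀] at e
      have := h.eq_one_of_fix (β := φ⁻¹ * (φ⁻¹ * α))
        (hoddA _ (A.mul_mem (A.inv_mem hφA) (A.mul_mem (A.inv_mem hφA) hαA)))
        (fun u hu => by
          rw [MulAut.mul_apply, MulAut.mul_apply]; exact hφinv _ (hφinv _ (hWA α hαA u hu))) hw₀ hw₀1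
        (by
          rw [MulAut.mul_apply, MulAut.mul_apply, e]
          exact (congrArg φ.symm (φ.symm_apply_apply (φ w₀))).trans (φ.symm_apply_apply w₀)) u hu
      rw [MulAut.mul_apply, MulAut.mul_apply] at this
      conv_rhs => rw [← this]
      exact ((congrArg φ (φ.apply_symm_apply _)).trans (φ.apply_symm_apply _)).symm
  rcases hαW with hα | hα | hα
  · have key : ∀ (u : X) (hu : u ∈ W), μ (α x) u hu = μ x u hu := fun u hu => by
      rw [hμc (α x) hu (hWA α hαA u hu) (hα u hu).symm, ← hαμ x u hu, hα _ (hμW x u hu)]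
    rw [key, key, key]
  · have key : ∀ (u : X) (hu : u ∈ W),
        μ (α x) u hu = φ (μ x (φ (φ u)) (h.map_mem _ (h.map_mem u hu))) := fun u hu => by
      rw [hμc (α x) hu (hWA α hαA _ (h.map_mem _ (h.map_mem u hu)))
        (by rw [hα _ (h.map_mem _ (h.map_mem u hu)), h.three hu]),
        ← hαμ x _ (h.map_mem _ (h.map_mem u hu)), hα _ (hμW x _ _)]
    rw [key, key, key, h.three (hμW x _ _)]
    rw [hμc x (h.map_mem _ (h.map_mem (φ w) hw1)) hw (h.three hw),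
      hμc x (h.map_mem _ (h.map_mem (φ (φ w)) hw2)) hw1 (h.three hw1)]
    exact (hperm _ _ _ (hμW x _ _) (h.map_mem _ (h.map_mem _ (hμW x _ _))) (h.map_mem _ (hμW x _ _))).1
  · have key : ∀ (u : X) (hu : u ∈ W),
        μ (α x) u hu = φ (φ (μ x (φ u) (h.map_mem u hu))) := fun u hu => by
      rw [hμc (α x) hu (hWA α hαA _ (h.map_mem u hu)) (by rw [hα _ (h.map_mem u hu), h.three hu]),
        ← hαμ x _ (h.map_mem u hu), hα _ (hμW x _ _)]
    rw [key, key, key, h.three (hμW x _ _), h.three (hμW x _ _)]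
    rw [hμc x (h.map_mem (φ (φ w)) hw2) hw (h.three hw)]
    exact (hperm _ _ _ (h.map_mem _ (hμW x _ _)) (hμW x _ _) (h.map_mem _ (h.map_mem _ (hμW x _ _)))).2

/-- Squares and commutators lie in `W`, which is the centre. -/
theorem moving_main [Finite X] (hX : IsPGroup 2 X) (hna : ¬ IsMulCommutative X) (hE : NoE8 X)
    {W : Subgroup X} {φ : MulAut X} (h : Data W φ)
    (A : Subgroup (MulAut X)) (hA : Odd (Nat.card A)) (hφA : φ ∈ A)
    (hWA : ∀ α ∈ A, ∀ w ∈ W, α w ∈ W)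
    (hXA : Subgroup.closure {g : X | ∃ α ∈ A, ∃ x : X, g = x⁻¹ * α x} = ⊤) :
    (∀ x : X, x * x ∈ W) ∧ (∀ x y : X, ⁅x, y⁆ ∈ W) ∧ center X ≤ W := by
  classical
  have hWn : W.Normal := ⟨fun w hw g => by
    rwa [mem_center_iff.1 (h.le_center hw) g, mul_inv_cancel_right]⟩
  haveI := hWn
  have hWe : Cfsg.IsElementaryAbelian 2 W :=
    ⟨⟨⟨fun a b => Subtype.ext (mem_center_iff.1 (h.le_center a.2) b).symm⟩⟩,
      fun a ha => by rw [pow_two]; exact h.sq_one a ha⟩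
  have hinv : ∀ t : X, t * t = 1 → (∀ g : X, ⁅t, g⁆ ∈ W) → t ∈ W := fun t ht hc =>
    mem_of_involution hX hE hWe h.card4 ht
      (fun w hw => mem_center_iff.1 (h.le_center hw) t) hc
  have hww : ∀ g : X, ∀ w ∈ W, ⁅g, w⁆ = 1 := fun g w hw =>
    commutatorElement_eq_one_iff_mul_comm.2 (mem_center_iff.1 (h.le_center hw) g)
  have hcomm_eq : ∀ {g d : X}, ⁅g, d⁆ = 1 → g * d = d * g := fun e =>
    commutatorElement_eq_one_iff_mul_comm.1 e
  -- the second layer `V`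
  let V : Subgroup X :=
    { carrier := {x | x * x ∈ W ∧ ∀ g : X, ⁅x, g⁆ ∈ W}
      one_mem' := ⟨by simp, fun g => by simp⟩
      mul_mem' := fun {x y} hx hy => ⟨by
        rw [sq_mul (h.le_center (hy.2 x))]
        exact W.mul_mem (hy.2 x) (W.mul_mem hx.1 hy.1), fun g => by
        rw [CfsgLib.PGroup.comm_mul_left (h.le_center (hy.2 g))]
        exact W.mul_mem (hx.2 g) (hy.2 g)⟩
      inv_mem' := fun {x} hx => ⟨by
        rw [show x⁻¹ * x⁻¹ = (x * x)⁻¹ by group]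
        exact W.inv_mem hx.1, fun g => by
        rw [comm_inv_left h.le_center (hx.2 g)]
        exact W.inv_mem (hx.2 g)⟩ }
  have hV : ∀ {x : X}, x ∈ V ↔ x * x ∈ W ∧ ∀ g : X, ⁅x, g⁆ ∈ W := Iff.rfl
  have hVW : ∀ g : X, ∀ v ∈ V, ⁅g, v⁆ ∈ W := fun g v hv => by
    rw [← commutatorElement_inv]
    exact W.inv_mem ((hV.1 hv).2 g)
  have hWV : W ≤ V := fun w hw => hV.2 ⟨W.mul_mem hw hw, fun g => by
    rw [← commutatorElement_inv, hww g w hw, inv_one]; exact W.one_mem⟩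
  haveI hVn : V.Normal := ⟨fun x hx g => by
    have e : g * x * g⁻¹ = ⁅g, x⁆ * x := by simp [commutatorElement_def]
    rw [e]
    exact V.mul_mem (hWV (hVW g x hx)) hx⟩
  have hVA : ∀ α ∈ A, ∀ v ∈ V, α v ∈ V := fun α hα v hv => hV.2 ⟨by
    rw [← map_mul]; exact hWA α hα _ (hV.1 hv).1, fun g => by
    rw [show ⁅α v, g⁆ = α ⁅v, α.symm g⁆ by rw [map_commutatorElement, MulEquiv.apply_symm_apply]]
    exact hWA α hα _ ((hV.1 hv).2 _)⟩
  haveI hCn : (centralizer (V : Set X)).Normal := inferInstance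
  have hsqC : ∀ x : X, x * x ∈ centralizer (V : Set X) := by
    intro x
    refine mem_centralizer_iff.2 fun v hv => (hcomm_eq ?_).symm
    rw [CfsgLib.PGroup.comm_mul_left (h.le_center (hVW x v hv)), h.sq_one _ (hVW x v hv)]
  by_cases hU : V ⊓ centralizer (V : Set X) ≤ W
  · -- `V` is everything
    have hC : centralizer (V : Set X) ≤ W := by
      by_contra hc
      obtain ⟨c, hcC, hcW, hc2, hcg⟩ := exists_central_step hX (D := W) hc
      exact hcW (hU ⟨hV.2 ⟨hc2, hcg⟩, hcC⟩)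
    have hsq : ∀ x : X, x * x ∈ W := fun x => hC (hsqC x)
    have hcomm : ∀ x y : X, ⁅x, y⁆ ∈ W := by
      intro x y
      refine hC (mem_centralizer_iff.2 fun v hv => (hcomm_eq ?_).symm)
      have hm : ∀ a b : X, ⁅a * b, v⁆ = ⁅a, v⁆ * ⁅b, v⁆ := fun a b =>
        CfsgLib.PGroup.comm_mul_left (h.le_center (hVW b v hv))
      have hi : ∀ a : X, ⁅a⁻¹, v⁆ = ⁅a, v⁆⁻¹ := fun a => comm_inv_left h.le_center (hVW a v hv)
      rw [commutatorElement_def x y, hm, hm, hm, hi, hi,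
        mul_assoc (⁅x, v⁆), mem_center_iff.1 (h.le_center (W.inv_mem (hVW x v hv))) ⁅y, v⁆,
        ← mul_assoc, mul_inv_cancel, one_mul, mul_inv_cancel]
    refine ⟨hsq, hcomm, fun z hz => hU ⟨hV.2 ⟨hsq z, hcomm z⟩, ?_⟩⟩
    exact mem_centralizer_iff.2 fun v _ => mem_center_iff.1 hz v
  exfalso
  obtain ⟨u₀, hu₀, hu₀W⟩ := SetLike.not_le_iff_exists.1 hU
  obtain ⟨hu₀V, hu₀C⟩ := mem_inf.1 hu₀
  have hUφ : ∀ u ∈ V ⊓ centralizer (V : Set X), φ u ∈ V ⊓ centralizer (V : Set X) := by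
    intro u hu
    refine ⟨hVA φ hφA u hu.1, mem_centralizer_iff.2 fun v hv => ?_⟩
    have hv' : φ⁻¹ v ∈ V := hVA _ (A.inv_mem hφA) v hv
    have := congrArg φ (mem_centralizer_iff.1 hu.2 _ hv')
    rw [map_mul, map_mul, show φ (φ⁻¹ v) = v from φ.apply_symm_apply v] at this
    exact this
  have hu₀sq : u₀ * u₀ ≠ 1 := fun e => hu₀W (hinv u₀ e (hV.1 hu₀V).2)
  have hsurjU : ∀ w ∈ W, ∃ u ∈ V ⊓ centralizer (V : Set X), u * u = w := by
    intro w hw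
    rcases h.cases (hV.1 hu₀V).1 hu₀sq hw with e | e | e | e
    · exact ⟨1, one_mem _, by rw [e, one_mul]⟩
    · exact ⟨u₀, hu₀, e.symm⟩
    · exact ⟨φ u₀, hUφ _ hu₀, by rw [e, map_mul]⟩
    · refine ⟨u₀ * φ u₀, mul_mem hu₀ (hUφ _ hu₀), ?_⟩
      have hc : u₀ * φ u₀ = φ u₀ * u₀ := (mem_centralizer_iff.1 hu₀C _ (hUφ _ hu₀).1).symm
      calc u₀ * φ u₀ * (u₀ * φ u₀) = u₀ * (φ u₀ * u₀) * φ u₀ := by group
        _ = u₀ * u₀ * (φ u₀ * φ u₀) := by rw [← hc]; group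
        _ = w := by rw [e, map_mul]
  -- `V` is abelian
  have hVc : ∀ a ∈ V, ∀ b ∈ V, a * b = b * a := by
    intro a ha b hb
    obtain ⟨u, hu, hue⟩ := hsurjU _ (hV.1 hb).1
    have hub : b * u = u * b := mem_centralizer_iff.1 hu.2 b hb
    have hm : b * u⁻¹ ∈ V ⊓ centralizer (V : Set X) := by
      have hbW : b * u⁻¹ ∈ W := by
        refine hinv _ ?_ (hV.1 (V.mul_mem hb (V.inv_mem hu.1))).2
        calc b * u⁻¹ * (b * u⁻¹) = b * (u⁻¹ * b) * u⁻¹ := by group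
          _ = b * b * (u⁻¹ * u⁻¹) := by
              rw [show u⁻¹ * b = b * u⁻¹ by
                rw [inv_mul_eq_iff_eq_mul, ← mul_assoc, ← hub, mul_inv_cancel_right]]
              group
          _ = 1 := by rw [← hue]; group
      exact ⟨hWV hbW, center_le_centralizer _ (h.le_center hbW)⟩
    have hbU : b ∈ centralizer (V : Set X) := by
      simpa using (mul_mem hm hu : b * u⁻¹ * u ∈ V ⊓ centralizer (V : Set X)).2
    exact mem_centralizer_iff.1 hbU a ha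
  have hsurjV : ∀ w ∈ W, ∃ v ∈ V, v * v = w := fun w hw =>
    (hsurjU w hw).imp fun v hv => ⟨hv.1.1, hv.2⟩
  have hcongrV : ∀ a ∈ V, ∀ b ∈ V, a * a = b * b → ∀ g : X, ⁅g, a⁆ = ⁅g, b⁆ := by
    intro a ha b hb e g
    have hab : b⁻¹ * a ∈ W := by
      refine hinv _ ?_ (hV.1 (V.mul_mem (V.inv_mem hb) ha)).2
      calc b⁻¹ * a * (b⁻¹ * a) = b⁻¹ * (a * b⁻¹) * a := by group
        _ = b⁻¹ * (b⁻¹ * a) * a := by rw [hVc a ha _ (V.inv_mem hb)]
        _ = (b * b)⁻¹ * (a * a) := by group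
        _ = 1 := by rw [e, inv_mul_cancel]
    have := comm_hom hVc g hb (V.mul_mem (V.inv_mem hb) ha)
    rwa [mul_inv_cancel_left, hww g _ hab, mul_one] at this
  have hS := norm_all h hVW hWV (fun v hv => (hV.1 hv).1) hsurjV hcongrV A hA hφA hWA hVA hXA
  have hVsq : ∀ a ∈ V, ∀ b ∈ V, a * b * (a * b) = a * a * (b * b) := fun a ha b hb => by
    calc a * b * (a * b) = a * (b * a) * b := by group
      _ = a * a * (b * b) := by rw [← hVc a ha b hb]; group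
  have hfix : ∀ g : X, ∀ v ∈ V, v ∉ W → ⁅g, v⁆ = 1 → ∀ a ∈ V, ⁅g, a⁆ = 1 := by
    intro g v hv hvW hgv
    refine h.hom_trivial (fun a => ⁅g, a⁆) (fun a => a * a) (fun a ha b hb => comm_hom hVc g ha hb)
      (fun a ha => hVW g a ha) hVsq (fun a ha => (hV.1 ha).1) ?_ (fun a ha => hVA φ hφA a ha)
      (fun a _ => (map_mul φ a a).symm) (hS g) hv (fun e => hvW (hinv v e (hV.1 hv).2)) hgv
    intro a ha e
    exact hww g a (hinv a e (hV.1 ha).2)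
  -- a maximal abelian invariant normal subgroup above `V`
  obtain ⟨D, hVD, ⟨hDn, hDc, hDφ⟩, hDmax⟩ := Finite.exists_le_maximal
    (p := fun D : Subgroup X => D.Normal ∧ (∀ a ∈ D, ∀ b ∈ D, a * b = b * a) ∧ ∀ a ∈ D, φ a ∈ D)
    (a := V) ⟨hVn, hVc, hVA φ hφA⟩
  haveI := hDn
  have hWD : W ≤ D := hWV.trans hVD
  have hDpow : ∀ a ∈ D, ∀ b ∈ D, ∀ m : ℕ, (a * b) ^ m = a ^ m * b ^ m := fun a ha b hb m =>
    (show Commute a b from hDc a ha b hb).mul_pow m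
  have hΩ : ∀ t ∈ D, t * t = 1 → t ∈ W := by
    let Ω : Subgroup X :=
      { carrier := {t | t ∈ D ∧ t * t = 1}
        one_mem' := ⟨D.one_mem, one_mul 1⟩
        mul_mem' := fun {a b} ha hb => ⟨D.mul_mem ha.1 hb.1, by
          rw [← pow_two, hDpow a ha.1 b hb.1, pow_two, pow_two, ha.2, hb.2, one_mul]⟩
        inv_mem' := fun {a} ha => ⟨D.inv_mem ha.1, by rw [← mul_inv_rev, ha.2, inv_one]⟩ }
    haveI : Ω.Normal := ⟨fun a ha g => ⟨hDn.conj_mem a ha.1 g, by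
      rw [show g * a * g⁻¹ * (g * a * g⁻¹) = g * (a * a) * g⁻¹ by group, ha.2]; group⟩⟩
    have hΩe : Cfsg.IsElementaryAbelian 2 Ω := ⟨⟨⟨fun a b => Subtype.ext (hDc a a.2.1 b b.2.1)⟩⟩,
      fun a ha => by rw [pow_two]; exact ha.2⟩
    have hle : W ≤ Ω := fun w hw => ⟨hWD hw, h.sq_one w hw⟩
    have heq : W = Ω := eq_of_le_of_card_ge hle (by rw [h.card4]; exact hE Ω ‹_› hΩe)
    intro t ht ht2
    rw [heq]
    exact ⟨ht, ht2⟩
  have hD4 : ∀ e ∈ D, e * e ∈ W → e ∈ V := by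
    intro e he he2
    obtain ⟨v, hv, hve⟩ := hsurjV _ he2
    have : e * v⁻¹ ∈ W := by
      refine hΩ _ (D.mul_mem he (D.inv_mem (hVD hv))) ?_
      rw [← pow_two, hDpow e he _ (D.inv_mem (hVD hv)), inv_pow, pow_two, pow_two, hve, mul_inv_cancel]
    simpa using V.mul_mem (hWV this) hv
  -- the exponent
  have hex : ∃ k : ℕ, ∀ d ∈ D, d ^ 2 ^ k = 1 := by
    obtain ⟨k, hk⟩ := hX.exists_card_eq
    exact ⟨k, fun d _ => by rw [← hk, pow_card_eq_one']⟩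
  obtain ⟨n, hn_spec, hn_min⟩ : ∃ n : ℕ, (∀ d ∈ D, d ^ 2 ^ n = 1) ∧
      ∀ m < n, ¬ ∀ d ∈ D, d ^ 2 ^ m = 1 :=
    ⟨Nat.find hex, Nat.find_spec hex, fun m hm => Nat.find_min hex hm⟩
  obtain ⟨N, rfl, hN1⟩ : ∃ N, n = N + 1 ∧ 1 ≤ N := by
    refine ⟨n - 1, ?_, ?_⟩ <;>
    · rcases n with _ | _ | n
      · exact absurd (by simpa using hn_spec u₀ (hVD hu₀V)) (fun e : u₀ = 1 => hu₀W (e ▸ W.one_mem))
      · exact absurd (by simpa [pow_two] using hn_spec u₀ (hVD hu₀V)) hu₀sq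
      · omega
  let π : X → X := fun d => d ^ 2 ^ N
  have hπmul : ∀ a ∈ D, ∀ b ∈ D, π (a * b) = π a * π b := fun a ha b hb => hDpow a ha b hb _
  have hπW : ∀ a ∈ D, π a ∈ W := fun a ha => hΩ _ (D.pow_mem ha _) (by
    rw [← pow_two, ← pow_mul, ← pow_succ]; exact hn_spec a ha)
  have hπφ : ∀ a : X, π (φ a) = φ (π a) := fun a => (map_pow φ a _).symm
  obtain ⟨d₀, hd₀, hd₀1⟩ : ∃ d ∈ D, π d ≠ 1 := by
    by_contra hc
    push Not at hc
    exact hn_min N (Nat.lt_succ_self N) hc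
  have hπsurj : ∀ w ∈ W, ∃ d ∈ D, π d = w := by
    intro w hw
    rcases h.cases (hπW d₀ hd₀) hd₀1 hw with e | e | e | e
    · exact ⟨1, D.one_mem, by simp [π, e]⟩
    · exact ⟨d₀, hd₀, e.symm⟩
    · exact ⟨φ d₀, hDφ _ hd₀, by rw [e, hπφ]⟩
    · exact ⟨d₀ * φ d₀, D.mul_mem hd₀ (hDφ _ hd₀), by rw [e, hπmul _ hd₀ _ (hDφ _ hd₀), hπφ]⟩
  have hker : ∀ k : ℕ, k ≤ N → ∀ d ∈ D, d ^ 2 ^ k = 1 → ∃ e ∈ D, d = e * e := by
    intro k
    induction k with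
    | zero => exact fun _ d _ e => ⟨1, D.one_mem, by simpa using e⟩
    | succ k ih =>
      intro hk d hd e
      obtain ⟨f, hf, hfe⟩ := hπsurj (d ^ 2 ^ k) (hΩ _ (D.pow_mem hd _) (by
        rw [← pow_two, ← pow_mul, ← pow_succ, e]))
      obtain ⟨j, hj⟩ : ∃ j, N = k + (j + 1) := ⟨N - k - 1, by omega⟩
      have hg : f ^ 2 ^ (j + 1) ∈ D := D.pow_mem hf _
      obtain ⟨e', he', hee⟩ := ih (by omega) (d * (f ^ 2 ^ (j + 1))⁻¹)
        (D.mul_mem hd (D.inv_mem hg)) (by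
          rw [hDpow d hd _ (D.inv_mem hg), inv_pow, ← pow_mul, ← pow_add, add_comm (j + 1) k, ← hj]
          show d ^ 2 ^ k * (π f)⁻¹ = 1
          rw [hfe, mul_inv_cancel])
      refine ⟨e' * f ^ 2 ^ j, D.mul_mem he' (D.pow_mem hf _), ?_⟩
      rw [← pow_two (e' * _), hDpow e' he' _ (D.pow_mem hf _), pow_two, ← hee, ← pow_mul, ← pow_succ,
        inv_mul_cancel_right]
  have hπ1 : ∀ w ∈ W, π w = 1 := fun w hw => by
    show w ^ 2 ^ N = 1
    obtain ⟨j, rfl⟩ : ∃ j, N = j + 1 := ⟨N - 1, by omega⟩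
    rw [pow_succ', pow_mul, pow_two, h.sq_one w hw, one_pow]
  -- `D` is self-centralizing
  have hCD : centralizer (D : Set X) ≤ D := by
    by_contra hc
    obtain ⟨c₀, hc₀, hc₀D, hc₀2, hc₀g⟩ := exists_central_step hX (D := D) hc
    have hcomD : ∀ c ∈ centralizer (D : Set X), ∀ d ∈ D, c * d = d * c := fun c hc d hd =>
      (mem_centralizer_iff.1 hc d hd).symm
    have hcl : ∀ a b : X, b ∈ centralizer (D : Set X) → ∀ g : X, ⁅b, g⁆ ∈ D →
        ⁅a * b, g⁆ = a * ⁅b, g⁆ * a⁻¹ * ⁅a, g⁆ := fun a b _ g _ => by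
      simp only [commutatorElement_def]; group
    let Y : Subgroup X :=
      { carrier := {c | c ∈ centralizer (D : Set X) ∧ c * c ∈ D ∧ ∀ g : X, ⁅c, g⁆ ∈ D}
        one_mem' := ⟨one_mem _, by simp, fun g => by simp⟩
        mul_mem' := fun {a b} ha hb => ⟨mul_mem ha.1 hb.1, by
            rw [show a * b * (a * b) = a * ⁅b, a⁆ * (a * b * b) by
              simp [commutatorElement_def, mul_assoc], hcomD a ha.1 _ (hb.2.2 a),
              show ⁅b, a⁆ * a * (a * b * b) = ⁅b, a⁆ * (a * a * (b * b)) by group]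
            exact D.mul_mem (hb.2.2 a) (D.mul_mem ha.2.1 hb.2.1), fun g => by
            rw [hcl a b hb.1 g (hb.2.2 g)]
            exact D.mul_mem (hDn.conj_mem _ (hb.2.2 g) a) (ha.2.2 g)⟩
        inv_mem' := fun {a} ha => ⟨inv_mem ha.1, by
            rw [show a⁻¹ * a⁻¹ = (a * a)⁻¹ by group]; exact D.inv_mem ha.2.1, fun g => by
            rw [show ⁅a⁻¹, g⁆ = a⁻¹ * ⁅a, g⁆⁻¹ * a by simp only [commutatorElement_def]; group]
            simpa using hDn.conj_mem _ (D.inv_mem (ha.2.2 g)) a⁻¹⟩ }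
    have hY : ∀ {c : X}, c ∈ Y ↔ c ∈ centralizer (D : Set X) ∧ c * c ∈ D ∧ ∀ g : X, ⁅c, g⁆ ∈ D :=
      Iff.rfl
    have hYd : ∀ {c g : X}, c ∈ Y → ⁅c * c, g⁆ = ⁅c, g⁆ * ⁅c, g⁆ := fun {c g} hc => by
      rw [hcl c c hc.1 g (hc.2.2 g), hcomD c hc.1 _ (hc.2.2 g), mul_inv_cancel_right]
    have hYW : ∀ a ∈ Y, ∀ b ∈ Y, ⁅a, b⁆ ∈ W := by
      intro a ha b hb
      refine hΩ _ ((hY.1 ha).2.2 b) ?_
      rw [← hYd ha]
      exact commutatorElement_eq_one_iff_mul_comm.2 (hcomD b hb.1 _ ha.2.1).symm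
    have hqW : ∀ c ∈ Y, π (c * c) ∈ W := fun c hc => hπW _ hc.2.1
    have hqmul : ∀ a ∈ Y, ∀ b ∈ Y, π (a * b * (a * b)) = π (a * a) * π (b * b) := by
      intro a ha b hb
      rw [sq_mul (h.le_center (hYW b hb a ha)),
        hπmul _ (hWD (hYW b hb a ha)) _ (D.mul_mem ha.2.1 hb.2.1), hπ1 _ (hYW b hb a ha), one_mul,
        hπmul _ ha.2.1 _ hb.2.1]
    have hqker : ∀ c ∈ Y, π (c * c) = 1 → c ∈ D := by
      intro c hc e
      obtain ⟨d, hd, hde⟩ := hker N le_rfl _ hc.2.1 e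
      have hdY : d⁻¹ ∈ Y := hY.2 ⟨mem_centralizer_iff.2 fun x hx => hDc x hx _ (D.inv_mem hd),
        D.mul_mem (D.inv_mem hd) (D.inv_mem hd), fun g => comm_mem_left (D.inv_mem hd) g⟩
      have ht2 : c * d⁻¹ * (c * d⁻¹) = 1 := by
        calc c * d⁻¹ * (c * d⁻¹) = c * (d⁻¹ * c) * d⁻¹ := by group
          _ = c * c * (d * d)⁻¹ := by rw [← hcomD c hc.1 _ (D.inv_mem hd)]; group
          _ = 1 := by rw [hde, mul_inv_cancel]
      have htY : c * d⁻¹ ∈ Y := Y.mul_mem hc hdY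
      have htW : c * d⁻¹ ∈ W := hinv _ ht2 fun g => hΩ _ (htY.2.2 g) (by
        rw [← hYd htY, ht2, commutatorElement_one_left])
      simpa using D.mul_mem (hWD htW) hd
    have hYφ : ∀ c ∈ Y, φ c ∈ Y := by
      intro c hc
      refine hY.2 ⟨mem_centralizer_iff.2 fun d hd => ?_, by rw [← map_mul]; exact hDφ _ hc.2.1, fun g => ?_⟩
      · haveI : Finite D := inferInstance
        obtain ⟨d', hd'⟩ : ∃ d' : D, φ (d' : X) = d := by
          have hinj : Function.Injective (fun x : D => (⟨φ x, hDφ x x.2⟩ : D)) := fun a b e =>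
            Subtype.ext (φ.injective (congrArg Subtype.val e))
          obtain ⟨d', hd'⟩ := Finite.injective_iff_surjective.1 hinj ⟨d, hd⟩
          exact ⟨d', congrArg Subtype.val hd'⟩
        rw [← hd', ← map_mul, ← map_mul, mem_centralizer_iff.1 hc.1 _ d'.2]
      · rw [show ⁅φ c, g⁆ = φ ⁅c, φ.symm g⁆ by rw [map_commutatorElement, MulEquiv.apply_symm_apply]]
        exact hDφ _ (hc.2.2 _)
    have hc₀Y : c₀ ∈ Y := hY.2 ⟨hc₀, hc₀2, hc₀g⟩
    have hc₁Y := hYφ _ hc₀Y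
    have hrel : ∀ b ∈ Y, ∀ c ∈ Y, π (b * b) = π (c * c) → b⁻¹ * c ∈ D := by
      intro b hb c hc e
      refine hqker _ (Y.mul_mem (Y.inv_mem hb) hc) ?_
      have := hqmul b hb _ (Y.mul_mem (Y.inv_mem hb) hc)
      rw [mul_inv_cancel_left, e, left_eq_mul] at this
      exact this
    have hw₀ : π (c₀ * c₀) ≠ 1 := fun e => hc₀D (hqker _ hc₀Y e)
    have hq1 : π (φ c₀ * φ c₀) = φ (π (c₀ * c₀)) := by rw [← map_mul, hπφ]
    have hc₀₁ : ⁅c₀, φ c₀⁆ = 1 := by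
      refine h.fpf _ (hYW _ hc₀Y _ hc₁Y) ?_
      have hc₂Y := hYφ _ hc₁Y
      have hd := hrel _ (Y.mul_mem hc₀Y hc₁Y) _ hc₂Y (by
        rw [hqmul _ hc₀Y _ hc₁Y, hq1, ← map_mul φ (φ c₀), hπφ, hq1, h.map_map (hqW _ hc₀Y)])
      have e2 : φ (φ c₀) = c₀ * φ c₀ * ((c₀ * φ c₀)⁻¹ * φ (φ c₀)) := by group
      rw [map_commutatorElement, e2]
      rw [CfsgLib.PGroup.comm_mul_right (h.le_center (hYW _ hc₁Y _ (by
          exact hY.2 ⟨mem_centralizer_iff.2 fun x hx => hDc x hx _ hd, D.mul_mem hd hd,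
            fun g => comm_mem_left hd g⟩))),
        commutatorElement_eq_one_iff_mul_comm.2 (hcomD _ hc₁Y.1 _ hd), mul_one,
        CfsgLib.PGroup.comm_mul_right (h.le_center (hYW _ hc₁Y _ hc₁Y)), commutatorElement_self, mul_one,
        ← commutatorElement_inv, h.inv_eq (hYW _ hc₀Y _ hc₁Y)]
    have hYcases : ∀ c ∈ Y, ∃ d ∈ D, c = d ∨ c = c₀ * d ∨ c = φ c₀ * d ∨ c = c₀ * φ c₀ * d := by
      intro c hc
      rcases h.cases (hqW _ hc₀Y) hw₀ (hqW c hc) with e | e | e | e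
      · exact ⟨c, hqker c hc e, Or.inl rfl⟩
      · exact ⟨c₀⁻¹ * c, hrel _ hc₀Y _ hc e.symm, Or.inr (Or.inl (by group))⟩
      · exact ⟨(φ c₀)⁻¹ * c, hrel _ hc₁Y _ hc (hq1.trans e.symm), Or.inr (Or.inr (Or.inl (by group)))⟩
      · refine ⟨(c₀ * φ c₀)⁻¹ * c, hrel _ (Y.mul_mem hc₀Y hc₁Y) _ hc ?_, Or.inr (Or.inr (Or.inr (by group)))⟩
        rw [hqmul _ hc₀Y _ hc₁Y, hq1, e]
    have hgenc : ∀ x ∈ Y, Commute x c₀ → Commute x (φ c₀) → ∀ c ∈ Y, Commute x c := by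
      intro x hx h0 h1 c hc
      obtain ⟨d, hd, e | e | e | e⟩ := hYcases c hc <;> rw [e]
      · exact hcomD x hx.1 d hd
      · exact h0.mul_right (hcomD x hx.1 d hd)
      · exact h1.mul_right (hcomD x hx.1 d hd)
      · exact (h0.mul_right h1).mul_right (hcomD x hx.1 d hd)
    have hc01 : Commute c₀ (φ c₀) := hcomm_eq hc₀₁
    have hall0 := hgenc c₀ hc₀Y (Commute.refl _) hc01
    have hall1 := hgenc (φ c₀) hc₁Y hc01.symm (Commute.refl _)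
    have hYc : ∀ a ∈ Y, ∀ b ∈ Y, a * b = b * a := fun a ha b hb =>
      hgenc a ha (hall0 a ha).symm (hall1 a ha).symm b hb
    have hDY : D ≤ Y := fun d hd => hY.2 ⟨mem_centralizer_iff.2 fun x hx => hDc x hx d hd,
      D.mul_mem hd hd, fun g => comm_mem_left hd g⟩
    have hYn : Y.Normal := ⟨fun c hc g => by
      have e : g * c * g⁻¹ = ⁅c, g⁆⁻¹ * c := by simp [commutatorElement_def, mul_assoc]
      rw [e]
      exact Y.mul_mem (hDY (D.inv_mem (hc.2.2 g))) hc⟩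
    exact hc₀D (hDmax ⟨hYn, hYc, hYφ⟩ hDY hc₀Y)
  have hmemD : ∀ {c : X}, (∀ d ∈ D, ⁅c, d⁆ = 1) → c ∈ D := fun {c} hc =>
    hCD (mem_centralizer_iff.2 fun d hd => (hcomm_eq (hc d hd)).symm)
  -- `D` is everything unless it has exponent four
  have hDtop : ¬ ⊤ ≤ D := fun htop => hna ⟨⟨fun a b => hDc a (htop (mem_top a)) b (htop (mem_top b))⟩⟩
  rcases eq_or_lt_of_le hN1 with hN | hN
  · -- exponent four
    have hDV : D ≤ V := fun d hd => hD4 d hd (hΩ _ (D.mul_mem hd hd) (by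
      have := hn_spec d hd
      rw [← hN] at this
      rw [← this]; simp [pow_succ, mul_assoc]))
    have hsq : ∀ x : X, x * x ∈ W := by
      intro x
      have hxD : x * x ∈ D := hmemD fun d hd =>
        commutatorElement_eq_one_iff_mul_comm.2 (mem_centralizer_iff.1 (hsqC x) d (hDV hd)).symm
      by_contra hxW
      have hxx : ⁅x, x * x⁆ = 1 := commutatorElement_eq_one_iff_mul_comm.2 (by group)
      have hxDm : x ∈ D := hmemD fun d hd => hfix x _ (hDV hxD) hxW hxx d (hDV hd)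
      exact hxW (hV.1 (hDV hxDm)).1
    refine hDtop fun x _ => hVD (hV.2 ⟨hsq x, fun g => ?_⟩)
    have e : ⁅x, g⁆ = (x * g) * (x * g) * (g⁻¹ * (x * x)⁻¹ * g) * (g * g)⁻¹ := by
      simp only [commutatorElement_def]; group
    rw [e]
    exact W.mul_mem (W.mul_mem (hsq _) (by simpa using hWn.conj_mem _ (W.inv_mem (hsq x)) g⁻¹))
      (W.inv_mem (hsq g))
  -- larger exponent
  haveI : (⊤ : Subgroup X).Normal := inferInstance
  obtain ⟨y, -, hyD, hy2, hyg⟩ := exists_central_step hX (D := D) hDtop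
  have hVker : ∀ v ∈ V, π v = 1 := fun v hv => by
    show v ^ 2 ^ N = 1
    obtain ⟨j, rfl⟩ : ∃ j, N = j + 2 := ⟨N - 2, by omega⟩
    rw [show (2 : ℕ) ^ (j + 2) = 4 * 2 ^ j by ring, pow_mul,
      show v ^ 4 = (v * v) * (v * v) by simp [pow_succ, mul_assoc], h.sq_one _ (hV.1 hv).1, one_pow]
  have hrel : ∀ z : X, z * z ∈ D → ∀ d ∈ D, ⁅z, ⁅z, d⁆⁆ * (⁅z, d⁆ * ⁅z, d⁆) = 1 := by
    intro z hz2 d hd
    have e : ⁅z, ⁅z, d⁆⁆ * (⁅z, d⁆ * ⁅z, d⁆) = ⁅z * z, d⁆ := by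
      simp only [commutatorElement_def]; group
    rw [e]
    exact commutatorElement_eq_one_iff_mul_comm.2 (hDc _ hz2 d hd)
  -- elements of the step centralize `V`
  have hzV : ∀ z : X, z * z ∈ D → ∀ v ∈ V, ⁅z, v⁆ = 1 := by
    intro z hz2
    by_contra hc
    push Not at hc
    obtain ⟨v₁, hv₁, hzv₁⟩ := hc
    have key : ∀ v ∈ V, ⁅z, v⁆ = v * v := by
      intro v hv
      by_cases hvW : v ∈ W
      · rw [hww z v hvW, h.sq_one v hvW]
      obtain ⟨d, hd, hde⟩ := hker N le_rfl v (hVD hv) (hVker v hv)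
      have hu2 : ⁅z, d⁆ * ⁅z, d⁆ = ⁅z, v⁆ := by rw [hde, comm_hom hDc z hd hd]
      have huV : ⁅z, d⁆ ∈ V := hD4 _ (comm_mem_right hd z) (hu2 ▸ hVW z v hv)
      have hzu : ⁅z, ⁅z, d⁆⁆ = ⁅z, v⁆ := by
        have := hrel z hz2 d hd
        rw [hu2] at this
        rw [eq_inv_of_mul_eq_one_left this]
        exact h.inv_eq (hVW z v hv)
      have hvu : ⁅z, v⁻¹ * ⁅z, d⁆⁆ = 1 := by
        have := comm_hom hVc z hv (V.mul_mem (V.inv_mem hv) huV)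
        rw [mul_inv_cancel_left, hzu, left_eq_mul] at this
        exact this
      have hvuW : v⁻¹ * ⁅z, d⁆ ∈ W := by
        by_contra hne
        exact hzv₁ (hfix z _ (V.mul_mem (V.inv_mem hv) huV) hne hvu v₁ hv₁)
      calc ⁅z, v⁆ = ⁅z, d⁆ * ⁅z, d⁆ := hu2.symm
        _ = v * (v⁻¹ * ⁅z, d⁆) * (v * (v⁻¹ * ⁅z, d⁆)) := by group
        _ = v * v := by
            rw [hVsq v hv _ (V.mul_mem (V.inv_mem hv) huV), h.sq_one _ hvuW, mul_one]
    apply hzv₁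
    have hp := hS z v₁ hv₁
    have hφV := hVA φ hφA v₁ hv₁
    have hWv := (hV.1 hv₁).1
    rw [key v₁ hv₁, key _ hφV, key _ (hVA φ hφA _ hφV), ← map_mul φ v₁ v₁,
      ← map_mul φ (φ v₁) (φ v₁), ← map_mul φ v₁ v₁, mul_assoc,
      h.sq_one _ (h.map_mem _ (h.map_mem _ hWv)), mul_one] at hp
    rw [key v₁ hv₁]
    exact φ.injective (φ.injective (by rw [hp, map_one, map_one]))
  -- they act trivially modulo `W`
  have hzW : ∀ z : X, z * z ∈ D → ∀ d ∈ D, ⁅z, d⁆ ∈ W := by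
    intro z hz2
    suffices ∀ k : ℕ, ∀ d ∈ D, d ^ 2 ^ k = 1 → ⁅z, d⁆ ∈ W from fun d hd => this _ d hd (hn_spec d hd)
    intro k
    induction k with
    | zero => exact fun d _ e => by rw [show d = 1 by simpa using e]; simp
    | succ k ih =>
      intro d hd e
      have h2 : ⁅z, d⁆ * ⁅z, d⁆ ∈ W := by
        rw [← comm_hom hDc z hd hd]
        exact ih _ (D.mul_mem hd hd) (by rw [← pow_two, ← pow_mul, ← pow_succ', e])
      have huV := hD4 _ (comm_mem_right hd z) h2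
      have := hrel z hz2 d hd
      rw [hzV z hz2 _ huV, one_mul] at this
      exact hΩ _ (comm_mem_right hd z) this
  let Y : Subgroup X :=
    { carrier := {z | z * z ∈ D ∧ ∀ g : X, ⁅z, g⁆ ∈ D}
      one_mem' := ⟨by simp, fun g => by simp⟩
      mul_mem' := fun {a b} ha hb => ⟨by
          rw [show a * b * (a * b) = ⁅a, b⁆ * (b * (a * a) * b⁻¹) * (b * b) by
            simp only [commutatorElement_def]; group]
          exact D.mul_mem (D.mul_mem (ha.2 b) (hDn.conj_mem _ ha.1 b)) hb.1, fun g => by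
          rw [show ⁅a * b, g⁆ = a * ⁅b, g⁆ * a⁻¹ * ⁅a, g⁆ by simp only [commutatorElement_def]; group]
          exact D.mul_mem (hDn.conj_mem _ (hb.2 g) a) (ha.2 g)⟩
      inv_mem' := fun {a} ha => ⟨by
          rw [show a⁻¹ * a⁻¹ = (a * a)⁻¹ by group]; exact D.inv_mem ha.1, fun g => by
          rw [show ⁅a⁻¹, g⁆ = a⁻¹ * ⁅a, g⁆⁻¹ * a by simp only [commutatorElement_def]; group]
          simpa using hDn.conj_mem _ (D.inv_mem (ha.2 g)) a⁻¹⟩ }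
  have hY : ∀ {z : X}, z ∈ Y ↔ z * z ∈ D ∧ ∀ g : X, ⁅z, g⁆ ∈ D := Iff.rfl
  have hqmul : ∀ a ∈ Y, ∀ b ∈ Y, π (a * b * (a * b)) = π (a * a) * π (b * b) := by
    intro a ha b hb
    have h1 : ⁅b, a * a⁆ ∈ W := hzW b hb.1 _ ha.1
    have h2 : ⁅a, b * b⁆ ∈ W := hzW a ha.1 _ hb.1
    have hu : ⁅a, b⁆ ∈ D := ha.2 b
    have h3 : ⁅b, ⁅a, b⁆⁆ ∈ W := hzW b hb.1 _ hu
    have huV : ⁅a, b⁆ ∈ V := by
      refine hD4 _ hu ?_
      have e : ⁅a, b⁆ * ⁅b, ⁅a, b⁆⁆ * ⁅a, b⁆ = ⁅a, b * b⁆ := by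
        simp only [commutatorElement_def]; group
      rw [mem_center_iff.1 (h.le_center h3) ⁅a, b⁆, mul_assoc] at e
      have e2 : ⁅a, b⁆ * ⁅a, b⁆ = ⁅b, ⁅a, b⁆⁆⁻¹ * ⁅a, b * b⁆ := by rw [← e, inv_mul_cancel_left]
      rw [e2]
      exact W.mul_mem (W.inv_mem h3) h2
    rw [show a * b * (a * b) = ⁅a, b⁆ * (⁅b, a * a⁆ * (a * a * (b * b))) by
        simp only [commutatorElement_def]; group,
      hπmul _ hu _ (D.mul_mem (hWD h1) (D.mul_mem ha.1 hb.1)), hVker _ huV, one_mul,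
      hπmul _ (hWD h1) _ (D.mul_mem ha.1 hb.1), hπ1 _ h1, one_mul, hπmul _ ha.1 _ hb.1]
  have hqker : ∀ z ∈ Y, π (z * z) = 1 → z ∈ D := by
    intro z hz e
    obtain ⟨e₁, he₁, hee⟩ := hker N le_rfl _ hz.1 e
    obtain ⟨f, hf, hff⟩ := hsurjV _ (hzW z hz.1 e₁ he₁)
    have hd : e₁⁻¹ * f ∈ D := D.mul_mem (D.inv_mem he₁) (hVD hf)
    have hzd : ⁅z, e₁⁻¹ * f⁆ = ⁅z, e₁⁆⁻¹ := by
      rw [comm_hom hDc z (D.inv_mem he₁) (hVD hf), hzV z hz.1 f hf, mul_one]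
      refine eq_inv_of_mul_eq_one_left ?_
      rw [← comm_hom hDc z (D.inv_mem he₁) he₁, inv_mul_cancel, commutatorElement_one_right]
    have ht2 : z * (e₁⁻¹ * f) * (z * (e₁⁻¹ * f)) = 1 := by
      calc z * (e₁⁻¹ * f) * (z * (e₁⁻¹ * f))
          = ⁅z, e₁⁻¹ * f⁆ * ((e₁⁻¹ * f) * (z * z)) * (e₁⁻¹ * f) := by
            simp only [commutatorElement_def]; group
        _ = ⁅z, e₁⁻¹ * f⁆ * ((z * z) * ((e₁⁻¹ * f) * (e₁⁻¹ * f))) := by
            rw [hDc _ hd _ hz.1]; group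
        _ = 1 := by
            rw [hzd, ← pow_two (e₁⁻¹ * f), hDpow _ (D.inv_mem he₁) _ (hVD hf), inv_pow, pow_two,
              pow_two, hff, hee, mul_inv_cancel_left, inv_mul_cancel]
    have htY : z * (e₁⁻¹ * f) ∈ Y :=
      Y.mul_mem hz (hY.2 ⟨D.mul_mem hd hd, fun g => comm_mem_left hd g⟩)
    have htW : z * (e₁⁻¹ * f) ∈ W := by
      refine hinv _ ht2 fun g => ?_
      have hu := htY.2 g
      have h3 := hzW _ htY.1 _ hu
      have e' : ⁅z * (e₁⁻¹ * f), ⁅z * (e₁⁻¹ * f), g⁆⁆ *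
          (⁅z * (e₁⁻¹ * f), g⁆ * ⁅z * (e₁⁻¹ * f), g⁆) = 1 := by
        have : ⁅z * (e₁⁻¹ * f), ⁅z * (e₁⁻¹ * f), g⁆⁆ * (⁅z * (e₁⁻¹ * f), g⁆ * ⁅z * (e₁⁻¹ * f), g⁆) =
            ⁅z * (e₁⁻¹ * f) * (z * (e₁⁻¹ * f)), g⁆ := by
          simp only [commutatorElement_def]; group
        rw [this, ht2, commutatorElement_one_left]
      have huV := hD4 _ hu (by rw [eq_inv_of_mul_eq_one_right e']; exact W.inv_mem h3)
      rw [hzV _ htY.1 _ huV, one_mul] at e'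
      exact hΩ _ hu e'
    have hz' := D.mul_mem (hWD htW) (D.inv_mem hd)
    rwa [mul_inv_cancel_right] at hz'
  have hyY : y ∈ Y := hY.2 ⟨hy2, hyg⟩
  have hYφ : ∀ z ∈ Y, φ z ∈ Y := fun z hz => hY.2 ⟨by rw [← map_mul]; exact hDφ _ hz.1, fun g => by
    rw [show ⁅φ z, g⁆ = φ ⁅z, φ.symm g⁆ by rw [map_commutatorElement, MulEquiv.apply_symm_apply]]
    exact hDφ _ (hz.2 _)⟩
  have hy₁ := hYφ y hyY
  have hy₂ := hYφ _ hy₁
  have hprod : y * φ y * φ (φ y) ∈ D := by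
    refine hqker _ (Y.mul_mem (Y.mul_mem hyY hy₁) hy₂) ?_
    rw [hqmul _ (Y.mul_mem hyY hy₁) _ hy₂, hqmul _ hyY _ hy₁, ← map_mul φ y y,
      ← map_mul φ (φ y) (φ y), ← map_mul φ y y, hπφ, hπφ, hπφ, ← h.map_map (hπW _ hyY.1),
      h.sq_one _ (h.map_mem _ (h.map_mem _ (hπW _ hyY.1)))]
  have hSy : ∀ d ∈ D, φ (φ ⁅y, d⁆) * φ ⁅y, φ d⁆ * ⁅y, φ (φ d)⁆ = 1 := by
    intro d hd
    have hd1 := hDφ d hd
    have hd2 := hDφ _ hd1
    have e : ⁅y * φ y * φ (φ y), φ (φ d)⁆ = 1 :=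
      commutatorElement_eq_one_iff_mul_comm.2 (hDc _ hprod _ hd2)
    rw [CfsgLib.PGroup.comm_mul_left (h.le_center (hzW _ hy₂.1 _ hd2)),
      CfsgLib.PGroup.comm_mul_left (h.le_center (hzW _ hy₁.1 _ hd2)),
      ← map_commutatorElement φ y, ← map_commutatorElement φ (φ y), ← map_commutatorElement φ y] at e
    rw [mul_assoc, ← mem_center_iff.1 (h.le_center (h.map_mem _ (h.map_mem _ (hzW y hy2 d hd))))
      (φ ⁅y, φ d⁆ * ⁅y, φ (φ d)⁆), mem_center_iff.1 (h.le_center (hzW y hy2 _ hd2)) (φ ⁅y, φ d⁆)]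
    exact e
  have hall := h.hom_trivial (fun a => ⁅y, a⁆) π (fun a ha b hb => comm_hom hDc y ha hb)
    (fun a ha => hzW y hy2 a ha) hπmul hπW (fun a ha e => by
      obtain ⟨e₁, he₁, rfl⟩ := hker N le_rfl a ha e
      rw [comm_hom hDc y he₁ he₁]
      exact h.sq_one _ (hzW y hy2 e₁ he₁)) hDφ (fun a _ => hπφ a) hSy hy2
    (fun e => hyD (hqker y hyY e)) (commutatorElement_eq_one_iff_mul_comm.2 (by group))
  exact hyD (hmemD hall)

end CfsgLib.Techniques.TwoGroupNoSCN
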