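import Cfsg.Prelude.Def_Classical
import Cfsg.Agent.Lib.Classical.HermOrder
import Cfsg.Agent.Lib.Classical.GLOrder
import Cfsg.Agent.Lib.SmallGroups.Order168Model

/-!
A model of the simple group of order 168 inside `SU₃(3)`.
-/

set_option autoImplicit false

namespace CfsgLib.Techniques.UThreeLTwo

open Matrix Cfsg CfsgLib.SmallSimple.O168 CfsgLib.SmallGroups.Model168 CfsgLib.Classical

/-- `re + im i` with `i² = -1` over the field with three elements. -/
structure W9 where
  /-- The first coordinate. -/
  re : ZMod 3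
  /-- The second coordinate. -/
  im : ZMod 3
deriving DecidableEq, Fintype

namespace W9

instance instZeroW9 : Zero W9 := ⟨⟨0, 0⟩⟩
instance instOneW9 : One W9 := ⟨⟨1, 0⟩⟩
instance instAddW9 : Add W9 := ⟨fun x y => ⟨x.re + y.re, x.im + y.im⟩⟩
instance instNegW9 : Neg W9 := ⟨fun x => ⟨-x.re, -x.im⟩⟩
instance instMulW9 : Mul W9 := ⟨fun x y => ⟨x.re * y.re - x.im * y.im, x.re * y.im + x.im * y.re⟩⟩

instance instCommRingW9 : CommRing W9 where
  add_assoc := by decide +kernel
  zero_add := by decide +kernel
  add_zero := by decide +kernel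
  add_comm := by decide +kernel
  left_distrib := by decide +kernel
  right_distrib := by decide +kernel
  zero_mul := by decide +kernel
  mul_zero := by decide +kernel
  mul_assoc := by decide +kernel
  one_mul := by decide +kernel
  mul_one := by decide +kernel
  neg_add_cancel := by decide +kernel
  mul_comm := by decide +kernel
  nsmul := nsmulRec
  zsmul := zsmulRec

/-- The cube. -/
def cube : W9 →+* W9 where
  toFun x := x * x * x
  map_one' := by decide +kernel
  map_mul' := by decide +kernel
  map_zero' := by decide +kernel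
  map_add' := by decide +kernel

theorem ne_zero_isUnit : ∀ x : W9, x = 0 ∨ ∃ y, x * y = 1 := by decide +kernel

theorem exists_hom {F : Type*} [Field F] [Fintype F] (hF : Fintype.card F = 9) :
    ∃ φ : W9 →+* F, Function.Injective φ ∧ ∀ x, φ (cube x) = φ x ^ 3 := by
  obtain ⟨i, hi⟩ := FiniteField.isSquare_neg_one_iff.2 (show Fintype.card F % 4 ≠ 3 by rw [hF]; norm_num)
  haveI h3 : CharP F 3 := by
    obtain ⟨p, hp⟩ := CharP.exists F
    obtain ⟨n, hpr, hn⟩ := FiniteField.card F p
    rw [hF] at hn
    have hd : p ∣ 3 ^ 2 := ⟨p ^ ((n : ℕ) - 1), by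
      rw [← pow_succ', Nat.sub_add_cancel n.pos, ← hn]; norm_num⟩
    rwa [(Nat.prime_dvd_prime_iff_eq hpr Nat.prime_three).1 (hpr.dvd_of_dvd_pow hd)] at hp
  let ι : ZMod 3 →+* F := ZMod.castHom (dvd_refl 3) F
  let φ : W9 →+* F :=
    { toFun := fun x => ι x.re + ι x.im * i
      map_one' := by show ι 1 + ι 0 * i = 1; simp
      map_zero' := by show ι 0 + ι 0 * i = 0; simp
      map_add' := fun x y => by
        show ι (x.re + y.re) + ι (x.im + y.im) * i = _
        rw [map_add, map_add]; ring
      map_mul' := fun x y => by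
        show ι (x.re * y.re - x.im * y.im) + ι (x.re * y.im + x.im * y.re) * i = _
        rw [map_sub, map_add, map_mul, map_mul, map_mul, map_mul]
        linear_combination (ι x.im * ι y.im) * hi }
  refine ⟨φ, (injective_iff_map_eq_zero φ).2 fun x hx => (ne_zero_isUnit x).resolve_right ?_, fun x => ?_⟩
  · rintro ⟨y, hy⟩
    have := congrArg φ hy
    rw [map_mul, hx, zero_mul, map_one] at this
    exact zero_ne_one this
  · show φ (x * x * x) = _
    rw [map_mul, map_mul, pow_three, mul_assoc]

end W9

/-- The element of code `k`. -/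
def el (k : ℕ) : W9 := ⟨((k % 3 : ℕ) : ZMod 3), ((k / 3 % 3 : ℕ) : ZMod 3)⟩

/-- The matrix of code `c`. -/
def dec (c : ℕ) : Matrix (Fin 3) (Fin 3) W9 :=
  Matrix.of fun i j => el (c / 9 ^ (3 * i.val + j.val) % 9)

/-- The matrices of the elements of the model. -/
def mats : List ℕ := [
  37233108, 69032485, 346731636, 4842020, 221284813, 307052710, 317757325, 127694887,
  267297126, 42290371, 136899795, 146318653, 218280390, 189927384, 118832947, 76405620,
  245155528, 290038377, 230303805, 320460291, 325377301, 312797929, 63027341, 331843913,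
  86097843, 297178260, 150066462, 51619428, 1345374, 270117768, 176014451, 40743850,
  280753781, 177551210, 187159927, 83203507, 156487967, 151737964, 61328517, 165981563,
  339784483, 289255960, 52150212, 137745027, 352384643, 100409821, 35854273, 105212389,
  188511494, 14649829, 361970346, 210585319, 196473301, 355785575, 168663323, 21679588,
  304223382, 292772498, 182979120, 59733267, 348664994, 265705422, 225608783, 141529371,
  64192627, 247158600, 248851259, 254002557, 331200934, 147695519, 316612493, 103061063,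
  374772526, 60420213, 305134040, 291155865, 271954846, 22214035, 311567523, 226262062,
  9568368, 26749249, 176544344, 122918723, 113365741, 77301100, 129176681, 309328931,
  283099466, 333612561, 1607931, 291539702, 104589777, 63660124, 267397587, 78104426,
  82827662, 99720913, 368636352, 359395021, 295383775, 354673315, 27974352, 120831447,
  305666363, 110936882, 141297965, 125116411, 217473383, 67749839, 36382132, 154733511,
  202155854, 178247245, 111456493, 258335810, 78363649, 106127430, 205669836, 50558292,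
  74809632, 145821120, 3306798, 164138863, 231262951, 226822571, 202788187, 376624128,
  29176690, 174729645, 307202474, 143189299, 154200135, 119293800, 350089630, 183834925,
  270772727, 98074103, 218973785, 43012086, 278201932, 377998307, 180207803, 363643241,
  28650133, 74059713, 50027508, 98763011, 138490851, 971469, 234528269, 148001412,
  284088936, 293753175, 117784766, 298243068, 232958715, 125621219, 223263515, 374500740,
  108589577, 355437845, 169474110, 347125295, 23434515, 300153542, 149638445, 43053283]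

/-- The matrix of an element of the model. -/
def mc (c : ℕ) : Matrix (Fin 3) (Fin 3) W9 := dec (((elems.zip mats).lookup c).getD 0)

/-- Unimodular unitary matrices over the model. -/
def unitW9 : Submonoid (Matrix (Fin 3) (Fin 3) W9) where
  carrier := {X | X.det = 1 ∧ Xᵀ * X.map W9.cube = 1}
  one_mem' := ⟨Matrix.det_one, by simp [Matrix.map_one]⟩
  mul_mem' := fun {X Y} hX hY => ⟨by rw [Matrix.det_mul, hX.1, hY.1, one_mul], by
    rw [Matrix.transpose_mul, Matrix.map_mul, Matrix.mul_assoc, ← Matrix.mul_assoc Xᵀ, hX.2, Matrix.one_mul, hY.2]⟩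

/-- The codes of the generators. -/
def gens : List ℕ := [code sig, code sig⁻¹, code tau, code tau⁻¹, code wz, code wz⁻¹]

set_option maxRecDepth 100000 in
theorem mc_mul : ∀ g ∈ gens, ∀ c ∈ elems, mc (cm g c) = mc g * mc c := by decide +kernel

set_option maxRecDepth 100000 in
theorem mc_unit : ∀ g ∈ gens, (mc g).det = 1 ∧ (mc g)ᵀ * (mc g).map W9.cube = 1 := by
  simp only [Matrix.det_fin_three]
  decide +kernel

set_option maxRecDepth 100000 in
theorem mc_one : mc CfsgLib.SmallGroups.Model168.one = 1 := by decide +kernel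

set_option maxRecDepth 100000 in
theorem mc_inj : ∀ c ∈ elems, mc c = 1 → c = CfsgLib.SmallGroups.Model168.one := by decide +kernel

theorem mc_hom (p q : Equiv.Perm (Fin 8)) (hp : p ∈ K168) (hq : q ∈ K168) :
    mc (code (p * q)) = mc (code p) * mc (code q) := by
  induction hp using Subgroup.closure_induction_left generalizing q with
  | one => rw [one_mul, code_one, mc_one, Matrix.one_mul]
  | mul_left x hx y hy ih =>
    have hx' : code x ∈ gens := by rcases hx with rfl | rfl | rfl <;> simp [gens]
    rw [mul_assoc, code_mul, mc_mul _ hx' _ ((mem_K168_iff _).1 (mul_mem hy hq)), ih q hq, code_mul,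
      mc_mul _ hx' _ ((mem_K168_iff _).1 hy), Matrix.mul_assoc]
  | inv_mul_cancel x hx y hy ih =>
    have hx' : code x⁻¹ ∈ gens := by rcases hx with rfl | rfl | rfl <;> simp [gens]
    rw [mul_assoc, code_mul, mc_mul _ hx' _ ((mem_K168_iff _).1 (mul_mem hy hq)), ih q hq, code_mul,
      mc_mul _ hx' _ ((mem_K168_iff _).1 hy), Matrix.mul_assoc]

theorem mc_mem (p : Equiv.Perm (Fin 8)) (hp : p ∈ K168) : mc (code p) ∈ unitW9 := by
  induction hp using Subgroup.closure_induction_left with
  | one => rw [code_one, mc_one]; exact one_mem _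
  | mul_left x hx y hy ih =>
    have hx' : code x ∈ gens := by rcases hx with rfl | rfl | rfl <;> simp [gens]
    rw [code_mul, mc_mul _ hx' _ ((mem_K168_iff _).1 hy)]
    exact mul_mem (show mc (code x) ∈ unitW9 from mc_unit _ hx') ih
  | inv_mul_cancel x hx y hy ih =>
    have hx' : code x⁻¹ ∈ gens := by rcases hx with rfl | rfl | rfl <;> simp [gens]
    rw [code_mul, mc_mul _ hx' _ ((mem_K168_iff _).1 hy)]
    exact mul_mem (show mc (code x⁻¹) ∈ unitW9 from mc_unit _ hx') ih

variable {F : Type*} [Field F] [Fintype F]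

set_option maxHeartbeats 1000000 in
theorem exists_injective_hom (hF : Fintype.card F = 9) :
    ∃ ψ : K168 →* SU 3 F 3, Function.Injective ψ := by
  classical
  obtain ⟨φ, hφinj, hφcube⟩ := W9.exists_hom hF
  have hF' : Fintype.card F = 3 ^ 2 := hF
  have hform : ∀ X : unitW9, ∀ u v, hermForm 3 F 3 ((X.1.map φ) *ᵥ u) ((X.1.map φ) *ᵥ v) = hermForm 3 F 3 u v := by
    intro X u v
    have hX : (X.1.map φ)ᵀ * (X.1.map φ).map (· ^ 3) = 1 := by
      have h := congrArg (fun Y : Matrix (Fin 3) (Fin 3) W9 => Y.map φ) X.2.2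
      simp only [Matrix.map_mul, Matrix.map_one, map_zero, map_one, Matrix.transpose_map, Matrix.map_map] at h
      rw [← h]
      congr 1
      ext i j
      simp [hφcube]
    obtain ⟨σ, hσ, -, -⟩ := exists_qPow hF'
    have e1 : ∀ (u v : Fin 3 → F), hermForm 3 F 3 u v = u ⬝ᵥ (σ ∘ v) := fun u v => by
      simp [hermForm, dotProduct, hσ]
    have e2 : σ ∘ ((X.1.map φ) *ᵥ v) = (X.1.map φ).map σ *ᵥ (σ ∘ v) := funext fun i => RingHom.map_mulVec σ _ v i
    rw [e1, e1, e2, Matrix.dotProduct_mulVec, ← Matrix.vecMul_transpose, Matrix.vecMul_vecMul,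
      show ((X.1.map φ).map σ : Matrix (Fin 3) (Fin 3) F) = (X.1.map φ).map (· ^ 3) from congrArg _ (funext hσ), hX,
      Matrix.vecMul_one]
  let Φ : unitW9 →* SU 3 F 3 := MonoidHom.mk'
    (fun X => suMk (X.1.map φ) (by rw [← RingHom.mapMatrix_apply, ← RingHom.map_det, X.2.1, map_one]) (hform X))
    fun X Y => Subtype.ext (Subtype.ext Matrix.map_mul)
  let m : K168 →* unitW9 :=
    { toFun := fun g => ⟨mc (code g.1), mc_mem _ g.2⟩
      map_one' := Subtype.ext (by show mc (code (1 : Equiv.Perm (Fin 8))) = 1; rw [code_one, mc_one])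
      map_mul' := fun a b => Subtype.ext (mc_hom _ _ a.2 b.2) }
  refine ⟨Φ.comp m, (injective_iff_map_eq_one _).2 fun g hg => Subtype.ext (code_injective ?_)⟩
  have h : (mc (code g.1)).map φ = (1 : Matrix (Fin 3) (Fin 3) W9).map φ := by
    rw [Matrix.map_one φ (map_zero φ) (map_one φ)]
    exact congrArg (fun x : SU 3 F 3 => x.1.1) hg
  exact (mc_inj _ ((mem_K168_iff _).1 g.2) (Matrix.map_injective hφinj h)).trans code_one.symm

theorem main (hF : Fintype.card F = 9) {K : Type*} [Field K] [Fintype K] (hK : Fintype.card K = 7) :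
    ∃ H : Subgroup (PSU 3 F 3), Nonempty (H ≃* Matrix.ProjectiveSpecialLinearGroup (Fin 2) K) := by
  classical
  haveI : IsSimpleGroup (Matrix.ProjectiveSpecialLinearGroup (Fin 2) K) :=
    Matrix.ProjectiveSpecialLinearGroup.rank_two_simple (by rw [Nat.card_eq_fintype_card, hK]; norm_num)
  have h := card_PSL_mul (F := K) hK 2 (by norm_num)
  norm_num [Fin.prod_univ_two] at h
  obtain ⟨e⟩ := CfsgLib.SmallSimple.O168.nonempty_iso (G := Matrix.ProjectiveSpecialLinearGroup (Fin 2) K) (by rw [Nat.card_eq_fintype_card]; omega)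
  obtain ⟨ψ, hψ⟩ := exists_injective_hom hF
  have hc : Nat.card (Subgroup.center (SU 3 F 3)) = 1 := by
    rw [card_center_su (q := 3) hF (by norm_num : 2 ≤ 3)]; norm_num
  have hbot : Subgroup.center (SU 3 F 3) = ⊥ := Subgroup.card_eq_one.1 hc
  have hinj : Function.Injective ((QuotientGroup.mk' (Subgroup.center (SU 3 F 3))).comp ψ) := by
    refine (injective_iff_map_eq_one _).2 fun g hg => hψ (?_ : ψ g = ψ 1)
    have : ψ g ∈ Subgroup.center (SU 3 F 3) := (QuotientGroup.eq_one_iff _).1 hg
    rw [hbot, Subgroup.mem_bot] at this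
    rw [this, map_one]
  exact ⟨_, ⟨(MonoidHom.ofInjective hinj).symm.trans e.symm⟩⟩

end CfsgLib.Techniques.UThreeLTwo
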